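import Mathlib

/-! `SL₂` over a commutative ring: unitriangular elements and the group generated by a `k`-family
of upper and a `k λ`-family of lower ones. -/

namespace CfsgLib.Perm.Quad.SL2

open Matrix

variable {R : Type*} [CommRing R]

abbrev SL (R : Type*) [CommRing R] := Matrix.SpecialLinearGroup (Fin 2) R

/-- The upper unitriangular element with entry `r`. -/
def up (r : R) : SL R := ⟨!![1, r; 0, 1], by simp⟩

/-- The lower unitriangular element with entry `r`. -/
def low (r : R) : SL R := ⟨!![1, 0; r, 1], by simp⟩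

theorem up_val (r : R) : (up r).1 = !![1, r; 0, 1] := rfl

theorem low_val (r : R) : (low r).1 = !![1, 0; r, 1] := rfl

theorem ext2 {g h : SL R} (h00 : g.1 0 0 = h.1 0 0) (h01 : g.1 0 1 = h.1 0 1)
    (h10 : g.1 1 0 = h.1 1 0) (h11 : g.1 1 1 = h.1 1 1) : g = h := by
  ext i j
  fin_cases i <;> fin_cases j <;> assumption

theorem mul_apply2 (g h : SL R) (i j : Fin 2) :
    (g * h).1 i j = g.1 i 0 * h.1 0 j + g.1 i 1 * h.1 1 j := by
  rw [Matrix.SpecialLinearGroup.coe_mul, Matrix.mul_apply, Fin.sum_univ_two]

theorem det2 (g : SL R) : g.1 0 0 * g.1 1 1 - g.1 0 1 * g.1 1 0 = 1 := by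
  rw [← Matrix.det_fin_two]; exact g.2

theorem up_add (r s : R) : up r * up s = up (r + s) := by
  apply ext2 <;> simp [mul_apply2, up_val, add_comm]

theorem low_add (r s : R) : low r * low s = low (r + s) := by
  apply ext2 <;> simp [mul_apply2, low_val]

theorem up_zero : up (0 : R) = 1 := by apply ext2 <;> simp [up_val]

theorem low_zero : low (0 : R) = 1 := by apply ext2 <;> simp [low_val]

theorem up_inv (r : R) : (up r)⁻¹ = up (-r) :=
  inv_eq_of_mul_eq_one_right (by rw [up_add, add_neg_cancel, up_zero])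

theorem low_inv (r : R) : (low r)⁻¹ = low (-r) :=
  inv_eq_of_mul_eq_one_right (by rw [low_add, add_neg_cancel, low_zero])

theorem up_injective : Function.Injective (up : R → SL R) := fun r s h => by
  simpa [up_val] using congrArg (fun g : SL R => g.1 0 1) h

theorem low_injective : Function.Injective (low : R → SL R) := fun r s h => by
  simpa [low_val] using congrArg (fun g : SL R => g.1 1 0) h

/-- Parameters of the upper unitriangular elements of a subgroup. -/
def upSet (H : Subgroup (SL R)) : AddSubgroup R where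
  carrier := {r | up r ∈ H}
  zero_mem' := by simp [up_zero]
  add_mem' := fun {r s} (hr : up r ∈ H) (hs : up s ∈ H) => by
    simpa [← up_add] using mul_mem hr hs
  neg_mem' := fun {r} (hr : up r ∈ H) => by simpa [← up_inv] using inv_mem hr

/-- Parameters of the lower unitriangular elements of a subgroup. -/
def lowSet (H : Subgroup (SL R)) : AddSubgroup R where
  carrier := {r | low r ∈ H}
  zero_mem' := by simp [low_zero]
  add_mem' := fun {r s} (hr : low r ∈ H) (hs : low s ∈ H) => by
    simpa [← low_add] using mul_mem hr hs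
  neg_mem' := fun {r} (hr : low r ∈ H) => by simpa [← low_inv] using inv_mem hr

theorem mem_upSet {H : Subgroup (SL R)} {r : R} : r ∈ upSet H ↔ up r ∈ H := Iff.rfl

theorem mem_lowSet {H : Subgroup (SL R)} {r : R} : r ∈ lowSet H ↔ low r ∈ H := Iff.rfl

/-- Conjugating lower by an element with vanishing corner gives upper. -/
theorem conj_low_of_zero {g : SL R} (h0 : g.1 0 0 = 0) (s : R) :
    g⁻¹ * low s * g = up (-(s * g.1 0 1 ^ 2)) := by
  have hd : g.1 0 1 * g.1 1 0 = -1 := by linear_combination (-(1 : R)) * det2 g + g.1 1 1 * h0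
  rw [mul_assoc, inv_mul_eq_iff_eq_mul]
  apply ext2 <;> simp [mul_apply2, up_val, low_val, h0]
  linear_combination (s * g.1 0 1) * hd

/-- Conjugating upper by an element with vanishing corner gives lower. -/
theorem conj_up_of_zero {g : SL R} (h0 : g.1 0 0 = 0) (r : R) :
    g * up r * g⁻¹ = low (-(r * g.1 1 0 ^ 2)) := by
  have hd : g.1 0 1 * g.1 1 0 = -1 := by linear_combination (-(1 : R)) * det2 g + g.1 1 1 * h0
  rw [mul_inv_eq_iff_eq_mul]
  apply ext2 <;> simp [mul_apply2, up_val, low_val, h0]
  linear_combination (r * g.1 1 0) * hd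

theorem conj_mem_of_mem {H : Subgroup (SL R)} {g x : SL R} (hg : g ∈ H) (hx : x ∈ H) :
    g⁻¹ * x * g ∈ H ∧ g * x * g⁻¹ ∈ H :=
  ⟨mul_mem (mul_mem (inv_mem hg) hx) hg, mul_mem (mul_mem hg hx) (inv_mem hg)⟩

/-- If all upper elements and one element with vanishing corner are present, so are all lower ones. -/
theorem low_mem_of_up {H : Subgroup (SL R)} (hU : ∀ r, up r ∈ H) {g : SL R} (hg : g ∈ H)
    (h0 : g.1 0 0 = 0) (s : R) : low s ∈ H := by
  have hd : g.1 0 1 * g.1 1 0 = -1 := by linear_combination (-(1 : R)) * det2 g + g.1 1 1 * h0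
  have := (conj_mem_of_mem hg (hU (-(s * g.1 0 1 ^ 2)))).2
  rw [conj_up_of_zero h0] at this
  convert this using 2
  linear_combination (s - s * g.1 0 1 * g.1 1 0) * hd

section Gen

variable (k : Type*) [Field k] [Algebra k R]

/-- The group generated by `up c`, `low (c λ)`, `c ∈ k`. -/
def gen (lam : R) : Subgroup (SL R) :=
  Subgroup.closure (Set.range (fun c : k => up (algebraMap k R c)) ∪
    Set.range (fun c : k => low (algebraMap k R c * lam)))

theorem up_mem_gen (lam : R) (c : k) : up (algebraMap k R c) ∈ gen k lam :=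
  Subgroup.subset_closure (Or.inl ⟨c, rfl⟩)

theorem low_mem_gen (lam : R) (c : k) : low (algebraMap k R c * lam) ∈ gen k lam :=
  Subgroup.subset_closure (Or.inr ⟨c, rfl⟩)

end Gen

end CfsgLib.Perm.Quad.SL2
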