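import Mathlib
import Cfsg.Agent.Lib.Perm.Quad.SL2Basic

/-! Commutation in `SL₂` of a field. -/

namespace CfsgLib.Perm.Quad.SL2Commute

open Matrix CfsgLib.Perm.Quad.SL2

variable {K : Type*} [Field K]

/-- Noncentral elements. -/
def NC (x : SL K) : Prop := x ≠ 1 ∧ x ≠ -1

theorem eq_one_or_neg_one_of_scalar {y : SL K} (a : K) (h : y.1 = a • (1 : Matrix (Fin 2) (Fin 2) K)) :
    y = 1 ∨ y = -1 := by
  have hd := det2 y
  rw [h] at hd
  simp at hd
  rcases mul_self_eq_one_iff.mp hd with rfl | rfl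
  · left; exact Subtype.ext (by simp [h])
  · right; exact Subtype.ext (by simp [h])

theorem not_scalar {x : SL K} (hx : NC x) :
    ¬ (x.1 0 1 = 0 ∧ x.1 1 0 = 0 ∧ x.1 0 0 = x.1 1 1) := by
  rintro ⟨h1, h2, h3⟩
  rcases eq_one_or_neg_one_of_scalar (y := x) (x.1 0 0)
    (by ext i j; fin_cases i <;> fin_cases j <;> simp [h1, h2, h3]) with h | h
  · exact hx.1 h
  · exact hx.2 h

/-- What commutes with a non-scalar `2 × 2` matrix is a polynomial in it. -/
theorem commute_form {x y : SL K} (hx : NC x) (h : y * x = x * y) :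
    ∃ a b : K, y.1 = a • (1 : Matrix (Fin 2) (Fin 2) K) + b • x.1 := by
  have e00 := congrArg (fun g : SL K => g.1 0 0) h
  have e01 := congrArg (fun g : SL K => g.1 0 1) h
  have e10 := congrArg (fun g : SL K => g.1 1 0) h
  simp only [mul_apply2] at e00 e01 e10
  by_cases h01 : x.1 0 1 = 0
  · by_cases h10 : x.1 1 0 = 0
    · have hne : x.1 0 0 - x.1 1 1 ≠ 0 :=
        fun e => not_scalar hx ⟨h01, h10, sub_eq_zero.mp e⟩
      have hy01 : y.1 0 1 = 0 := by
        have : y.1 0 1 * (x.1 0 0 - x.1 1 1) = 0 := by rw [h01] at e01; linear_combination -e01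
        exact (mul_eq_zero.mp this).resolve_right hne
      have hy10 : y.1 1 0 = 0 := by
        have : y.1 1 0 * (x.1 0 0 - x.1 1 1) = 0 := by rw [h10] at e10; linear_combination e10
        exact (mul_eq_zero.mp this).resolve_right hne
      refine ⟨(x.1 0 0 * y.1 1 1 - x.1 1 1 * y.1 0 0) / (x.1 0 0 - x.1 1 1),
        (y.1 0 0 - y.1 1 1) / (x.1 0 0 - x.1 1 1), ?_⟩
      ext i j
      fin_cases i <;> fin_cases j <;> simp [h01, h10, hy01, hy10] <;> field_simp <;> ring
    · refine ⟨y.1 1 1 - y.1 1 0 / x.1 1 0 * x.1 1 1, y.1 1 0 / x.1 1 0, ?_⟩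
      ext i j
      fin_cases i <;> fin_cases j <;> simp <;> field_simp
      all_goals (first | ring1 | linear_combination e00 | linear_combination -e00 | linear_combination e10 | linear_combination -e10 | linear_combination e01 | linear_combination -e01)
  · refine ⟨y.1 0 0 - y.1 0 1 / x.1 0 1 * x.1 0 0, y.1 0 1 / x.1 0 1, ?_⟩
    ext i j
    fin_cases i <;> fin_cases j <;> simp <;> field_simp
    all_goals (first | ring1 | linear_combination e00 | linear_combination -e00 | linear_combination e10 | linear_combination -e10 | linear_combination e01 | linear_combination -e01)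

theorem commute_of_commute {x y z : SL K} (hx : NC x) (hy : y * x = x * y) (hz : z * x = x * z) :
    y * z = z * y := by
  obtain ⟨a, b, ha⟩ := commute_form hx hy
  obtain ⟨c, d, hc⟩ := commute_form hx hz
  apply Subtype.ext
  rw [Matrix.SpecialLinearGroup.coe_mul, Matrix.SpecialLinearGroup.coe_mul, ha, hc]
  simp [mul_add, add_mul, smul_smul, mul_comm]
  abel

theorem comm_iff {x y : SL K} (hx : NC x) (hy : NC y) (h : y * x = x * y) (z : SL K) :
    z * x = x * z ↔ z * y = y * z :=
  ⟨fun hz => commute_of_commute hx hz h, fun hz => commute_of_commute hy hz h.symm⟩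

theorem trace_inv (x : SL K) : (x⁻¹).1 0 0 + (x⁻¹).1 1 1 = x.1 0 0 + x.1 1 1 := by
  rw [Matrix.SpecialLinearGroup.coe_inv, Matrix.adjugate_fin_two]
  simp [add_comm]

theorem trace_conj (w x : SL K) :
    (w * x * w⁻¹).1 0 0 + (w * x * w⁻¹).1 1 1 = x.1 0 0 + x.1 1 1 := by
  have h := Matrix.trace_mul_cycle w.1 x.1 (w⁻¹).1
  rw [← Matrix.SpecialLinearGroup.coe_mul, ← Matrix.SpecialLinearGroup.coe_mul,
    ← Matrix.SpecialLinearGroup.coe_mul, ← Matrix.SpecialLinearGroup.coe_mul, inv_mul_cancel,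
    one_mul, Matrix.trace_fin_two, Matrix.trace_fin_two] at h
  exact h

theorem eq_self_or_inv {x z : SL K} (hx : NC x) (h2 : (2 : K) ≠ 0)
    (ht : (x.1 0 0 + x.1 1 1) ^ 2 ≠ 4) (hz : z * x = x * z)
    (htr : z.1 0 0 + z.1 1 1 = x.1 0 0 + x.1 1 1) : z = x ∨ z = x⁻¹ := by
  obtain ⟨a, b, ha⟩ := commute_form hx hz
  have hd := det2 z
  have hdx := det2 x
  rw [ha] at hd htr
  simp at hd htr
  have hb : (b - 1) * (b + 1) * ((x.1 0 0 + x.1 1 1) ^ 2 - 4) = 0 := by
    linear_combination (-4 : K) * hd + 4 * b ^ 2 * hdx +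
      (2 * a + (x.1 0 0 + x.1 1 1) * (1 + b)) * htr
  rcases mul_eq_zero.mp hb with hb | hb
  · rcases mul_eq_zero.mp hb with hb | hb
    · left
      obtain rfl : b = 1 := sub_eq_zero.mp hb
      obtain rfl : a = 0 := by
        have : (2 : K) * a = 0 := by linear_combination htr
        exact (mul_eq_zero.mp this).resolve_left h2
      exact Subtype.ext (by simp [ha])
    · right
      obtain rfl : b = -1 := eq_neg_of_add_eq_zero_left hb
      obtain rfl : a = x.1 0 0 + x.1 1 1 := by
        have : (2 : K) * (a - (x.1 0 0 + x.1 1 1)) = 0 := by linear_combination htr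
        exact sub_eq_zero.mp ((mul_eq_zero.mp this).resolve_left h2)
      apply Subtype.ext
      rw [ha, Matrix.SpecialLinearGroup.coe_inv, Matrix.adjugate_fin_two]
      ext i j
      fin_cases i <;> fin_cases j <;> simp
  · exact absurd (sub_eq_zero.mp hb) ht

theorem nc_inv {x : SL K} (hx : NC x) : NC x⁻¹ :=
  ⟨fun e => hx.1 (by simpa using congrArg (·⁻¹) e), fun e => hx.2 (by
    have := congrArg (·⁻¹) e
    simp only [inv_inv] at this
    rw [this]; exact inv_eq_of_mul_eq_one_right (by simp))⟩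

theorem nc_conj {x : SL K} (hx : NC x) (w : SL K) : NC (w * x * w⁻¹) :=
  ⟨fun e => hx.1 (conj_eq_one_iff.mp e), fun e => hx.2 (by
    have : x = w⁻¹ * (-1) * w := by rw [← e]; group
    rw [this]; simp)⟩

end CfsgLib.Perm.Quad.SL2Commute
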