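import Mathlib
import Cfsg.Agent.Lib.Perm.Quad.SL2Commute

/-! A counting argument in the style of Dickson: a subgroup of `SL₂` of a finite field containing
enough upper unitriangular elements and a lower one contains the corresponding subfield group. -/

namespace CfsgLib.Perm.Quad.SL2Count

open Matrix CfsgLib.Perm.Quad.SL2 CfsgLib.Perm.Quad.SL2Commute

theorem card_fibres {α β : Type*} [DecidableEq β] (S : Finset α) (f : α → β) (c : ℕ)
    (h : ∀ a ∈ S, (S.filter fun a' => f a' = f a).card = c) : S.card = (S.image f).card * c := by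
  rw [Finset.card_eq_sum_card_fiberwise (t := S.image f) (fun a ha => Finset.mem_image_of_mem f ha),
    Finset.sum_congr rfl (g := fun _ => c) ?_, Finset.sum_const, smul_eq_mul]
  intro b hb
  obtain ⟨a, ha, rfl⟩ := Finset.mem_image.mp hb
  exact h a ha

variable {K : Type*} [Field K]

/-- trace -/
def tr (g : SL K) : K := g.1 0 0 + g.1 1 1

theorem tr_conj (w x : SL K) : tr (w * x * w⁻¹) = tr x := trace_conj w x

theorem one_ne_neg_one (h2 : (2 : K) ≠ 0) : (1 : SL K) ≠ -1 := fun e => h2 (by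
  have := congrArg (fun g : SL K => g.1 0 0) e
  simp at this
  linear_combination this)

variable [Fintype K]

open Classical in
/-- elements of a subgroup -/
noncomputable def elems (H : Subgroup (SL K)) : Finset (SL K) := Finset.univ.filter (· ∈ H)

open Classical in
/-- upper parameters -/
noncomputable def ups (H : Subgroup (SL K)) : Finset K := Finset.univ.filter (fun r => up r ∈ H)

open Classical in
/-- Borel part -/
noncomputable def borel (H : Subgroup (SL K)) : Finset (SL K) := (elems H).filter (fun g => g.1 1 0 = 0)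

open Classical in
/-- diagonal entries -/
noncomputable def diags (H : Subgroup (SL K)) : Finset K := (borel H).image (fun g => g.1 0 0)

open Classical in
/-- squares of diagonal entries -/
noncomputable def diagSq (H : Subgroup (SL K)) : Finset K := (diags H).image (fun u => u ^ 2)

open Classical in
/-- unipotent type elements -/
noncomputable def unips (H : Subgroup (SL K)) : Finset (SL K) :=
  (elems H).filter (fun g => NC g ∧ tr g ^ 2 = 4)

open Classical in
/-- semisimple type elements -/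
noncomputable def semis (H : Subgroup (SL K)) : Finset (SL K) :=
  (elems H).filter (fun g => NC g ∧ tr g ^ 2 ≠ 4)

open Classical in
/-- upper unipotent type elements -/
noncomputable def upperUnips (H : Subgroup (SL K)) : Finset (SL K) :=
  (elems H).filter (fun g => NC g ∧ g.1 1 0 = 0 ∧ tr g ^ 2 = 4)

open Classical in
/-- centraliser -/
noncomputable def cent (H : Subgroup (SL K)) (x : SL K) : Finset (SL K) :=
  (elems H).filter (fun y => y * x = x * y)

open Classical in
/-- noncentral centraliser -/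
noncomputable def centNC (H : Subgroup (SL K)) (x : SL K) : Finset (SL K) :=
  (elems H).filter (fun y => NC y ∧ y * x = x * y)

open Classical in
/-- the conjugates of the noncentral part of a centraliser -/
noncomputable def orb (H : Subgroup (SL K)) (x : SL K) : Finset (SL K) :=
  (elems H ×ˢ centNC H x).image (fun p => p.1 * p.2 * p.1⁻¹)

open Classical in
/-- finite points of the orbit of the fixed line -/
noncomputable def points (H : Subgroup (SL K)) : Finset K :=
  ((elems H).filter fun g => g.1 1 0 ≠ 0).image (fun g => g.1 0 0 / g.1 1 0)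

variable {H : Subgroup (SL K)}

theorem mem_elems {g : SL K} : g ∈ elems H ↔ g ∈ H := by simp [elems]

theorem mem_ups {r : K} : r ∈ ups H ↔ up r ∈ H := by simp [ups]

theorem mem_borel {g : SL K} : g ∈ borel H ↔ g ∈ H ∧ g.1 1 0 = 0 := by simp [borel, mem_elems]

theorem mem_diags {u : K} : u ∈ diags H ↔ ∃ g ∈ H, g.1 1 0 = 0 ∧ g.1 0 0 = u := by
  simp [diags, mem_borel, and_assoc]

theorem mem_semis {g : SL K} : g ∈ semis H ↔ g ∈ H ∧ NC g ∧ tr g ^ 2 ≠ 4 := by
  simp [semis, mem_elems]

theorem mem_cent {x y : SL K} : y ∈ cent H x ↔ y ∈ H ∧ y * x = x * y := by simp [cent, mem_elems]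

theorem mem_centNC {x y : SL K} : y ∈ centNC H x ↔ y ∈ H ∧ NC y ∧ y * x = x * y := by
  simp [centNC, mem_elems]

theorem zero_mem_ups : (0 : K) ∈ ups H := mem_ups.mpr (by rw [up_zero]; exact one_mem H)

theorem card_elems : (elems H).card = Nat.card H := by
  classical
  rw [Nat.card_eq_fintype_card, Fintype.card_of_subtype (elems H) (fun g => mem_elems)]

theorem card_ups : (ups H).card = Nat.card (upSet H) := by
  classical
  rw [Nat.card_eq_fintype_card,
    Fintype.card_of_subtype (p := fun r => r ∈ upSet H) (ups H) (fun g => mem_ups.trans mem_upSet.symm)]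

theorem diag_det {g : SL K} (hg : g.1 1 0 = 0) : g.1 0 0 * g.1 1 1 = 1 := by
  have := det2 g; rwa [hg, mul_zero, sub_zero] at this

theorem diag_ne_zero {u : K} (hu : u ∈ diags H) : u ≠ 0 := by
  obtain ⟨g, -, h, rfl⟩ := mem_diags.mp hu
  exact left_ne_zero_of_mul_eq_one (diag_det h)

theorem one_mem_diags : (1 : K) ∈ diags H := mem_diags.mpr ⟨1, one_mem H, by simp, by simp⟩

theorem mul_mem_diags {u v : K} (hu : u ∈ diags H) (hv : v ∈ diags H) : u * v ∈ diags H := by
  obtain ⟨g, hg, h, rfl⟩ := mem_diags.mp hu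
  obtain ⟨g', hg', h', rfl⟩ := mem_diags.mp hv
  exact mem_diags.mpr ⟨g * g', mul_mem hg hg', by simp [mul_apply2, h, h'], by simp [mul_apply2, h']⟩

theorem inv_mem_diags {u : K} (hu : u ∈ diags H) : u⁻¹ ∈ diags H := by
  obtain ⟨g, hg, h, rfl⟩ := mem_diags.mp hu
  refine mem_diags.mpr ⟨g⁻¹, inv_mem hg, ?_, ?_⟩
  · simp [Matrix.SpecialLinearGroup.coe_inv, Matrix.adjugate_fin_two, h]
  · simp [Matrix.SpecialLinearGroup.coe_inv, Matrix.adjugate_fin_two]
    exact eq_inv_of_mul_eq_one_right (diag_det h)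

/-- The diagonal entries as a group of units. -/
noncomputable def diagGroup (H : Subgroup (SL K)) : Subgroup Kˣ where
  carrier := {u | (u : K) ∈ diags H}
  one_mem' := one_mem_diags
  mul_mem' := fun {u v} hu hv => by simpa using mul_mem_diags hu hv
  inv_mem' := fun {u} hu => by simpa using inv_mem_diags hu

theorem card_diagGroup : Nat.card (diagGroup H) = (diags H).card := by
  classical
  rw [← Fintype.card_coe (diags H), ← Nat.card_eq_fintype_card]
  exact Nat.card_congr (Equiv.ofBijective (fun u => (⟨(u.1 : K), u.2⟩ : diags H))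
    ⟨fun u v e => Subtype.ext (Units.ext (congrArg Subtype.val e)),
     fun c => ⟨⟨Units.mk0 _ (diag_ne_zero c.2), c.2⟩, rfl⟩⟩)

theorem card_borel : (borel H).card = (diags H).card * (ups H).card := by
  classical
  refine card_fibres (borel H) _ _ fun g hg => ?_
  rw [show ((borel H).filter fun g' => g'.1 0 0 = g.1 0 0) = (ups H).image (fun r => g * up r) from ?_,
    Finset.card_image_of_injective _ fun r s h => up_injective (mul_left_cancel h)]
  obtain ⟨hgH, hg10⟩ := mem_borel.mp hg
  have d1 := diag_det hg10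
  ext g'
  simp only [Finset.mem_filter, Finset.mem_image, mem_borel]
  constructor
  · rintro ⟨⟨hg', h10⟩, h00⟩
    have d2 := diag_det h10
    have h11 : g'.1 1 1 = g.1 1 1 := by
      rw [h00] at d2
      exact mul_left_cancel₀ (left_ne_zero_of_mul_eq_one d1) (d2.trans d1.symm)
    have hinv : g⁻¹ * g' = up ((g⁻¹ * g').1 0 1) := by
      apply ext2 <;> simp [up_val, mul_apply2, Matrix.SpecialLinearGroup.coe_inv,
        Matrix.adjugate_fin_two, hg10, h10, h00, h11]
      · linear_combination d1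
      · linear_combination d1
    exact ⟨_, mem_ups.mpr (hinv ▸ mul_mem (inv_mem hgH) hg'), by rw [← hinv, mul_inv_cancel_left]⟩
  · rintro ⟨r, hr, rfl⟩
    exact ⟨⟨mul_mem hgH (mem_ups.mp hr), by simp [mul_apply2, up_val, hg10]⟩,
      by simp [mul_apply2, up_val]⟩

theorem card_diags (h2 : (2 : K) ≠ 0) (hneg : (-1 : SL K) ∈ H) :
    (diags H).card = (diagSq H).card * 2 := by
  classical
  refine card_fibres (diags H) _ 2 fun u hu => ?_
  rw [show ((diags H).filter fun u' => u' ^ 2 = u ^ 2) = {u, -u} from ?_, Finset.card_pair]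
  · intro e
    have : (2 : K) * u = 0 := by linear_combination e
    exact diag_ne_zero hu ((mul_eq_zero.mp this).resolve_left h2)
  · ext u'
    simp only [Finset.mem_filter, Finset.mem_insert, Finset.mem_singleton]
    constructor
    · rintro ⟨-, he⟩; exact sq_eq_sq_iff_eq_or_eq_neg.mp he
    · rintro (rfl | rfl)
      · exact ⟨hu, rfl⟩
      · obtain ⟨g, hg, h, rfl⟩ := mem_diags.mp hu
        exact ⟨mem_diags.mpr ⟨-1 * g, mul_mem hneg hg, by simp [h], by simp⟩, by ring⟩

theorem diagSq_mul_ups {w r : K} (hw : w ∈ diagSq H) (hr : r ∈ ups H) : w * r ∈ ups H := by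
  classical
  obtain ⟨u, hu, rfl⟩ := Finset.mem_image.mp hw
  obtain ⟨g, hg, h, rfl⟩ := mem_diags.mp hu
  have hd := diag_det h
  have : g * up r * g⁻¹ = up (g.1 0 0 ^ 2 * r) := by
    rw [mul_inv_eq_iff_eq_mul]
    apply ext2 <;> simp [up_val, mul_apply2, h]
    linear_combination -(g.1 0 0 * r) * hd
  exact mem_ups.mpr (this ▸ (conj_mem_of_mem hg (mem_ups.mp hr)).2)

theorem zero_notMem_diagSq : (0 : K) ∉ diagSq H := by
  classical
  intro h
  obtain ⟨u, hu, he⟩ := Finset.mem_image.mp h
  exact diag_ne_zero hu (pow_eq_zero_iff two_ne_zero |>.mp he)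

theorem one_mem_diagSq : (1 : K) ∈ diagSq H := by
  classical
  exact Finset.mem_image.mpr ⟨1, one_mem_diags, one_pow 2⟩

/-- `|H| = (|Z| + 1) |N|`. -/
theorem card_elems_eq : (elems H).card = ((points H).card + 1) * (borel H).card := by
  classical
  let P : SL K → Option K := fun g => if g.1 1 0 = 0 then none else some (g.1 0 0 / g.1 1 0)
  have hfib : ∀ g ∈ elems H, ((elems H).filter fun g' => P g' = P g).card = (borel H).card := by
    intro g hg
    rw [show ((elems H).filter fun g' => P g' = P g) = (borel H).image (fun n => g * n) from ?_,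
      Finset.card_image_of_injective _ (mul_right_injective g)]
    ext g'
    simp only [Finset.mem_filter, Finset.mem_image, mem_elems]
    constructor
    · rintro ⟨hg', he⟩
      refine ⟨g⁻¹ * g', mem_borel.mpr ⟨mul_mem (inv_mem (mem_elems.mp hg)) hg', ?_⟩,
        mul_inv_cancel_left _ _⟩
      simp only [mul_apply2, Matrix.SpecialLinearGroup.coe_inv, Matrix.adjugate_fin_two]
      simp only [P] at he
      split_ifs at he with ha hb hb
      · simp [ha, hb]
      · rw [Option.some_inj, div_eq_div_iff ha hb] at he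
        simp
        linear_combination -he
    · rintro ⟨n, hn, rfl⟩
      obtain ⟨hnH, hn10⟩ := mem_borel.mp hn
      refine ⟨mul_mem (mem_elems.mp hg) hnH, ?_⟩
      have := left_ne_zero_of_mul_eq_one (diag_det hn10)
      simp only [P, mul_apply2, hn10, mul_zero, add_zero, mul_eq_zero, this, or_false]
      split_ifs with h
      · rfl
      · rw [mul_div_mul_right _ _ this]
  rw [card_fibres (elems H) P _ hfib]
  congr 1
  have : (elems H).image P = insert none ((points H).image some) := by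
    ext o
    simp only [Finset.mem_image, Finset.mem_insert, points, Finset.mem_filter, P]
    constructor
    · rintro ⟨g, hg, rfl⟩
      split_ifs with h
      · exact Or.inl rfl
      · exact Or.inr ⟨_, ⟨g, ⟨hg, h⟩, rfl⟩, rfl⟩
    · rintro (rfl | ⟨_, ⟨g, ⟨hg, h⟩, rfl⟩, rfl⟩)
      · exact ⟨1, mem_elems.mpr (one_mem H), by simp⟩
      · exact ⟨g, hg, by rw [if_neg h]⟩
  rw [this, Finset.card_insert_of_notMem (by simp),
    Finset.card_image_of_injective _ (Option.some_injective K)]

theorem points_add {z r : K} (hz : z ∈ points H) (hr : r ∈ ups H) : z + r ∈ points H := by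
  classical
  obtain ⟨g, hg, rfl⟩ := Finset.mem_image.mp hz
  obtain ⟨hgH, hg10⟩ := Finset.mem_filter.mp hg
  refine Finset.mem_image.mpr ⟨up r * g, Finset.mem_filter.mpr
    ⟨mem_elems.mpr (mul_mem (mem_ups.mp hr) (mem_elems.mp hgH)),
     by simpa [mul_apply2, up_val] using hg10⟩, ?_⟩
  simp [mul_apply2, up_val, add_div, hg10]

theorem ups_dvd_points : (ups H).card ∣ (points H).card := by
  classical
  refine ⟨((points H).image (fun z => (QuotientAddGroup.mk z : K ⧸ upSet H))).card, ?_⟩
  rw [mul_comm]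
  refine card_fibres (points H) _ _ fun z hz => ?_
  rw [show ((points H).filter fun z' => (QuotientAddGroup.mk z' : K ⧸ upSet H) = QuotientAddGroup.mk z)
    = (ups H).image (fun r => z + r) from ?_, Finset.card_image_of_injective _ (add_right_injective z)]
  ext z'
  simp only [Finset.mem_filter, Finset.mem_image, QuotientAddGroup.eq]
  constructor
  · rintro ⟨-, h⟩
    refine ⟨z' - z, mem_ups.mpr ?_, add_sub_cancel z z'⟩
    rw [sub_eq_neg_add]; simpa [mem_upSet] using neg_mem h
  · rintro ⟨r, hr, rfl⟩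
    exact ⟨points_add hz hr, mem_upSet.mpr (by simpa [up_inv] using inv_mem (mem_ups.mp hr))⟩

theorem div_mem_points {l : K} (hl : l ≠ 0) (h : low l ∈ H) : 1 / l ∈ points H := by
  classical
  exact Finset.mem_image.mpr ⟨low l, Finset.mem_filter.mpr
    ⟨mem_elems.mpr h, by simpa [low_val] using hl⟩, by simp [low_val]⟩

theorem card_split (h2 : (2 : K) ≠ 0) (hneg : (-1 : SL K) ∈ H) :
    (elems H).card = 2 + (unips H).card + (semis H).card := by
  classical
  have h2c : ((elems H).filter fun g => ¬ NC g).card = 2 := by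
    rw [← Finset.card_pair (one_ne_neg_one h2)]
    congr 1
    ext g
    rw [Finset.mem_filter, mem_elems, Finset.mem_insert, Finset.mem_singleton]
    unfold NC
    constructor
    · rintro ⟨-, hg⟩
      by_cases h : g = 1
      · exact Or.inl h
      · exact Or.inr (not_not.mp fun h' => hg ⟨h, h'⟩)
    · rintro (rfl | rfl)
      · exact ⟨one_mem H, fun hn => hn.1 rfl⟩
      · exact ⟨hneg, fun hn => hn.2 rfl⟩
  have e1 := Finset.card_filter_add_card_filter_not (s := elems H) (fun g => NC g)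
  have e2 := Finset.card_filter_add_card_filter_not (s := (elems H).filter fun g => NC g)
    (fun g => tr g ^ 2 = 4)
  rw [Finset.filter_filter, Finset.filter_filter] at e2
  have u1 : (unips H).card = ((elems H).filter fun g => NC g ∧ tr g ^ 2 = 4).card := by
    rw [unips]
  have u2 : (semis H).card = ((elems H).filter fun g => NC g ∧ ¬ tr g ^ 2 = 4).card := by
    rw [semis]
  omega

theorem diag_eq_of_tr {a : SL K} (h10 : a.1 1 0 = 0) (htr : tr a ^ 2 = 4) :
    a.1 0 0 = a.1 1 1 ∧ a.1 0 0 ^ 2 = 1 := by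
  have hd := diag_det h10
  have he : (a.1 0 0 - a.1 1 1) ^ 2 = 0 := by simp only [tr] at htr; linear_combination htr - 4 * hd
  have := sub_eq_zero.mp (pow_eq_zero_iff two_ne_zero |>.mp he)
  exact ⟨this, by linear_combination hd + a.1 0 0 * this⟩

theorem card_upperUnips (h2 : (2 : K) ≠ 0) (hneg : (-1 : SL K) ∈ H) :
    (upperUnips H).card = 2 * ((ups H).card - 1) := by
  classical
  have hset : upperUnips H = ((ups H).erase 0).image up ∪ ((ups H).erase 0).image (fun r => -up r) := by
    ext g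
    simp only [upperUnips, Finset.mem_filter, Finset.mem_union, Finset.mem_image, Finset.mem_erase,
      mem_elems]
    constructor
    · rintro ⟨hg, hnc, h10, htr⟩
      obtain ⟨h11, hsq⟩ := diag_eq_of_tr h10 htr
      rcases sq_eq_one_iff.mp hsq with h | h
      · left
        have e : g = up (g.1 0 1) := by apply ext2 <;> simp [up_val, h, h10, ← h11]
        exact ⟨g.1 0 1, ⟨fun e0 => hnc.1 (by rw [e, e0, up_zero]), mem_ups.mpr (e ▸ hg)⟩, e.symm⟩
      · right
        have e : g = -up (-g.1 0 1) := by apply ext2 <;> simp [up_val, h, h10, ← h11]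
        refine ⟨-g.1 0 1, ⟨fun e0 => hnc.2 (by rw [e, e0, up_zero]), mem_ups.mpr ?_⟩, e.symm⟩
        have := mul_mem hneg hg
        rw [e] at this
        simpa using this
    · rintro (⟨r, ⟨hr0, hr⟩, rfl⟩ | ⟨r, ⟨hr0, hr⟩, rfl⟩)
      · refine ⟨mem_ups.mp hr, ⟨fun e => hr0 (up_injective (e.trans up_zero.symm)), fun e => h2 ?_⟩,
          by simp [up_val], by norm_num [tr, up_val]⟩
        have := congrArg (fun g : SL K => g.1 0 0) e
        simp [up_val] at this
        linear_combination this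
      · refine ⟨by simpa using mul_mem hneg (mem_ups.mp hr), ⟨fun e => h2 ?_, fun e => hr0 ?_⟩,
          by simp [up_val], by norm_num [tr, up_val]⟩
        · have := congrArg (fun g : SL K => g.1 0 0) e
          simp [up_val] at this
          linear_combination -this
        · exact up_injective ((neg_injective e).trans up_zero.symm)
  rw [hset, Finset.card_union_of_disjoint, Finset.card_image_of_injective _ up_injective,
    Finset.card_image_of_injective _ (fun r s h => up_injective (neg_injective h)),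
    Finset.card_erase_of_mem zero_mem_ups]
  · omega
  · rw [Finset.disjoint_left]
    intro g hg hg'
    obtain ⟨r, -, rfl⟩ := Finset.mem_image.mp hg
    obtain ⟨s, -, hs⟩ := Finset.mem_image.mp hg'
    have := congrArg (fun g : SL K => g.1 0 0) hs
    simp [up_val] at this
    exact h2 (by linear_combination -this)

open Classical in
/-- A conjugation orbit count. -/
theorem conj_count {A W : Finset (SL K)} (hW : ∀ w ∈ W, w ∈ H)
    (hWA : ∀ w ∈ W, ∀ a ∈ A, w * a * w⁻¹ ∈ A)
    (hAW : ∀ w ∈ H, ∀ a ∈ A, w * a * w⁻¹ ∈ A → w ∈ W) :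
    (elems H).card * A.card =
      ((elems H ×ˢ A).image (fun p => p.1 * p.2 * p.1⁻¹)).card * W.card := by
  rw [← Finset.card_product]
  refine card_fibres _ _ _ ?_
  rintro ⟨h, a⟩ hp
  obtain ⟨hh, ha⟩ := Finset.mem_product.mp hp
  rw [show ((elems H ×ˢ A).filter fun p => p.1 * p.2 * p.1⁻¹ = h * a * h⁻¹) =
    W.image (fun w => (h * w⁻¹, w * a * w⁻¹)) from ?_,
    Finset.card_image_of_injective _ fun w w' e => by simpa using congrArg Prod.fst e]
  ext ⟨h', a'⟩
  simp only [Finset.mem_filter, Finset.mem_product, Finset.mem_image, Prod.mk.injEq, mem_elems]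
  constructor
  · rintro ⟨⟨hh', ha'⟩, he⟩
    have e : a' = (h'⁻¹ * h) * a * (h'⁻¹ * h)⁻¹ := by
      calc a' = h'⁻¹ * (h' * a' * h'⁻¹) * h' := by group
        _ = _ := by rw [he]; group
    exact ⟨h'⁻¹ * h, hAW _ (mul_mem (inv_mem hh') (mem_elems.mp hh)) a ha (e ▸ ha'), by group, e.symm⟩
  · rintro ⟨w, hw, rfl, rfl⟩
    exact ⟨⟨mul_mem (mem_elems.mp hh) (inv_mem (hW w hw)), hWA w hw a ha⟩, by group⟩

theorem pow_char_eq_one (p : ℕ) [CharP K p] {y : SL K} (hy : y.1 0 0 + y.1 1 1 = 2) : y ^ p = 1 := by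
  apply Subtype.ext
  have hsq : (y.1 - 1) * (y.1 - 1) = 0 := by
    have hd := det2 y
    ext i j
    fin_cases i <;> fin_cases j <;> simp [Matrix.mul_apply, Fin.sum_univ_two]
    · linear_combination y.1 0 0 * hy - hd
    · linear_combination y.1 0 1 * hy
    · linear_combination y.1 1 0 * hy
    · linear_combination y.1 1 1 * hy - hd
  have e : ∀ n : ℕ, y.1 ^ n = 1 + n • (y.1 - 1) := by
    intro n
    induction n with
    | zero => simp
    | succ n ih =>
      rw [pow_succ, ih, succ_nsmul]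
      calc (1 + n • (y.1 - 1)) * y.1
          = 1 + (n • (y.1 - 1) + (y.1 - 1)) + n • ((y.1 - 1) * (y.1 - 1)) := by
            rw [← smul_mul_assoc]; noncomm_ring
        _ = _ := by rw [hsq, smul_zero, add_zero]
  rw [Matrix.SpecialLinearGroup.coe_pow, e, Matrix.SpecialLinearGroup.coe_one,
    ← Nat.cast_smul_eq_nsmul K, CharP.cast_eq_zero, zero_smul, add_zero]

/-- The upper unitriangular elements of `H`, as a subgroup. -/
def upSubgroup (H : Subgroup (SL K)) : Subgroup H where
  carrier := {g | ∃ r, up r = (g : SL K)}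
  one_mem' := ⟨0, up_zero⟩
  mul_mem' := fun {a b} ⟨r, hr⟩ ⟨s, hs⟩ => ⟨r + s, by rw [← up_add, hr, hs]; rfl⟩
  inv_mem' := fun {a} ⟨r, hr⟩ => ⟨-r, by rw [← up_inv, hr]; rfl⟩

theorem card_upSubgroup : Nat.card (upSubgroup H) = (ups H).card := by
  classical
  rw [← Fintype.card_coe (ups H), ← Nat.card_eq_fintype_card]
  refine (Nat.card_congr (Equiv.ofBijective
    (fun r : ups H => (⟨⟨up r.1, mem_ups.mp r.2⟩, r.1, rfl⟩ : upSubgroup H))
    ⟨fun r s e => ?_, fun g => ?_⟩)).symm
  · exact Subtype.ext (up_injective (congrArg (fun g : upSubgroup H => ((g : H) : SL K)) e))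
  · obtain ⟨r, hr⟩ := g.2
    exact ⟨⟨r, mem_ups.mpr (hr ▸ g.1.2)⟩, Subtype.ext (Subtype.ext hr)⟩

theorem exists_conj_upper (h2 : (2 : K) ≠ 0) (hneg : (-1 : SL K) ∈ H) (h1 : up (1 : K) ∈ H)
    {x : SL K} (hxH : x ∈ H) (hxt : tr x ^ 2 = 4) :
    ∃ w ∈ H, (w⁻¹ * x * w).1 1 0 = 0 := by
  classical
  obtain ⟨p, _⟩ := CharP.exists K
  haveI : Fact p.Prime := ⟨CharP.char_is_prime K p⟩
  obtain ⟨x', hx', hx'H, hpow⟩ : ∃ x' : SL K, (x = x' ∨ x = -x') ∧ x' ∈ H ∧ x' ^ p = 1 := by
    have : (tr x - 2) * (tr x + 2) = 0 := by linear_combination hxt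
    rcases mul_eq_zero.mp this with h | h
    · exact ⟨x, Or.inl rfl, hxH, pow_char_eq_one p (sub_eq_zero.mp h)⟩
    · refine ⟨-x, Or.inr (by simp), by simpa using mul_mem hneg hxH, pow_char_eq_one p ?_⟩
      simp [tr] at h ⊢
      linear_combination -h
  have hUp : IsPGroup p (upSubgroup H) := fun g => by
    refine ⟨1, Subtype.ext (Subtype.ext ?_)⟩
    obtain ⟨r, hr⟩ := g.2
    have : (up r) ^ p = 1 := pow_char_eq_one p (by norm_num [up_val])
    rw [hr] at this
    simpa using this
  have hidx : ¬ p ∣ (upSubgroup H).index := by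
    intro hdvd
    have hidxv : (upSubgroup H).index = ((points H).card + 1) * (diags H).card := by
      have := (upSubgroup H).card_mul_index
      rw [card_upSubgroup, ← card_elems, card_elems_eq, card_borel] at this
      exact Nat.eq_of_mul_eq_mul_left (Finset.card_pos.mpr ⟨_, zero_mem_ups⟩) (this.trans (by ring))
    obtain ⟨a, ha⟩ := IsPGroup.iff_card.mp hUp
    have hpq : p ∣ (ups H).card := by
      rw [← card_upSubgroup, ha]
      refine dvd_pow_self p fun e => ?_
      rw [e, pow_zero, card_upSubgroup] at ha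
      have : ({0, 1} : Finset K) ⊆ ups H := by
        simp [Finset.insert_subset_iff, mem_ups.mpr h1, zero_mem_ups]
      have := Finset.card_le_card this
      rw [Finset.card_pair (zero_ne_one' K)] at this
      omega
    have hpC : ¬ p ∣ (diags H).card := by
      intro hd
      have h3 : p ∣ Fintype.card K - 1 := by
        refine hd.trans ?_
        rw [← card_diagGroup, ← Fintype.card_units, ← Nat.card_eq_fintype_card]
        exact Subgroup.card_subgroup_dvd_card _
      obtain ⟨n, -, hn⟩ := FiniteField.card K p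
      have h4 : p ∣ Fintype.card K := by rw [hn]; exact dvd_pow_self p n.2.ne'
      have h5 := Nat.dvd_sub h4 h3
      rw [Nat.sub_sub_self Fintype.card_pos] at h5
      exact (Fact.out : p.Prime).one_lt.ne' (Nat.dvd_one.mp h5)
    rw [hidxv] at hdvd
    rcases (Fact.out : p.Prime).dvd_mul.mp hdvd with h | h
    · have := (Nat.dvd_add_right (hpq.trans ups_dvd_points)).mp h
      exact (Fact.out : p.Prime).one_lt.ne' (Nat.dvd_one.mp this)
    · exact hpC h
  let Psy : Sylow p H := hUp.toSylow hidx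
  have hzp : IsPGroup p (Subgroup.zpowers (⟨x', hx'H⟩ : H)) := by
    intro g
    obtain ⟨i, hi⟩ := Subgroup.mem_zpowers_iff.mp g.2
    refine ⟨1, Subtype.ext ?_⟩
    rw [SubmonoidClass.coe_pow, pow_one, ← hi, ← zpow_natCast, ← _root_.zpow_mul, mul_comm, _root_.zpow_mul,
      zpow_natCast, show (⟨x', hx'H⟩ : H) ^ p = 1 from Subtype.ext (by simpa using hpow), _root_.one_zpow]
    rfl
  obtain ⟨Q, hQ⟩ := hzp.exists_le_sylow
  obtain ⟨w, hw⟩ := MulAction.exists_smul_eq H Psy Q
  have hmem : (⟨x', hx'H⟩ : H) ∈ (Q : Subgroup H) := hQ (Subgroup.mem_zpowers _)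
  rw [← hw, Sylow.coe_subgroup_smul, Subgroup.mem_pointwise_smul_iff_inv_smul_mem] at hmem
  obtain ⟨r, hr⟩ : ∃ r, up r = (((MulAut.conj w)⁻¹ • (⟨x', hx'H⟩ : H)) : H).1 := hmem
  have hrx : up r = (w : SL K)⁻¹ * x' * (w : SL K) := by
    rw [hr]; simp [MulAut.smul_def, MulAut.inv_def, MulAut.conj_symm_apply]
  refine ⟨w, w.2, ?_⟩
  rcases hx' with rfl | rfl
  · rw [← hrx]; simp [up_val]
  · rw [show (w : SL K)⁻¹ * -x' * (w : SL K) = -((w : SL K)⁻¹ * x' * (w : SL K)) by simp, ← hrx]
    simp [up_val]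

theorem card_unips (h2 : (2 : K) ≠ 0) (hneg : (-1 : SL K) ∈ H) (h1 : up (1 : K) ∈ H) :
    (unips H).card = 2 * ((ups H).card - 1) * ((points H).card + 1) := by
  classical
  have hc := conj_count (A := upperUnips H) (W := borel H) (fun w hw => (mem_borel.mp hw).1)
    (fun w hw a ha => by
      simp only [upperUnips, Finset.mem_filter, mem_elems] at ha ⊢
      refine ⟨(conj_mem_of_mem (mem_borel.mp hw).1 ha.1).2, nc_conj ha.2.1 w, ?_, ?_⟩
      · simp [mul_apply2, Matrix.SpecialLinearGroup.coe_inv, Matrix.adjugate_fin_two,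
          (mem_borel.mp hw).2, ha.2.2.1]
      · rw [tr_conj]; exact ha.2.2.2)
    (fun w hw a ha haw => by
      simp only [upperUnips, Finset.mem_filter, mem_elems] at ha haw
      refine mem_borel.mpr ⟨hw, ?_⟩
      obtain ⟨heq, -⟩ := diag_eq_of_tr ha.2.2.1 ha.2.2.2
      have h10 := haw.2.2.1
      simp [mul_apply2, Matrix.SpecialLinearGroup.coe_inv, Matrix.adjugate_fin_two, ha.2.2.1] at h10
      have h01 : a.1 0 1 ≠ 0 := fun e => not_scalar ha.2.1 ⟨e, ha.2.2.1, heq⟩
      have : a.1 0 1 * w.1 1 0 ^ 2 = 0 := by linear_combination -h10 + w.1 1 0 * w.1 1 1 * heq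
      exact pow_eq_zero_iff two_ne_zero |>.mp ((mul_eq_zero.mp this).resolve_left h01))
  have himg : (elems H ×ˢ upperUnips H).image (fun p => p.1 * p.2 * p.1⁻¹) = unips H := by
    ext x
    simp only [Finset.mem_image, Finset.mem_product, Prod.exists, unips, upperUnips,
      Finset.mem_filter, mem_elems]
    constructor
    · rintro ⟨h, a, ⟨hh, ha⟩, rfl⟩
      exact ⟨(conj_mem_of_mem hh ha.1).2, nc_conj ha.2.1 h, by rw [tr_conj]; exact ha.2.2.2⟩
    · rintro ⟨hxH, hxn, hxt⟩
      obtain ⟨w, hw, h10⟩ := exists_conj_upper h2 hneg h1 hxH hxt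
      refine ⟨w, w⁻¹ * x * w, ⟨hw, (conj_mem_of_mem hw hxH).1, by simpa using nc_conj hxn w⁻¹, h10, ?_⟩,
        by group⟩
      have := tr_conj w⁻¹ x
      rw [inv_inv] at this
      rw [this]; exact hxt
  rw [himg, card_upperUnips h2 hneg, card_elems_eq] at hc
  have hN0 : 0 < (borel H).card :=
    Finset.card_pos.mpr ⟨1, mem_borel.mpr ⟨one_mem H, by simp⟩⟩
  exact Nat.eq_of_mul_eq_mul_right hN0 (hc.symm.trans (by ring))

theorem centNC_subset_semis {x y : SL K} (hx : x ∈ semis H) (hy : y ∈ centNC H x) : y ∈ semis H := by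
  obtain ⟨hyH, hyn, hc⟩ := mem_centNC.mp hy
  obtain ⟨-, hxn, hxt⟩ := mem_semis.mp hx
  refine mem_semis.mpr ⟨hyH, hyn, fun ht => ?_⟩
  obtain ⟨a, b, ha⟩ := commute_form hxn hc
  have hd := det2 y
  have hdx := det2 x
  rw [ha] at hd
  simp at hd
  simp only [tr, ha] at ht hxt
  simp at ht
  have hb : b ^ 2 * ((x.1 0 0 + x.1 1 1) ^ 2 - 4) = 0 := by
    linear_combination ht - 4 * hd + 4 * b ^ 2 * hdx
  rcases mul_eq_zero.mp hb with hb | hb
  · rw [pow_eq_zero_iff two_ne_zero] at hb
    subst hb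
    rw [zero_smul, add_zero] at ha
    rcases eq_one_or_neg_one_of_scalar a ha with h | h
    · exact hyn.1 h
    · exact hyn.2 h
  · exact hxt (sub_eq_zero.mp hb)

theorem card_orb (h2 : (2 : K) ≠ 0) (hneg : (-1 : SL K) ∈ H) {x : SL K} (hx : x ∈ semis H) :
    ∃ s d : ℕ, (s = 1 ∨ s = 2) ∧ 2 ≤ d ∧ (cent H x).card = 2 * d ∧
      (orb H x).card * (s * d) = (elems H).card * (d - 1) := by
  classical
  obtain ⟨hxH, hxn, hxt⟩ := mem_semis.mp hx
  let Wn : Finset (SL K) := (elems H).filter (fun w => w * x * w⁻¹ = x ∨ w * x * w⁻¹ = x⁻¹)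
  let img := Wn.image (fun w => w * x * w⁻¹)
  have hWcard : Wn.card = img.card * (cent H x).card := by
    refine card_fibres Wn _ _ fun w hw => ?_
    rw [show (Wn.filter fun w' => w' * x * w'⁻¹ = w * x * w⁻¹) = (cent H x).image (fun c => w * c)
      from ?_, Finset.card_image_of_injective _ (mul_right_injective w)]
    ext w'
    simp only [Wn, Finset.mem_filter, Finset.mem_image, mem_elems, mem_cent] at hw ⊢
    constructor
    · rintro ⟨⟨hw', -⟩, he⟩
      refine ⟨w⁻¹ * w', ⟨mul_mem (inv_mem hw.1) hw', ?_⟩, mul_inv_cancel_left _ _⟩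
      calc w⁻¹ * w' * x = w⁻¹ * (w' * x * w'⁻¹) * w' := by group
        _ = w⁻¹ * (w * x * w⁻¹) * w' := by rw [he]
        _ = _ := by group
    · rintro ⟨c, ⟨hc, hcx⟩, rfl⟩
      have : w * c * x * (w * c)⁻¹ = w * x * w⁻¹ := by
        calc w * c * x * (w * c)⁻¹ = w * (c * x) * c⁻¹ * w⁻¹ := by group
          _ = _ := by rw [hcx]; group
      exact ⟨⟨mul_mem hw.1 hc, by rw [this]; exact hw.2⟩, this⟩
  have himg : img.card = 1 ∨ img.card = 2 := by
    have h1 : img.card ≤ 2 := by
      refine (Finset.card_le_card (t := {x, x⁻¹}) ?_).trans Finset.card_le_two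
      intro y hy
      obtain ⟨w, hw, rfl⟩ := Finset.mem_image.mp hy
      simpa using (Finset.mem_filter.mp hw).2
    have h2 : 1 ≤ img.card := Finset.card_pos.mpr ⟨x, Finset.mem_image.mpr
      ⟨1, Finset.mem_filter.mpr ⟨mem_elems.mpr (one_mem H), by simp⟩, by simp⟩⟩
    omega
  obtain ⟨d, hd⟩ : 2 ∣ (cent H x).card := by
    let Cx : Subgroup (SL K) := H ⊓ Subgroup.centralizer {x}
    have hmem : (-1 : SL K) ∈ Cx :=
      ⟨hneg, Subgroup.mem_centralizer_singleton_iff.mpr (by simp)⟩
    have hc : Nat.card Cx = (cent H x).card := by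
      rw [Nat.card_eq_fintype_card, Fintype.card_of_subtype]
      intro y
      simp [Cx, mem_cent, Subgroup.mem_centralizer_singleton_iff]
    have ho : orderOf (⟨-1, hmem⟩ : Cx) = 2 :=
      orderOf_eq_prime (Subtype.ext (by simp)) (fun e => one_ne_neg_one h2 (congrArg Subtype.val e).symm)
    have hdvd := orderOf_dvd_natCard (⟨-1, hmem⟩ : Cx)
    rwa [ho, hc] at hdvd
  have hcn : (centNC H x).card + 2 = (cent H x).card := by
    have e := Finset.card_filter_add_card_filter_not (s := cent H x) (fun y => NC y)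
    have e1 : (cent H x).filter (fun y => NC y) = centNC H x := by
      ext y; rw [Finset.mem_filter, mem_cent, mem_centNC]; exact ⟨fun h => ⟨h.1.1, h.2, h.1.2⟩, fun h => ⟨⟨h.1, h.2.2⟩, h.2.1⟩⟩
    have e2 : (cent H x).filter (fun y => ¬ NC y) = {1, -1} := by
      ext y
      rw [Finset.mem_filter, mem_cent, Finset.mem_insert, Finset.mem_singleton]
      unfold NC
      constructor
      · rintro ⟨-, hy⟩
        by_cases h : y = 1
        · exact Or.inl h
        · exact Or.inr (not_not.mp fun h' => hy ⟨h, h'⟩)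
      · rintro (rfl | rfl)
        · exact ⟨⟨one_mem H, by simp⟩, fun hn => hn.1 rfl⟩
        · exact ⟨⟨hneg, by simp⟩, fun hn => hn.2 rfl⟩
    rw [e1, e2, Finset.card_pair (one_ne_neg_one h2)] at e
    omega
  have hd2 : 2 ≤ d := by
    have : 1 ≤ (centNC H x).card :=
      Finset.card_pos.mpr ⟨x, mem_centNC.mpr ⟨hxH, hxn, rfl⟩⟩
    omega
  refine ⟨img.card, d, himg, hd2, hd, ?_⟩
  have horb := conj_count (A := centNC H x) (W := Wn) (fun w hw => mem_elems.mp (Finset.mem_filter.mp hw).1)
    (fun w hw a ha => by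
      simp only [Wn, Finset.mem_filter, mem_elems] at hw
      obtain ⟨haH, han, hac⟩ := mem_centNC.mp ha
      refine mem_centNC.mpr ⟨(conj_mem_of_mem hw.1 haH).2, nc_conj han w, ?_⟩
      have hc : Commute (w * a * w⁻¹) (w * x * w⁻¹) := (Commute.conj_iff w).mpr hac
      rcases hw.2 with e | e
      · rw [e] at hc; exact hc.eq
      · rw [e] at hc; simpa using hc.inv_right.eq)
    (fun w hw a ha haw => by
      simp only [Wn, Finset.mem_filter, mem_elems]
      obtain ⟨haH, han, hac⟩ := mem_centNC.mp ha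
      obtain ⟨hwH, hwn, hwc⟩ := mem_centNC.mp haw
      refine ⟨hw, eq_self_or_inv hxn h2 hxt ?_ (trace_conj w x)⟩
      have hc : Commute (w * x * w⁻¹) (w * a * w⁻¹) := (Commute.conj_iff w).mpr hac.symm
      exact ((comm_iff hxn hwn hwc _).mpr hc.eq))
  rw [hWcard] at horb
  have hcn' : (centNC H x).card = 2 * (d - 1) := by omega
  rw [hcn', hd] at horb
  refine Nat.eq_of_mul_eq_mul_right (show 0 < 2 by norm_num) ?_
  calc (orb H x).card * (img.card * d) * 2 = (orb H x).card * (img.card * (2 * d)) := by ring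
    _ = _ := by rw [orb, ← horb]; ring

theorem orb_subset {x : SL K} (hx : x ∈ semis H) : orb H x ⊆ semis H := by
  classical
  intro y hy
  obtain ⟨⟨h, a⟩, hp, rfl⟩ := Finset.mem_image.mp hy
  obtain ⟨hh, ha⟩ := Finset.mem_product.mp hp
  obtain ⟨haH, han, hat⟩ := mem_semis.mp (centNC_subset_semis hx ha)
  exact mem_semis.mpr ⟨(conj_mem_of_mem (mem_elems.mp hh) haH).2, nc_conj han h,
    by rw [tr_conj]; exact hat⟩

theorem orb_disjoint {x x' : SL K} (hx : x ∈ semis H) (hx' : x' ∈ semis H) (hne : x' ∉ orb H x) :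
    Disjoint (orb H x) (orb H x') := by
  classical
  rw [Finset.disjoint_left]
  intro z hz hz'
  obtain ⟨⟨h, a⟩, hp, rfl⟩ := Finset.mem_image.mp hz
  obtain ⟨⟨h', a'⟩, hp', he⟩ := Finset.mem_image.mp hz'
  simp only [Finset.mem_product, mem_centNC, mem_elems] at hp hp' he
  apply hne
  refine Finset.mem_image.mpr ⟨(h'⁻¹ * h, (h'⁻¹ * h)⁻¹ * x' * (h'⁻¹ * h)), ?_, by group⟩
  have hw : h'⁻¹ * h ∈ H := mul_mem (inv_mem hp'.1) hp.1
  have hx'n := (mem_semis.mp hx').2.1
  have hxn := (mem_semis.mp hx).2.1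
  simp only [Finset.mem_product, mem_centNC, mem_elems]
  refine ⟨hw, (conj_mem_of_mem hw (mem_semis.mp hx').1).1,
    by simpa using nc_conj hx'n (h'⁻¹ * h)⁻¹, ?_⟩
  have e : a' = (h'⁻¹ * h) * a * (h'⁻¹ * h)⁻¹ := by
    calc a' = h'⁻¹ * (h' * a' * h'⁻¹) * h' := by group
      _ = _ := by rw [he]; group
  refine ((comm_iff hxn hp.2.2.1 hp.2.2.2 _).mpr ?_)
  have hc : Commute ((h'⁻¹ * h)⁻¹ * x' * ((h'⁻¹ * h)⁻¹)⁻¹) ((h'⁻¹ * h)⁻¹ * a' * ((h'⁻¹ * h)⁻¹)⁻¹) :=
    (Commute.conj_iff _).mpr hp'.2.2.2.symm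
  rw [inv_inv, show (h'⁻¹ * h)⁻¹ * a' * (h'⁻¹ * h) = a by rw [e]; group] at hc
  exact hc.eq

theorem exists_torus (h2 : (2 : K) ≠ 0) (hneg : (-1 : SL K) ∈ H) (ht : 2 ≤ (diagSq H).card) :
    ∃ g ∈ semis H, (cent H g).card = (diagSq H).card * 2 := by
  classical
  haveI : IsCyclic (diagGroup H) := inferInstance
  obtain ⟨⟨w, hw⟩, hgen⟩ := IsCyclic.exists_generator (α := diagGroup H)
  obtain ⟨g0, hg0H, hg10, hg00⟩ := mem_diags.mp hw
  have hpowN : ∀ n : ℕ, (g0 ^ n).1 1 0 = 0 ∧ (g0 ^ n).1 0 0 = (w : K) ^ n := by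
    intro n
    induction n with
    | zero => simp
    | succ n ih => simp [pow_succ, mul_apply2, ih.1, ih.2, hg10, hg00]
  have hcyc : ∀ c ∈ diags H, ∃ n : ℕ, (w : K) ^ n = c := by
    intro c hc
    obtain ⟨n, hn⟩ := (isOfFinOrder_of_finite _).mem_powers_iff_mem_zpowers.mpr
      (hgen ⟨Units.mk0 c (diag_ne_zero hc), hc⟩)
    exact ⟨n, by simpa using congrArg (fun z : diagGroup H => ((z : Kˣ) : K)) hn⟩
  have hw0 : (w : K) ≠ 0 := w.ne_zero
  have hg11 : g0.1 1 1 = (w : K)⁻¹ := eq_inv_of_mul_eq_one_right (hg00 ▸ diag_det hg10)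
  have hww : (w : K) - (w : K)⁻¹ ≠ 0 := by
    intro e
    have hw2 : (w : K) ^ 2 = 1 := by field_simp at e; linear_combination e
    have hsub : diagSq H ⊆ {1} := by
      intro v hv
      obtain ⟨u, hu, rfl⟩ := Finset.mem_image.mp hv
      obtain ⟨n, rfl⟩ := hcyc u hu
      rw [Finset.mem_singleton, ← pow_mul, mul_comm, pow_mul, hw2, one_pow]
    have := Finset.card_le_card hsub
    rw [Finset.card_singleton] at this
    omega
  refine ⟨g0, mem_semis.mpr ⟨hg0H, ⟨fun e => hww ?_, fun e => hww ?_⟩, ?_⟩, ?_⟩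
  · rw [← hg00, e]; simp
  · rw [← hg00, e]; simp
  · simp only [tr]
    rw [hg00, hg11]
    intro e
    apply hww
    have : ((w : K) - (w : K)⁻¹) ^ 2 = 0 := by
      have h1 : (w : K) * (w : K)⁻¹ = 1 := mul_inv_cancel₀ hw0
      linear_combination e - 4 * h1
    exact pow_eq_zero_iff two_ne_zero |>.mp this
  rw [← card_diags h2 hneg]
  have form : ∀ z : SL K, z * g0 = g0 * z → z.1 1 0 = 0 ∧
      z.1 0 1 * ((w : K) - (w : K)⁻¹) = g0.1 0 1 * (z.1 0 0 - z.1 1 1) := by
    intro z hz
    have a1 := congrArg (fun g : SL K => g.1 1 0) hz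
    have a2 := congrArg (fun g : SL K => g.1 0 1) hz
    simp [mul_apply2, hg10, hg00, hg11] at a1 a2
    have h' : z.1 1 0 * ((w : K) - (w : K)⁻¹) = 0 := by linear_combination a1
    exact ⟨(mul_eq_zero.mp h').resolve_right hww, by linear_combination -a2⟩
  refine Finset.card_bij (fun y _ => y.1 0 0) ?_ ?_ ?_
  · intro y hy
    obtain ⟨hy, hc⟩ := mem_cent.mp hy
    exact mem_diags.mpr ⟨y, hy, (form y hc).1, rfl⟩
  · intro y hy y' hy' he
    obtain ⟨f1, f2⟩ := form y (mem_cent.mp hy).2
    obtain ⟨f1', f2'⟩ := form y' (mem_cent.mp hy').2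
    have d1 := diag_det f1
    have d2 := diag_det f1'
    have h11 : y.1 1 1 = y'.1 1 1 := by
      rw [← he] at d2
      exact mul_left_cancel₀ (left_ne_zero_of_mul_eq_one d1) (d1.trans d2.symm)
    refine ext2 he ?_ (f1.trans f1'.symm) h11
    rw [he, h11, ← f2'] at f2
    exact mul_right_cancel₀ hww f2
  · intro c hc
    obtain ⟨n, hn⟩ := hcyc c hc
    exact ⟨g0 ^ n, mem_cent.mpr ⟨pow_mem hg0H n, by rw [← pow_succ, pow_succ']⟩, (hpowN n).2.trans hn⟩

end CfsgLib.Perm.Quad.SL2Count
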