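import Mathlib
import Cfsg.Agent.Lib.Perm.Quad.SL2Count

/-! A Dickson type theorem: two `k`-families generate `SL₂` of a finite simple extension. -/

namespace CfsgLib.Perm.Quad.SL2Finite

open Matrix CfsgLib.Perm.Quad.SL2 CfsgLib.Perm.Quad.SL2Commute CfsgLib.Perm.Quad.SL2Count

theorem arith_orbit {q t m o s d : ℕ} (hs : s = 1 ∨ s = 2) (hd : 2 ≤ d)
    (h : o * (s * d) = m * (t * 2 * q) * (d - 1)) : q * t * m ≤ 2 * o := by
  obtain ⟨e, rfl⟩ : ∃ e, d = e + 2 := ⟨d - 2, by omega⟩
  rw [show e + 2 - 1 = e + 1 by omega] at h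
  rcases hs with rfl | rfl <;> nlinarith [Nat.zero_le (e * (m * t * q)), Nat.zero_le (o * e)]

theorem arith_j {q t d j m : ℕ} (hm : m = q * j + 1) (hj : 1 ≤ j) (hq : 5 ≤ q) (ht : t + 1 ≤ q)
    (ht1 : 1 ≤ t)
    (main : m * t + 2 * d * j = m * d) : j = 1 ∧ q ≤ 2 * t + 1 := by
  have hle : t ≤ d := by
    have h' : m * t ≤ m * d := by omega
    exact Nat.le_of_mul_le_mul_left h' (by omega)
  obtain ⟨D, rfl⟩ := Nat.exists_eq_add_of_le hle
  have main' : D * m = 2 * (t + D) * j := by nlinarith
  subst hm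
  have hDj : j ∣ D := by
    refine (Nat.dvd_add_right (show j ∣ D * (q * j) from ⟨D * q, by ring⟩)).mp ?_
    rw [show D * (q * j) + D = D * (q * j + 1) by ring, main']
    exact ⟨2 * (t + D), by ring⟩
  obtain ⟨i, rfl⟩ := hDj
  have e : i * (q * j + 1) = 2 * t + 2 * (j * i) :=
    Nat.eq_of_mul_eq_mul_left (show 0 < j by omega)
      ((by ring : _ = j * i * (q * j + 1)).trans (main'.trans (by ring)))
  obtain ⟨r, rfl⟩ : ∃ r, q = r + 2 := ⟨q - 2, by omega⟩
  have e' : i * (r * j) + i = 2 * t := by linarith [e, (by ring : i * ((r + 2) * j + 1) = i * (r * j) + i + 2 * (j * i))]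
  have hi : 1 ≤ i := by
    rcases Nat.eq_zero_or_pos i with rfl | h
    · omega
    · exact h
  have hge : r * j + 1 ≤ 2 * t := by nlinarith
  refine ⟨?_, by nlinarith⟩
  by_contra hne
  have hj2 : j = 2 := by
    by_contra h
    have : r * 3 ≤ r * j := Nat.mul_le_mul_left r (by omega)
    omega
  subst hj2
  have : i = 1 := by
    by_contra h
    have : 2 * (r * 2 + 1) ≤ i * (r * 2 + 1) := Nat.mul_le_mul_right _ (by omega)
    nlinarith
  subst this
  omega

theorem arith_s {m t q o : ℕ} (h : m * ((t + 1) * (q + 1)) ≤ o)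
    (htot : m * ((t + 1) * 2 * (q + 1)) = 2 + 2 * q * m + (m * (q + 1) * t + o)) (hq : 4 ≤ q)
    (hm : 1 ≤ m) : False := by
  nlinarith [Nat.mul_le_mul_left m hq]

variable {K : Type*} [Field K] [Fintype K]

theorem counting (h2 : (2 : K) ≠ 0) {H : Subgroup (SL K)} (hneg : (-1 : SL K) ∈ H)
    (h1 : up (1 : K) ∈ H) {lam : K} (hlam : lam ≠ 0) (hl : low lam ∈ H) (hq : 5 ≤ (ups H).card) :
    (points H).card = (ups H).card ∧ (ups H).card ≤ 2 * (diagSq H).card + 1 := by
  classical
  obtain ⟨j, hj⟩ := ups_dvd_points (H := H)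
  have hj1 : 1 ≤ j := by
    by_contra h
    rw [show j = 0 by omega, mul_zero] at hj
    exact Finset.card_ne_zero.mpr ⟨_, div_mem_points hlam hl⟩ hj
  have htq : (diagSq H).card + 1 ≤ (ups H).card := by
    have hsub : insert 0 (diagSq H) ⊆ ups H := Finset.insert_subset zero_mem_ups
      fun w hw => by simpa using diagSq_mul_ups hw (mem_ups.mpr h1)
    have := Finset.card_le_card hsub
    rwa [Finset.card_insert_of_notMem zero_notMem_diagSq] at this
  have ht1 : 1 ≤ (diagSq H).card := Finset.card_pos.mpr ⟨1, one_mem_diagSq⟩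
  have hH : (elems H).card = ((points H).card + 1) * ((diagSq H).card * 2 * (ups H).card) := by
    rw [card_elems_eq, card_borel, card_diags h2 hneg]
  have horbit : ∀ x ∈ semis H, ∃ s d : ℕ, (s = 1 ∨ s = 2) ∧ 2 ≤ d ∧ (cent H x).card = 2 * d ∧
      (orb H x).card * (s * d) =
        ((points H).card + 1) * ((diagSq H).card * 2 * (ups H).card) * (d - 1) := by
    intro x hx
    rw [← hH]
    exact card_orb h2 hneg hx
  have htot : ((points H).card + 1) * ((diagSq H).card * 2 * (ups H).card) =
      2 + 2 * ((ups H).card - 1) * ((points H).card + 1) + (semis H).card := by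
    rw [← hH, card_split h2 hneg, card_unips h2 hneg h1]
  -- abbreviations
  generalize hm' : (points H).card + 1 = m at htot horbit
  have hm : m = (ups H).card * j + 1 := by rw [← hm', hj]
  generalize hqd : (ups H).card = q at *
  generalize htd : (diagSq H).card = t at *
  have hm6 : q + 1 ≤ m := by
    rw [hm]; exact Nat.succ_le_succ (Nat.le_mul_of_pos_right q hj1)
  obtain ⟨q', rfl⟩ : ∃ q', q = q' + 1 := ⟨q - 1, by omega⟩
  rw [Nat.add_sub_cancel] at htot
  have key : ∀ x ∈ semis H, (q' + 1) * t * m ≤ 2 * (orb H x).card := by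
    intro x hx
    obtain ⟨s, d, hs, hd, -, he⟩ := horbit x hx
    exact arith_orbit hs hd he
  have ht2 : 2 ≤ t := by
    by_contra hlt
    obtain rfl : t = 1 := by omega
    rcases (semis H).eq_empty_or_nonempty with he | ⟨x, hx⟩
    · rw [he, Finset.card_empty] at htot
      nlinarith
    · have h3 := key x hx
      have h4 := Finset.card_le_card (orb_subset hx)
      nlinarith
  obtain ⟨g0, hg0, hcent⟩ := exists_torus h2 hneg (by omega)
  obtain ⟨s0, d0, hs0, -, hd0, heq0⟩ := horbit g0 hg0
  rw [show d0 = t by omega] at heq0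
  obtain ⟨t', rfl⟩ : ∃ t', t = t' + 1 := ⟨t - 1, by omega⟩
  rw [Nat.add_sub_cancel] at heq0
  have hsub := orb_subset hg0
  have hs0' : s0 = 2 := by
    rcases hs0 with rfl | rfl
    · exfalso
      have ho : (orb H g0).card = m * (2 * (q' + 1)) * t' :=
        Nat.eq_of_mul_eq_mul_right (by omega : 0 < t' + 1) ((by ring : _ = (orb H g0).card * (1 * (t' + 1))).trans
          (heq0.trans (by ring)))
      by_cases hx : semis H ⊆ orb H g0
      · rw [le_antisymm (Finset.card_le_card hx) (Finset.card_le_card hsub), ho] at htot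
        nlinarith
      · obtain ⟨x, hxS, hxn⟩ := Finset.not_subset.mp hx
        have h3 := key x hxS
        have h4 := Finset.card_le_card (Finset.union_subset hsub (orb_subset hxS))
        rw [Finset.card_union_of_disjoint (orb_disjoint hg0 hxS hxn), ho] at h4
        nlinarith
    · rfl
  subst hs0'
  have ho : (orb H g0).card = m * (q' + 1) * t' :=
    Nat.eq_of_mul_eq_mul_right (by omega : 0 < 2 * (t' + 1)) (heq0.trans (by ring))
  obtain ⟨x, hxS, hxn⟩ : ∃ x ∈ semis H, x ∉ orb H g0 := by
    refine Finset.not_subset.mp fun hx => ?_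
    rw [le_antisymm (Finset.card_le_card hx) (Finset.card_le_card hsub), ho] at htot
    nlinarith
  have hsub2 := Finset.union_subset hsub (orb_subset hxS)
  have hc2 := Finset.card_union_of_disjoint (orb_disjoint hg0 hxS hxn)
  have h4 := Finset.card_le_card hsub2
  rw [hc2, ho] at h4
  obtain ⟨s, d, hs, hd, -, heq⟩ := horbit x hxS
  obtain ⟨d', rfl⟩ : ∃ d', d = d' + 1 := ⟨d - 1, by omega⟩
  rw [Nat.add_sub_cancel] at heq
  have hall : semis H ⊆ orb H g0 ∪ orb H x := by
    intro y hy
    by_contra hyn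
    simp only [Finset.mem_union, not_or] at hyn
    have h5 := key y hy
    have h6 := key x hxS
    have h7 := Finset.card_le_card (Finset.union_subset hsub2 (orb_subset hy))
    rw [Finset.card_union_of_disjoint (Finset.disjoint_union_left.mpr
      ⟨orb_disjoint hg0 hy hyn.1, orb_disjoint hxS hy hyn.2⟩), hc2, ho] at h7
    nlinarith
  have hSem : (semis H).card = m * (q' + 1) * t' + (orb H x).card := by
    rw [← ho, ← hc2]; exact le_antisymm (Finset.card_le_card hall) (Finset.card_le_card hsub2)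
  rw [hSem] at htot
  obtain rfl : s = 2 := by
    rcases hs with rfl | rfl
    · exfalso
      have h8 : m * ((t' + 1) * (q' + 1)) * (d' + 1) ≤ (orb H x).card * (d' + 1) :=
        (Nat.mul_le_mul_left _ (show d' + 1 ≤ 2 * d' by omega)).trans_eq
          ((by ring : _ = m * ((t' + 1) * 2 * (q' + 1)) * d').trans (heq.symm.trans (by ring)))
      exact arith_s (Nat.le_of_mul_le_mul_right h8 (by omega)) htot (by omega) (by omega)
    · rfl
  have hox : (orb H x).card * (d' + 1) = m * (t' + 1) * (q' + 1) * d' :=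
    Nat.eq_of_mul_eq_mul_right (by norm_num : 0 < 2)
      ((by ring : _ = (orb H x).card * (2 * (d' + 1))).trans (heq.trans (by ring)))
  have main : m * (t' + 1) + 2 * (d' + 1) * j = m * (d' + 1) := by
    zify at htot hox hm ⊢
    refine mul_left_cancel₀ (show ((q' : ℤ) + 1) ≠ 0 by positivity) ?_
    linear_combination (d' + 1 : ℤ) * htot + hox - 2 * (d' + 1 : ℤ) * hm
  obtain ⟨rfl, hqt⟩ := arith_j hm hj1 hq htq (by omega) main
  exact ⟨by rw [hj, mul_one], hqt⟩

theorem upSet_closed (h2 : (2 : K) ≠ 0) {H : Subgroup (SL K)} (hneg : (-1 : SL K) ∈ H)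
    (h1 : up (1 : K) ∈ H) {lam : K} (hlam : lam ≠ 0) (hl : low lam ∈ H) (hq : 5 ≤ (ups H).card) :
    (∀ a ∈ ups H, ∀ b ∈ ups H, a * b ∈ ups H) ∧ lam ∈ ups H := by
  classical
  obtain ⟨hZ, hqt⟩ := counting h2 hneg h1 hlam hl hq
  let F0 : Finset K := Finset.univ.filter (fun f => ∀ r ∈ ups H, f * r ∈ ups H)
  have mF : ∀ {f}, f ∈ F0 ↔ ∀ r ∈ ups H, f * r ∈ ups H := fun {f} => by simp [F0]
  have h1U : (1 : K) ∈ ups H := mem_ups.mpr h1
  have hUadd : ∀ a ∈ ups H, ∀ b ∈ ups H, a + b ∈ ups H := fun a ha b hb => mem_ups.mpr (by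
    rw [← up_add]; exact mul_mem (mem_ups.mp ha) (mem_ups.mp hb))
  have hUsub : ∀ a ∈ ups H, ∀ b ∈ ups H, a - b ∈ ups H := fun a ha b hb => mem_ups.mpr (by
    rw [sub_eq_add_neg, ← up_add, ← up_inv]; exact mul_mem (mem_ups.mp ha) (inv_mem (mem_ups.mp hb)))
  have hF0U : ∀ f ∈ F0, f ∈ ups H := fun f hf => by simpa using mF.mp hf 1 h1U
  have hF0card : (diagSq H).card + 1 ≤ F0.card := by
    have hsub : insert 0 (diagSq H) ⊆ F0 := Finset.insert_subset
      (mF.mpr fun r _ => by rw [zero_mul]; exact zero_mem_ups)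
      (fun w hw => mF.mpr fun r hr => diagSq_mul_ups hw hr)
    have := Finset.card_le_card hsub
    rwa [Finset.card_insert_of_notMem zero_notMem_diagSq] at this
  have hUF : ∀ r ∈ ups H, r ∈ F0 := by
    intro v hv
    by_contra hvn
    have hinj : Set.InjOn (fun p : K × K => p.1 + p.2 * v) (F0 ×ˢ F0 : Finset (K × K)) := by
      rintro ⟨f, f'⟩ hf ⟨e, e'⟩ he heq
      simp only [Finset.coe_product, Set.mem_prod, Finset.mem_coe] at hf he heq
      by_cases hfe : f' = e'
      · subst hfe
        simpa using heq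
      · exfalso
        apply hvn
        have hd : ∀ a ∈ F0, ∀ b ∈ F0, a - b ∈ F0 := fun a ha b hb => mF.mpr fun r hr => by
          rw [sub_mul]; exact hUsub _ (mF.mp ha r hr) _ (mF.mp hb r hr)
        have hne : f' - e' ≠ 0 := sub_ne_zero.mpr hfe
        have hm' : ∀ a ∈ F0, ∀ b ∈ F0, a * b ∈ F0 := fun a ha b hb => mF.mpr fun r hr => by
          rw [mul_assoc]; exact mF.mp ha _ (mF.mp hb r hr)
        have hpow : ∀ n : ℕ, (f' - e') ^ n ∈ F0 := fun n => by
          induction n with
          | zero => exact mF.mpr fun r hr => by rwa [pow_zero, one_mul]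
          | succ n ih => rw [pow_succ]; exact hm' _ ih _ (hd _ hf.2 _ he.2)
        have hinv : (f' - e') ^ (Fintype.card K - 1 - 1) * (f' - e') = 1 := by
          rw [← pow_succ, Nat.sub_add_cancel (by have := Fintype.one_lt_card (α := K); omega)]
          exact FiniteField.pow_card_sub_one_eq_one _ hne
        have : v = (f' - e') ^ (Fintype.card K - 1 - 1) * (e - f) := by
          calc v = ((f' - e') ^ (Fintype.card K - 1 - 1) * (f' - e')) * v := by rw [hinv, one_mul]
            _ = _ := by linear_combination (f' - e') ^ (Fintype.card K - 1 - 1) * heq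
        rw [this]
        exact hm' _ (hpow _) _ (hd _ he.1 _ hf.1)
    have hmap : (F0 ×ˢ F0).image (fun p : K × K => p.1 + p.2 * v) ⊆ ups H := by
      intro z hz
      obtain ⟨⟨f, f'⟩, hf, rfl⟩ := Finset.mem_image.mp hz
      obtain ⟨hf1, hf2⟩ := Finset.mem_product.mp hf
      exact hUadd _ (hF0U f hf1) _ (mF.mp hf2 v hv)
    have := Finset.card_le_card hmap
    rw [Finset.card_image_of_injOn hinj, Finset.card_product] at this
    nlinarith
  have hmulU : ∀ a ∈ ups H, ∀ b ∈ ups H, a * b ∈ ups H := fun a ha b hb => mF.mp (hUF a ha) b hb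
  refine ⟨hmulU, ?_⟩
  have h2l : lam + lam ≠ 0 := by rw [← two_mul]; exact mul_ne_zero h2 hlam
  have hZeq : (ups H).image (fun r => 1 / (lam + lam) + r) = points H := by
    apply Finset.eq_of_subset_of_card_le
    · intro z hz
      obtain ⟨r, hr, rfl⟩ := Finset.mem_image.mp hz
      exact points_add (div_mem_points h2l (by rw [← low_add]; exact mul_mem hl hl)) hr
    · rw [Finset.card_image_of_injective _ (add_right_injective _), hZ]
  obtain ⟨r, hr, hr'⟩ := Finset.mem_image.mp (hZeq.symm ▸ div_mem_points hlam hl :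
    (1 : K) / lam ∈ (ups H).image _)
  have hhalf : 1 / (lam + lam) ∈ ups H := by
    have e : 1 / lam = 1 / (lam + lam) + 1 / (lam + lam) := by
      have h11 : (1 : K) + 1 ≠ 0 := by rwa [one_add_one_eq_two]
      field_simp
    convert hr using 1
    linear_combination -(hr' + e)
  have hinvl : lam⁻¹ ∈ ups H := by
    convert hUadd _ hhalf _ hhalf using 1
    have h11 : (1 : K) + 1 ≠ 0 := by rwa [one_add_one_eq_two]
    field_simp
  have hpow : ∀ n : ℕ, lam⁻¹ ^ n ∈ ups H := fun n => by
    induction n with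
    | zero => simpa using h1U
    | succ n ih => rw [pow_succ]; exact hmulU _ ih _ hinvl
  have : lam = lam⁻¹ ^ (Fintype.card K - 1 - 1) := by
    have e := FiniteField.pow_card_sub_one_eq_one lam⁻¹ (inv_ne_zero hlam)
    rw [← Nat.sub_add_cancel (show 1 ≤ Fintype.card K - 1 by
      have := Fintype.one_lt_card (α := K); omega), pow_succ] at e
    exact ((eq_inv_of_mul_eq_one_left e).trans (inv_inv lam)).symm
  exact this ▸ hpow _

omit [Fintype K] in
/-- Two `k`-families generate all unitriangular elements, `k` finite with at least five elements. -/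
theorem mem_gen_of_finite {k : Type*} [Field k] [Finite k] [Algebra k K] (h2 : (2 : k) ≠ 0)
    (h5 : 5 ≤ Nat.card k) (pb : PowerBasis k K) (hgen : pb.gen ≠ 0) (r : K) :
    up r ∈ gen k pb.gen ∧ low r ∈ gen k pb.gen := by
  haveI := pb.finite
  haveI : Finite K := Module.finite_of_finite k
  haveI := Fintype.ofFinite K
  classical
  have h2K : (2 : K) ≠ 0 := by
    rw [← map_ofNat (algebraMap k K) 2]; exact (map_ne_zero _).mpr h2
  set H := gen k pb.gen
  let H' : Subgroup (SL K) :=
    { carrier := {g | g ∈ H ∨ -g ∈ H}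
      one_mem' := Or.inl (one_mem H)
      mul_mem' := by
        rintro a b (ha | ha) (hb | hb)
        · exact Or.inl (mul_mem ha hb)
        · exact Or.inr (by simpa using mul_mem ha hb)
        · exact Or.inr (by simpa using mul_mem ha hb)
        · exact Or.inl (by simpa using mul_mem ha hb)
      inv_mem' := by
        rintro a (ha | ha)
        · exact Or.inl (inv_mem ha)
        · exact Or.inr (by
            have e : (-a)⁻¹ = -a⁻¹ := inv_eq_of_mul_eq_one_right (by simp)
            rw [← e]; exact inv_mem ha) }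
  have hk : ∀ c : k, algebraMap k K c ∈ ups H' := fun c => mem_ups.mpr (Or.inl (up_mem_gen k _ c))
  have hq : 5 ≤ (ups H').card := by
    refine h5.trans ?_
    rw [← Fintype.card_coe (ups H'), ← Nat.card_eq_fintype_card]
    exact Nat.card_le_card_of_injective (fun c => (⟨algebraMap k K c, hk c⟩ : ups H'))
      (fun a b e => (algebraMap k K).injective (congrArg Subtype.val e))
  obtain ⟨hmul, hlam⟩ := upSet_closed h2K (H := H') (Or.inr (by simpa using one_mem H))
    (by simpa using mem_ups.mp (hk 1)) hgen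
    (Or.inl (by simpa using low_mem_gen k pb.gen (1 : k))) hq
  let A : Subalgebra k K :=
    { carrier := ↑(ups H')
      mul_mem' := fun {a b} ha hb => hmul a ha b hb
      add_mem' := fun {a b} (ha : a ∈ ups H') (hb : b ∈ ups H') => mem_ups.mpr (by
        rw [← up_add]; exact mul_mem (mem_ups.mp ha) (mem_ups.mp hb))
      algebraMap_mem' := hk }
  have hA : A = ⊤ := by
    rw [eq_top_iff, ← pb.adjoin_gen_eq_top]
    exact Algebra.adjoin_le (Set.singleton_subset_iff.mpr hlam)
  have hU : ∀ x : K, up x ∈ H := by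
    intro x
    have hx : x / 2 ∈ A := hA ▸ Algebra.mem_top
    have hh : x / 2 + x / 2 = x := by field_simp; ring
    rcases (mem_ups.mp (show x / 2 ∈ ups H' from hx) : up (x / 2) ∈ H') with h | h
    · have := mul_mem h h
      rwa [up_add, hh] at this
    · have := mul_mem h h
      rwa [neg_mul_neg, up_add, hh] at this
  refine ⟨hU r, ?_⟩
  have hlow : low pb.gen ∈ H := by simpa using low_mem_gen k pb.gen (1 : k)
  exact low_mem_of_up hU (mul_mem (hU (-pb.gen⁻¹)) hlow)
    (by simp [mul_apply2, up_val, low_val, hgen]) r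

end CfsgLib.Perm.Quad.SL2Finite
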