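import Mathlib
import Cfsg.Prelude.Def_RootSubgroups
import Cfsg.Agent.Lib.Perm.Unipotent

/-! Quadratic elements through their endomorphisms `σ - 1`. -/

namespace CfsgLib.Perm.Quad.Ends

open Cfsg

variable {k : Type*} [Field k] {M : Type*} [AddCommGroup M] [Module k M]

local notation "GLk" => LinearMap.GeneralLinearGroup k M
local notation "EndM" => Module.End k M

theorem range_le_ker {a : Module.End k M} (h : a * a = 0) :
    LinearMap.range a ≤ LinearMap.ker a := by
  rintro _ ⟨m, rfl⟩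
  exact LinearMap.congr_fun h m

theorem mul_eq_zero_iff {a b : Module.End k M} :
    a * b = 0 ↔ LinearMap.range b ≤ LinearMap.ker a := by
  constructor
  · rintro h _ ⟨m, rfl⟩
    exact LinearMap.congr_fun h m
  · intro h
    ext m
    exact h ⟨m, rfl⟩

/-- The unit `1 + a` for `a² = 0`. -/
def unit1 (a : Module.End k M) (h : a * a = 0) : LinearMap.GeneralLinearGroup k M :=
  ⟨1 + a, 1 - a, by simp [mul_sub, add_mul, h], by simp [mul_add, sub_mul, h]⟩

theorem unit1_val {a : Module.End k M} (h : a * a = 0) : ((unit1 a h : GLk) : EndM) = 1 + a := rfl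

theorem inv_val {g : LinearMap.GeneralLinearGroup k M} {a : Module.End k M} (h : a * a = 0)
    (hg : (g : EndM) = 1 + a) : ((g⁻¹ : GLk) : EndM) = 1 - a := by
  rw [show g = unit1 a h from Units.ext hg]; rfl

/-- `1 + a` lies in `G`. -/
def Mem1 (G : Subgroup (LinearMap.GeneralLinearGroup k M)) (a : Module.End k M) : Prop :=
  ∃ g ∈ G, (g : EndM) = 1 + a

theorem mem1_zero (G : Subgroup (LinearMap.GeneralLinearGroup k M)) : Mem1 G 0 :=
  ⟨1, one_mem G, by simp⟩

theorem Mem1.mul {G : Subgroup (LinearMap.GeneralLinearGroup k M)} {a b : Module.End k M}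
    (ha : Mem1 G a) (hb : Mem1 G b) : Mem1 G (a + b + a * b) := by
  obtain ⟨g, hg, eg⟩ := ha
  obtain ⟨h, hh, eh⟩ := hb
  exact ⟨g * h, mul_mem hg hh, by rw [Units.val_mul, eg, eh]; noncomm_ring⟩

/-- Rank of an endomorphism. -/
noncomputable def rk (a : Module.End k M) : ℕ := Module.finrank k (LinearMap.range a)

/-- `a = σ - 1` for a quadratic element of minimal rank. -/
structure Qd (G : Subgroup (LinearMap.GeneralLinearGroup k M)) (a : Module.End k M) : Prop where
  sq : a * a = 0
  ne : a ≠ 0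
  fam : ∀ c : k, Mem1 G (c • a)
  min : ∀ b : Module.End k M, b * b = 0 → b ≠ 0 → (∀ c : k, Mem1 G (c • b)) → rk a ≤ rk b

variable {G : Subgroup (LinearMap.GeneralLinearGroup k M)}

theorem mem_quadratic_iff {σ : GLk} : σ ∈ quadraticElements G ↔
    ((σ : EndM) - 1) * ((σ : EndM) - 1) = 0 ∧ (σ : EndM) - 1 ≠ 0 ∧
      ∀ c : k, Mem1 G (c • ((σ : EndM) - 1)) := by
  constructor
  · rintro ⟨-, ⟨h1, h2⟩, h3⟩
    refine ⟨h1, h2, fun c => ?_⟩
    have hc : (c • ((σ : EndM) - 1)) * (c • ((σ : EndM) - 1)) = 0 := by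
      rw [smul_mul_smul_comm, h1, smul_zero]
    exact ⟨unit1 _ hc, h3 ⟨c, rfl⟩, rfl⟩
  · rintro ⟨h1, h2, h3⟩
    refine ⟨?_, ⟨h1, h2⟩, fun τ ⟨c, hc⟩ => ?_⟩
    · obtain ⟨g, hg, e⟩ := h3 1
      rwa [show σ = g from Units.ext (by rw [e, one_smul]; abel)]
    · obtain ⟨g, hg, e⟩ := h3 c
      rwa [show τ = g from Units.ext (hc.trans e.symm)]

theorem mem_minimal_iff {σ : GLk} :
    σ ∈ minimalQuadraticElements G ↔ Qd G ((σ : EndM) - 1) := by
  constructor
  · rintro ⟨hσ, hmin⟩
    obtain ⟨h1, h2, h3⟩ := mem_quadratic_iff.mp hσ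
    refine ⟨h1, h2, h3, fun b hb hb0 hbf => ?_⟩
    have := hmin (unit1 b hb) (mem_quadratic_iff.mpr
      (by simp only [unit1_val, add_sub_cancel_left]; exact ⟨hb, hb0, hbf⟩))
    unfold commutatorRank at this
    rw [unit1_val, add_sub_cancel_left] at this
    exact this
  · intro h
    refine ⟨mem_quadratic_iff.mpr ⟨h.sq, h.ne, h.fam⟩, fun τ hτ => ?_⟩
    obtain ⟨h1, h2, h3⟩ := mem_quadratic_iff.mp hτ
    exact h.min _ h1 h2 h3

theorem exists_qd (h : (quadraticElements G).Nonempty) :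
    ∃ a : Module.End k M, Qd G a := by
  classical
  have hex : ∃ n, ∃ σ ∈ quadraticElements G, commutatorRank σ = n := ⟨_, _, h.choose_spec, rfl⟩
  obtain ⟨σ, hσ, e⟩ := Nat.find_spec hex
  exact ⟨_, mem_minimal_iff.mp ⟨hσ, fun τ hτ => e ▸ Nat.find_min' hex ⟨τ, hτ, rfl⟩⟩⟩

theorem Qd.mem {a : Module.End k M} (h : Qd G a) : Mem1 G a := by simpa using h.fam 1

theorem Qd.smul {a : Module.End k M} (h : Qd G a) {c : k} (hc : c ≠ 0) : Qd G (c • a) := by
  refine ⟨by rw [smul_mul_smul_comm, h.sq, smul_zero], smul_ne_zero hc h.ne,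
    fun d => by rw [smul_smul]; exact h.fam _, fun b h1 h2 h3 => ?_⟩
  rw [rk, LinearMap.range_smul a c hc]
  exact h.min b h1 h2 h3

theorem Qd.neg {a : Module.End k M} (h : Qd G a) : Qd G (-a) := by
  simpa using h.smul (c := -1) (by simp)

theorem Qd.rk_eq {a b : Module.End k M} (ha : Qd G a) (hb : Qd G b) : rk a = rk b :=
  le_antisymm (ha.min b hb.sq hb.ne hb.fam) (hb.min a ha.sq ha.ne ha.fam)

variable [FiniteDimensional k M]

theorem rk_pos {a : Module.End k M} (h : a ≠ 0) : 0 < rk a := by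
  rw [rk, Nat.pos_iff_ne_zero, Ne, Submodule.finrank_eq_zero, LinearMap.range_eq_bot]
  exact h

theorem finrank_ker (a : Module.End k M) :
    Module.finrank k (LinearMap.ker a) = Module.finrank k M - rk a := by
  have := a.finrank_range_add_finrank_ker
  unfold rk
  omega

/-- A candidate whose range and kernel are squeezed by a minimal one has the same ones. -/
theorem Qd.of_le {x a : Module.End k M} (hx : Qd G x) (ha : a * a = 0) (ha0 : a ≠ 0)
    (hf : ∀ c : k, Mem1 G (c • a)) (hr : LinearMap.range a ≤ LinearMap.range x) :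
    Qd G a ∧ LinearMap.range a = LinearMap.range x ∧
      (LinearMap.ker x ≤ LinearMap.ker a → LinearMap.ker a = LinearMap.ker x) := by
  have hle : rk a ≤ rk x := Submodule.finrank_mono hr
  have hge := hx.min a ha ha0 hf
  refine ⟨⟨ha, ha0, hf, fun b h1 h2 h3 => hle.trans (hx.min b h1 h2 h3)⟩,
    Submodule.eq_of_le_of_finrank_le hr hge, fun hk => (Submodule.eq_of_le_of_finrank_le hk ?_).symm⟩
  rw [finrank_ker, finrank_ker]
  omega

/-- Same kernel and range, minimal quadratic, or zero. -/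
def cls (G : Subgroup (LinearMap.GeneralLinearGroup k M)) (x : Module.End k M) :
    Submodule k (Module.End k M) where
  carrier := {a | a = 0 ∨ (Qd G a ∧ LinearMap.ker a = LinearMap.ker x ∧
    LinearMap.range a = LinearMap.range x)}
  zero_mem' := Or.inl rfl
  smul_mem' := by
    rintro c a (rfl | ⟨ha, hk, hr⟩)
    · exact Or.inl (smul_zero _)
    · rcases eq_or_ne c 0 with rfl | hc
      · exact Or.inl (zero_smul _ _)
      · exact Or.inr ⟨ha.smul hc, by rw [LinearMap.ker_smul a c hc, hk],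
          by rw [LinearMap.range_smul a c hc, hr]⟩
  add_mem' := by
    rintro a b (rfl | ⟨ha, hka, hra⟩) hb'
    · simpa using hb'
    rcases hb' with rfl | ⟨hb, hkb, hrb⟩
    · exact Or.inr (by simpa using ⟨ha, hka, hra⟩)
    by_cases h0 : a + b = 0
    · exact Or.inl h0
    have hab : a * b = 0 := mul_eq_zero_iff.mpr (by rw [hrb, ← hra]; exact range_le_ker ha.sq)
    have hba : b * a = 0 := mul_eq_zero_iff.mpr (by rw [hra, ← hrb]; exact range_le_ker hb.sq)
    obtain ⟨h, hr, hk⟩ := ha.of_le (a := a + b)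
      (by simp [add_mul, mul_add, ha.sq, hb.sq, hab, hba]) h0
      (fun c => by
        have := (ha.fam c).mul (hb.fam c)
        rwa [smul_mul_smul_comm, hab, smul_zero, add_zero, ← smul_add] at this)
      (by
        rintro _ ⟨m, rfl⟩
        exact Submodule.add_mem _ ⟨m, rfl⟩ (by rw [hra, ← hrb]; exact ⟨m, rfl⟩))
    refine Or.inr ⟨h, (hk fun m hm => ?_).trans hka, hr.trans hra⟩
    have hbm : m ∈ LinearMap.ker b := by rw [hkb, ← hka]; exact hm
    simpa [LinearMap.mem_ker.mp hbm] using hm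

theorem mem_cls {x a : Module.End k M} : a ∈ cls G x ↔ a = 0 ∨ (Qd G a ∧
    LinearMap.ker a = LinearMap.ker x ∧ LinearMap.range a = LinearMap.range x) := Iff.rfl

theorem self_mem_cls {x : Module.End k M} (h : Qd G x) : x ∈ cls G x := Or.inr ⟨h, rfl, rfl⟩

theorem cls_qd {x a : Module.End k M} (ha : a ∈ cls G x) (h0 : a ≠ 0) :
    Qd G a ∧ LinearMap.ker a = LinearMap.ker x ∧ LinearMap.range a = LinearMap.range x :=
  ha.resolve_left h0

theorem cls_eq {x a : Module.End k M} (ha : a ∈ cls G x) (h0 : a ≠ 0) : cls G a = cls G x := by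
  obtain ⟨-, hk, hr⟩ := cls_qd ha h0
  ext b
  rw [mem_cls, mem_cls, hk, hr]

theorem cls_mul_zero {x a b : Module.End k M} (ha : a ∈ cls G x) (hb : b ∈ cls G x) :
    a * b = 0 := by
  rcases ha with rfl | ⟨ha, hka, hra⟩
  · exact zero_mul _
  rcases hb with rfl | ⟨-, -, hrb⟩
  · exact mul_zero _
  exact mul_eq_zero_iff.mpr (by rw [hrb, ← hra]; exact range_le_ker ha.sq)

theorem cls_mem1 {x a : Module.End k M} (ha : a ∈ cls G x) : Mem1 G a := by
  rcases ha with rfl | ⟨ha, -, -⟩
  · exact mem1_zero G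
  · exact ha.mem

/-- The subgroup `E(x) = 1 + cls x`. -/
def root (G : Subgroup (LinearMap.GeneralLinearGroup k M)) (x : Module.End k M) :
    Subgroup (LinearMap.GeneralLinearGroup k M) where
  carrier := {g | (g : EndM) - 1 ∈ cls G x}
  one_mem' := by simp
  mul_mem' := fun {g h} (hg : (g : EndM) - 1 ∈ cls G x) (hh : (h : EndM) - 1 ∈ cls G x) => by
    have e : ((g * h : GLk) : EndM) - 1 = ((g : EndM) - 1) + ((h : EndM) - 1) := by
      have := cls_mul_zero hg hh
      simp only [sub_mul, mul_sub, one_mul, mul_one] at this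
      rw [Units.val_mul]
      linear_combination (norm := abel) this
    show ((g * h : GLk) : EndM) - 1 ∈ cls G x
    rw [e]
    exact add_mem hg hh
  inv_mem' := fun {g} (hg : (g : EndM) - 1 ∈ cls G x) => by
    show ((g⁻¹ : GLk) : EndM) - 1 ∈ cls G x
    rw [inv_val (cls_mul_zero hg hg) (by abel), show ∀ a : EndM, 1 - a - 1 = -a from fun a => by abel]
    exact neg_mem hg

theorem mem_root {x : Module.End k M} {g : GLk} : g ∈ root G x ↔ (g : EndM) - 1 ∈ cls G x := Iff.rfl

theorem root_le {x : Module.End k M} : root G x ≤ G := fun g hg => by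
  obtain ⟨g', hg', e⟩ := cls_mem1 (mem_root.mp hg)
  rwa [show g = g' from Units.ext (by rw [e]; abel)]

theorem exists_mem_root {x a : Module.End k M} (ha : a ∈ cls G x) :
    ∃ g ∈ root G x, (g : EndM) = 1 + a := by
  refine ⟨unit1 a (cls_mul_zero ha ha), ?_, rfl⟩
  rw [mem_root, unit1_val, add_sub_cancel_left]
  exact ha

theorem sameActionSubgroup_eq {σ : GLk} :
    sameActionSubgroup G σ = root G ((σ : EndM) - 1) := by
  apply le_antisymm
  · rw [sameActionSubgroup, Subgroup.closure_le]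
    rintro τ ⟨hτ, hk, hr⟩
    exact Or.inr ⟨mem_minimal_iff.mp hτ, hk, hr⟩
  · intro g hg
    rcases hg with h | ⟨h, hk, hr⟩
    · rw [show g = 1 from Units.ext (sub_eq_zero.mp h)]
      exact one_mem _
    · exact Subgroup.subset_closure ⟨mem_minimal_iff.mpr h, hk, hr⟩

theorem root_eq_of_mem {x a : Module.End k M} (ha : a ∈ cls G x) (h0 : a ≠ 0) :
    root G a = root G x := by
  ext g
  rw [mem_root, mem_root, cls_eq ha h0]

theorem mem_rootSubgroups {A : Subgroup GLk} :
    A ∈ quadraticRootSubgroups G ↔ ∃ x, Qd G x ∧ A = root G x := by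
  constructor
  · rintro ⟨σ, hσ, rfl⟩
    exact ⟨_, mem_minimal_iff.mp hσ, sameActionSubgroup_eq⟩
  · rintro ⟨x, hx, rfl⟩
    refine ⟨unit1 x hx.sq, mem_minimal_iff.mpr ?_, ?_⟩
    · rwa [unit1_val, add_sub_cancel_left]
    · rw [sameActionSubgroup_eq, unit1_val, add_sub_cancel_left]

theorem root_ne_bot {x : Module.End k M} (hx : Qd G x) : root G x ≠ ⊥ := by
  intro h
  obtain ⟨g, hg, e⟩ := exists_mem_root (self_mem_cls hx)
  rw [h, Subgroup.mem_bot] at hg
  subst hg
  exact hx.ne (by simpa using e)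

/-- Conjugation of endomorphisms. -/
def cj (g : LinearMap.GeneralLinearGroup k M) : Module.End k M ≃ₗ[k] Module.End k M where
  toFun a := (g : EndM) * a * ((g⁻¹ : GLk) : EndM)
  invFun a := ((g⁻¹ : GLk) : EndM) * a * (g : EndM)
  left_inv a := by simp [← mul_assoc]
  right_inv a := by simp [← mul_assoc]
  map_add' a b := by rw [mul_add, add_mul]
  map_smul' c a := by simp

omit [FiniteDimensional k M] in
theorem cj_apply (g : GLk) (a : Module.End k M) :
    cj g a = (g : EndM) * a * ((g⁻¹ : GLk) : EndM) := rfl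

omit [FiniteDimensional k M] in
theorem cj_mul (g : GLk) (a b : Module.End k M) : cj g (a * b) = cj g a * cj g b := by
  simp only [cj_apply, mul_assoc, Units.inv_mul_cancel_left]

omit [FiniteDimensional k M] in
theorem ker_cj (g : GLk) (a : Module.End k M) :
    LinearMap.ker (cj g a) = (LinearMap.ker a).comap ((g⁻¹ : GLk) : EndM) := by
  ext m
  simp only [LinearMap.mem_ker, Submodule.mem_comap, cj_apply, Module.End.mul_apply]
  constructor
  · intro h
    simpa [← Module.End.mul_apply, ← mul_assoc] using congrArg ((g⁻¹ : GLk) : EndM) h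
  · intro h
    rw [h, map_zero]

omit [FiniteDimensional k M] in
theorem range_cj (g : GLk) (a : Module.End k M) :
    LinearMap.range (cj g a) = (LinearMap.range a).map (g : EndM) := by
  have hs : LinearMap.range ((g⁻¹ : GLk) : EndM) = ⊤ :=
    LinearMap.range_eq_top.mpr fun m => ⟨(g : EndM) m, by rw [← Module.End.mul_apply]; simp⟩
  rw [cj_apply, mul_assoc, Module.End.mul_eq_comp, Module.End.mul_eq_comp, LinearMap.range_comp,
    LinearMap.range_comp, hs, Submodule.map_top]

omit [FiniteDimensional k M] in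
theorem rk_cj (g : GLk) (a : Module.End k M) : rk (cj g a) = rk a := by
  rw [rk, range_cj]
  exact (Submodule.equivMapOfInjective (g : EndM)
    ((Module.End.isUnit_iff _).mp g.isUnit).injective _).finrank_eq.symm

omit [FiniteDimensional k M] in
theorem Mem1.cj {g : GLk} (hg : g ∈ G) {a : Module.End k M} (ha : Mem1 G a) :
    Mem1 G (Ends.cj g a) := by
  obtain ⟨h, hh, e⟩ := ha
  exact ⟨g * h * g⁻¹, mul_mem (mul_mem hg hh) (inv_mem hg), by simp [e, cj_apply, mul_add, add_mul]⟩

omit [FiniteDimensional k M] in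
theorem Qd.cj {g : GLk} (hg : g ∈ G) {a : Module.End k M} (ha : Qd G a) : Qd G (Ends.cj g a) :=
  ⟨by rw [← cj_mul, ha.sq, map_zero], fun h => ha.ne ((Ends.cj g).injective (h.trans (map_zero _).symm)),
    fun c => by rw [← map_smul]; exact (ha.fam c).cj hg,
    fun b h1 h2 h3 => by rw [rk_cj]; exact ha.min b h1 h2 h3⟩

theorem cj_mem_cls {g : GLk} (hg : g ∈ G) {x a : Module.End k M} (ha : a ∈ cls G x) :
    cj g a ∈ cls G (cj g x) := by
  rcases ha with rfl | ⟨h, hk, hr⟩
  · rw [map_zero]; exact zero_mem _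
  · exact Or.inr ⟨h.cj hg, by rw [ker_cj, ker_cj, hk], by rw [range_cj, range_cj, hr]⟩

theorem conjBy_root {g : GLk} (hg : g ∈ G) (x : Module.End k M) :
    conjBy (root G x) g = root G (cj g x) := by
  have hinv : ∀ {g : GLk} (a : EndM), cj g⁻¹ (cj g a) = a := fun {g} a => by
    simp [cj_apply, mul_assoc]
  ext h
  constructor
  · rintro ⟨u, hu, rfl⟩
    rw [mem_root]
    convert cj_mem_cls hg (mem_root.mp hu) using 1
    simp [cj_apply, mul_sub, sub_mul]
  · intro hh
    refine ⟨g⁻¹ * h * g, ?_, by simp [mul_assoc]⟩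
    show g⁻¹ * h * g ∈ root G x
    rw [mem_root]
    have := cj_mem_cls (inv_mem hg) (mem_root.mp hh)
    rw [hinv] at this
    convert this using 1
    simp [cj_apply, mul_sub, sub_mul]

theorem finrank_cls_cj {g : GLk} (hg : g ∈ G) (x : Module.End k M) :
    Module.finrank k (cls G (cj g x)) = Module.finrank k (cls G x) := by
  suffices h : cls G (cj g x) = (cls G x).map ((cj g : Module.End k M ≃ₗ[k] Module.End k M) :
      Module.End k M →ₗ[k] Module.End k M) by
    rw [h]; exact LinearEquiv.finrank_map_eq (cj g) _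
  ext a
  constructor
  · intro ha
    refine ⟨cj g⁻¹ a, ?_, by simp [cj_apply, mul_assoc]⟩
    have := cj_mem_cls (inv_mem hg) ha
    rwa [show cj g⁻¹ (cj g x) = x by simp [cj_apply, mul_assoc]] at this
  · rintro ⟨b, hb, rfl⟩
    exact cj_mem_cls hg hb

end CfsgLib.Perm.Quad.Ends
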