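import Mathlib
import Cfsg.Agent.Lib.Perm.Unipotent

/-! Unipotent groups have terminating lower central series. -/

namespace CfsgLib.Perm.Quad.Nilpotency

open Cfsg CfsgLib.Perm.Unipotent

variable {k : Type*} [Field k] {M : Type*} [AddCommGroup M] [Module k M] [FiniteDimensional k M]

local notation "GLk" => LinearMap.GeneralLinearGroup k M

/-- Elements moving `i` steps down the fixed-point series. -/
def deg (H : Subgroup (LinearMap.GeneralLinearGroup k M)) (i : ℕ) :
    Subgroup (LinearMap.GeneralLinearGroup k M) :=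
  Subgroup.closure {g | g ∈ H ∧ ∀ j, ∀ m ∈ fixMod H (j + i), (g : M →ₗ[k] M) m - m ∈ fixMod H j}

theorem mem_deg {H : Subgroup GLk} {i : ℕ} {g : GLk} (hg : g ∈ deg H i) : g ∈ H ∧
    ∀ j, ∀ m ∈ fixMod H (j + i), (g : M →ₗ[k] M) m - m ∈ fixMod H j := by
  have hgH : g ∈ H := (Subgroup.closure_le _).mpr (fun x hx => hx.1) hg
  exact ⟨hgH, fun j m hm => closure_fixes (fun x hx s hs => fixMod_invariant hx.1 hs)
    (fun x hx => hx.2 j m hm) g hg⟩

theorem comm_deg {H : Subgroup GLk} {i : ℕ} {g u : GLk} (hg : g ∈ H) (hu : u ∈ deg H i) :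
    g * u * g⁻¹ * u⁻¹ ∈ deg H (i + 1) := by
  obtain ⟨huH, hu'⟩ := mem_deg hu
  refine Subgroup.subset_closure ⟨mul_mem (mul_mem (mul_mem hg huH) (inv_mem hg)) (inv_mem huH),
    fun j m hm => ?_⟩
  obtain ⟨v, hv⟩ : ∃ v : M, v = ((g⁻¹ * u⁻¹ : GLk) : M →ₗ[k] M) m := ⟨_, rfl⟩
  have hvm : v ∈ fixMod H (j + (i + 1)) :=
    hv ▸ fixMod_invariant (mul_mem (inv_mem hg) (inv_mem huH)) hm
  have e1 : ((g * u * g⁻¹ * u⁻¹ : GLk) : M →ₗ[k] M) m = (g : M →ₗ[k] M) ((u : M →ₗ[k] M) v) := by
    rw [hv, ← Module.End.mul_apply, ← Module.End.mul_apply, ← Units.val_mul, ← Units.val_mul]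
    simp only [mul_assoc]
  have e2 : m = (u : M →ₗ[k] M) ((g : M →ₗ[k] M) v) := by
    rw [hv, ← Module.End.mul_apply, ← Module.End.mul_apply, ← Units.val_mul, ← Units.val_mul]
    simp only [mul_assoc, mul_inv_cancel_left, mul_inv_cancel, Units.val_one, Module.End.one_apply]
  rw [e1]
  rw [e2]
  have hx : (g : M →ₗ[k] M) v - v ∈ fixMod H (j + i) :=
    mem_fixMod_succ.mp (by rwa [← Nat.add_assoc] at hvm) g hg
  have hy : (u : M →ₗ[k] M) v - v ∈ fixMod H (j + 1) :=
    hu' (j + 1) v (by rwa [Nat.add_right_comm, Nat.add_assoc])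
  have := Submodule.sub_mem _ (mem_fixMod_succ.mp hy g hg) (hu' j _ hx)
  simp only [map_sub] at this
  convert this using 1
  abel

theorem exists_lcs_eq_bot {H : Subgroup GLk} (hu : IsUnipotentOn H) :
    ∃ n : ℕ, H.lowerCentralSeries n = ⊥ := by
  have key : ∀ n, H.lowerCentralSeries n ≤ deg H (n + 1) := by
    intro n
    induction n with
    | zero =>
      intro g hg
      exact Subgroup.subset_closure ⟨hg, fun j m hm => mem_fixMod_succ.mp hm g hg⟩
    | succ n ih =>
      rw [Subgroup.lowerCentralSeries_succ]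
      refine Subgroup.commutator_le.mpr fun a ha b hb => ?_
      have h := inv_mem (comm_deg hb (ih ha))
      rw [commutatorElement_def]
      rwa [show (b * a * b⁻¹ * a⁻¹)⁻¹ = a * b * a⁻¹ * b⁻¹ by group] at h
  refine ⟨Module.finrank k M, eq_bot_iff.mpr fun g hg => ?_⟩
  have h0 := (mem_deg (key _ hg)).2 0
  rw [Nat.zero_add, exists_fixMod_eq_top hu] at h0
  rw [Subgroup.mem_bot]
  refine Units.ext (LinearMap.ext fun m => ?_)
  simpa [fixMod, sub_eq_zero] using h0 m Submodule.mem_top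

/-- A group with perfect image keeps that image along its lower central series. -/
theorem map_lcs_of_perfect {A B : Type*} [Group A] [Group B] (f : A →* B) {H : Subgroup A}
    (h : ⁅H.map f, H.map f⁆ = H.map f) (n : ℕ) : (H.lowerCentralSeries n).map f = H.map f := by
  induction n with
  | zero => rfl
  | succ n ih => rw [Subgroup.lowerCentralSeries_succ, Subgroup.map_commutator, ih, h]

end CfsgLib.Perm.Quad.Nilpotency
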