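import Mathlib
import Cfsg.Agent.Lib.Perm.Quad.SL2Basic

/-! Generation of `SL₂` of a simple extension of an infinite field by two `k`-families,
via orthogonal sequences for a generic linear form. -/

namespace CfsgLib.Perm.Quad.SL2Infinite

open Matrix CfsgLib.Perm.Quad.SL2

variable {k K : Type*} [Field k] [Field K] [Algebra k K] (pb : PowerBasis k K)

/-- The top coordinate in the power basis. -/
noncomputable def top1 : K →ₗ[k] k := pb.basis.coord ⟨pb.dim - 1, Nat.sub_lt pb.dim_pos one_pos⟩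

/-- The sequence attached to `v`. -/
noncomputable def sq1 (v : K) (i : ℕ) : k := top1 pb (v * pb.gen ^ i)

/-- Its Hankel matrices. -/
noncomputable def hankel (v : K) (j : ℕ) : Matrix (Fin j) (Fin j) k :=
  Matrix.of fun a b => sq1 pb v (a + b)

theorem top1_pow {m : ℕ} (hm : m < pb.dim) :
    top1 pb (pb.gen ^ m) = if m = pb.dim - 1 then 1 else 0 := by
  rw [top1, show pb.gen ^ m = pb.basis ⟨m, hm⟩ by simp [pb.basis_eq_pow], Module.Basis.coord_apply,
    Module.Basis.repr_self, Finsupp.single_apply]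
  simp [Fin.ext_iff]

theorem sq1_eq_sum (v : K) (i : ℕ) :
    sq1 pb v i = ∑ l : Fin pb.dim, pb.basis.repr v l * top1 pb (pb.gen ^ ((l : ℕ) + i)) := by
  conv_lhs => rw [sq1, ← pb.basis.sum_repr v]
  rw [Finset.sum_mul, map_sum]
  refine Finset.sum_congr rfl fun l _ => ?_
  rw [smul_mul_assoc, map_smul, pb.basis_eq_pow, ← pow_add, smul_eq_mul]

theorem coord_eq_zero {v : K} {m : ℕ} (hm : m ≤ pb.dim) (h : ∀ i < m, sq1 pb v i = 0) :
    ∀ l : Fin pb.dim, pb.dim - m ≤ (l : ℕ) → pb.basis.repr v l = 0 := by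
  suffices H : ∀ i, i < m → pb.basis.repr v ⟨pb.dim - 1 - i, by have := pb.dim_pos; omega⟩ = 0 by
    intro l hl
    have := H (pb.dim - 1 - l) (by have := l.2; omega)
    rwa [show (⟨pb.dim - 1 - (pb.dim - 1 - (l : ℕ)), _⟩ : Fin pb.dim) = l from
      Fin.ext (by have := l.2; simp only; omega)] at this
  intro i
  induction i using Nat.strong_induction_on with
  | _ i ih =>
    intro hi
    have hs := h i hi
    rw [sq1_eq_sum, Finset.sum_eq_single (⟨pb.dim - 1 - i, by have := pb.dim_pos; omega⟩ : Fin pb.dim)] at hs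
    · rwa [top1_pow pb (by simp only; omega), if_pos (by simp only; omega), mul_one] at hs
    · intro l _ hl
      rcases Nat.lt_or_ge (l : ℕ) (pb.dim - 1 - i) with hlt | hge
      · rw [top1_pow pb (by omega), if_neg (by omega), mul_zero]
      · have hlt : pb.dim - 1 - i < (l : ℕ) := lt_of_le_of_ne hge fun e => hl (Fin.ext e.symm)
        have := ih (pb.dim - 1 - l) (by omega) (by omega)
        rw [show l = ⟨pb.dim - 1 - (pb.dim - 1 - (l : ℕ)), by omega⟩ from Fin.ext (by simp only; have := l.2; omega),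
          this, zero_mul]
    · simp

theorem eq_zero_of_sq1 {v : K} (h : ∀ i < pb.dim, sq1 pb v i = 0) : v = 0 := by
  have := coord_eq_zero pb le_rfl h
  apply pb.basis.repr.injective
  ext l
  simpa using this l (by simp)

theorem mem_scalars_of_sq1 {v : K} (h : ∀ i < pb.dim - 1, sq1 pb v i = 0) :
    ∃ a : k, v = algebraMap k K a := by
  have h' := coord_eq_zero pb (Nat.sub_le _ _) h
  refine ⟨pb.basis.repr v ⟨0, pb.dim_pos⟩, ?_⟩
  conv_lhs => rw [← pb.basis.sum_repr v]
  rw [Finset.sum_eq_single ⟨0, pb.dim_pos⟩]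
  · simp [pb.basis_eq_pow, Algebra.smul_def]
  · intro l _ hl
    have : (l : ℕ) ≠ 0 := fun e => hl (Fin.ext e)
    rw [h' l (by omega), zero_smul]
  · simp

theorem exists_sq1 (f : Fin pb.dim → k) : ∃ v : K, ∀ i : Fin pb.dim, sq1 pb v i = f i := by
  let Φ : K →ₗ[k] (Fin pb.dim → k) :=
    LinearMap.pi fun i => (top1 pb).comp ((LinearMap.mul k K).flip (pb.gen ^ (i : ℕ)))
  haveI := pb.finite
  have hinj : Function.Injective Φ := by
    rw [injective_iff_map_eq_zero]
    intro v hv
    exact eq_zero_of_sq1 pb fun i hi => congrFun hv ⟨i, hi⟩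
  obtain ⟨v, hv⟩ :=
    (LinearMap.injective_iff_surjective_of_finrank_eq_finrank (by simp [pb.finrank])).mp hinj f
  exact ⟨v, fun i => congrFun hv i⟩

theorem exists_hankel_ne_zero {j : ℕ} (hj : j < pb.dim) :
    ∃ v : K, (hankel pb v (j + 1)).det ≠ 0 := by
  obtain ⟨v, hv⟩ := exists_sq1 pb (fun i => if (i : ℕ) = j then 1 else 0)
  refine ⟨v, fun hdet => ?_⟩
  obtain ⟨y, hy, hy0⟩ := Matrix.exists_vecMul_eq_zero_iff.mpr hdet
  obtain ⟨a, ha, hmax⟩ := (Set.toFinite {a | y a ≠ 0}).exists_maximalFor id _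
    (show {a | y a ≠ 0}.Nonempty from Function.ne_iff.mp hy)
  have := congrFun hy0 ⟨j - a, by omega⟩
  simp only [Matrix.vecMul, dotProduct, Pi.zero_apply] at this
  rw [Finset.sum_eq_single a] at this
  · refine ha ?_
    have e : (a : ℕ) + (j - a) = j := by omega
    simpa [hankel, e, hv ⟨j, hj⟩] using this
  · intro b _ hb
    rcases lt_or_gt_of_ne hb with hlt | hgt
    · have hlt' : (b : ℕ) + (j - a) < j := by
        have := (Fin.lt_def.mp hlt); omega
      simp [hankel, hv ⟨_, hlt'.trans hj⟩, hlt'.ne]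
    · have : y b = 0 := by
        by_contra hne
        exact absurd (hmax hne hgt.le) (not_le.mpr hgt)
      rw [this, zero_mul]
  · simp

/-- Generic elements. -/
def Good (v : K) : Prop :=
  ∀ j < pb.dim, (hankel pb v (j + 1)).det ≠ 0 ∧ (hankel pb (v * pb.gen) (j + 1)).det ≠ 0

/-- `x` has exact degree `j` in the generator. -/
def HasDeg (x : K) (j : ℕ) : Prop :=
  ∃ c : Fin (j + 1) → k, c (Fin.last j) ≠ 0 ∧ x = ∑ l, c l • pb.gen ^ (l : ℕ)

theorem HasDeg.pairing_ne_zero {x : K} {j : ℕ} (hx : HasDeg pb x j) {v : K}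
    (hv : (hankel pb v (j + 1)).det ≠ 0) (horth : ∀ i < j, sq1 pb (v * x) i = 0) :
    sq1 pb (v * x) j ≠ 0 := by
  obtain ⟨c, hc, rfl⟩ := hx
  intro h0
  have hall : ∀ b : Fin (j + 1), sq1 pb (v * ∑ l, c l • pb.gen ^ (l : ℕ)) b = 0 := fun b => by
    rcases Nat.lt_or_ge (b : ℕ) j with h | h
    · exact horth b h
    · rwa [show (b : ℕ) = j by have := b.2; omega]
  have : Matrix.vecMul c (hankel pb v (j + 1)) = 0 := by
    ext b
    rw [Pi.zero_apply, ← hall b, sq1, Finset.mul_sum, Finset.sum_mul, map_sum]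
    simp only [Matrix.vecMul, dotProduct, hankel, Matrix.of_apply, sq1, mul_smul_comm,
      smul_mul_assoc, map_smul, smul_eq_mul, pow_add, mul_assoc]
  exact hc (congrFun (Matrix.eq_zero_of_vecMul_eq_zero hv this) _)

theorem HasDeg.shift {x : K} {j : ℕ} (hx : HasDeg pb x j) : HasDeg pb (pb.gen * x) (j + 1) := by
  obtain ⟨c, hc, rfl⟩ := hx
  refine ⟨Fin.cons 0 c, by rwa [← Fin.succ_last, Fin.cons_succ], ?_⟩
  rw [Finset.mul_sum]
  conv_rhs => rw [Fin.sum_univ_succ]
  simp [pow_succ', mul_smul_comm]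

theorem HasDeg.add_smul {x y : K} {j : ℕ} (hy : HasDeg pb y (j + 1)) (hx : HasDeg pb x j) {a : k}
    (ha : a ≠ 0) : HasDeg pb (x + a • y) (j + 1) := by
  obtain ⟨c, hc, rfl⟩ := hx
  obtain ⟨d, hd, rfl⟩ := hy
  refine ⟨fun l => Fin.snoc (α := fun _ => k) c 0 l + a * d l, ?_, ?_⟩
  · simp [ha, hd]
  · rw [Finset.smul_sum]
    simp only [_root_.add_smul, mul_smul, Finset.sum_add_distrib]
    congr 1
    rw [Fin.sum_univ_castSucc (n := j + 1)]
    simp

variable {pb}

theorem stage {v : K} (hgood : Good pb v) : ∀ j, j < pb.dim →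
    ∃ g ∈ gen k pb.gen, ∃ P Q : K, g.1 0 0 = P ∧ g.1 1 0 = pb.gen * Q ∧
      HasDeg pb P j ∧ HasDeg pb Q j ∧
      (∀ i < j, sq1 pb (v * P) i = 0) ∧ ∀ i < j, sq1 pb (v * pb.gen * Q) i = 0 := by
  intro j
  induction j with
  | zero =>
    intro _
    refine ⟨low pb.gen, by simpa using low_mem_gen k pb.gen (1 : k), 1, 1, by simp [low_val],
      by simp [low_val], ⟨fun _ => 1, one_ne_zero, by simp⟩, ⟨fun _ => 1, one_ne_zero, by simp⟩,
      by omega, by omega⟩
  | succ j ih =>
    intro hj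
    obtain ⟨g, hg, P, Q, hP, hQ, hdP, hdQ, hoP, hoQ⟩ := ih (by omega)
    have h1 := hdP.pairing_ne_zero pb (hgood j (by omega)).1 hoP
    have h2 := hdQ.pairing_ne_zero pb (hgood j (by omega)).2 hoQ
    obtain ⟨a, ha, hoa⟩ : ∃ a : k, a ≠ 0 ∧ sq1 pb (v * P) j + a * sq1 pb (v * pb.gen * Q) j = 0 :=
      ⟨-(sq1 pb (v * P) j) / sq1 pb (v * pb.gen * Q) j, div_ne_zero (neg_ne_zero.mpr h1) h2,
        by field_simp; ring⟩
    have hs1 : ∀ i, sq1 pb (v * (P + a • (pb.gen * Q))) i =
        sq1 pb (v * P) i + a * sq1 pb (v * pb.gen * Q) i := fun i => by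
      simp only [sq1, mul_add, add_mul, mul_smul_comm, smul_mul_assoc, map_add, map_smul,
        smul_eq_mul, mul_assoc]
    have hoP' : ∀ i < j + 1, sq1 pb (v * (P + a • (pb.gen * Q))) i = 0 := by
      intro i hi
      rw [hs1]
      rcases Nat.lt_or_ge i j with h | h
      · rw [hoP i h, hoQ i h]; ring
      · rw [show i = j by omega]; exact hoa
    have hdP' := hdQ.shift.add_smul pb hdP ha
    set P' := P + a • (pb.gen * Q) with hP'
    have h1' := hdP'.pairing_ne_zero pb (hgood (j + 1) hj).1 hoP'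
    have hs2 : ∀ (b : k) i, sq1 pb (v * pb.gen * (Q + b • P')) i =
        sq1 pb (v * pb.gen * Q) i + b * sq1 pb (v * P') (i + 1) := fun b i => by
      simp only [sq1, mul_add, add_mul, mul_smul_comm, smul_mul_assoc, map_add, map_smul,
        smul_eq_mul, pow_succ']
      ring_nf
    obtain ⟨b, hb, hob⟩ : ∃ b : k, b ≠ 0 ∧ sq1 pb (v * pb.gen * Q) j + b * sq1 pb (v * P') (j + 1) = 0 :=
      ⟨-(sq1 pb (v * pb.gen * Q) j) / sq1 pb (v * P') (j + 1), div_ne_zero (neg_ne_zero.mpr h2) h1',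
        by field_simp; ring⟩
    refine ⟨low (algebraMap k K b * pb.gen) * (up (algebraMap k K a) * g),
      mul_mem (low_mem_gen k _ b) (mul_mem (up_mem_gen k _ a) hg), P', Q + b • P', ?_, ?_, hdP',
      hdP'.add_smul pb hdQ hb, hoP', ?_⟩
    · simp [mul_apply2, up_val, low_val, hP, hQ, hP', Algebra.smul_def]
    · simp [mul_apply2, up_val, low_val, hP, hQ, hP', Algebra.smul_def]; ring
    · intro i hi
      rw [hs2]
      rcases Nat.lt_or_ge i j with h | h
      · rw [hoQ i h, hoP' (i + 1) (by omega)]; ring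
      · rw [show i = j by omega]; exact hob

theorem exists_zero_corner {v : K} (hv0 : v ≠ 0) (hgood : Good pb v) :
    ∃ g ∈ gen k pb.gen, ∃ a : k, a ≠ 0 ∧ g.1 0 0 = 0 ∧ g.1 1 0 * v = algebraMap k K a := by
  have hj : pb.dim - 1 < pb.dim := Nat.sub_lt pb.dim_pos one_pos
  obtain ⟨g, hg, P, Q, hP, hQ, hdP, hdQ, hoP, hoQ⟩ := stage hgood _ hj
  have h2 := hdQ.pairing_ne_zero pb (hgood _ hj).2 hoQ
  obtain ⟨c, hoc⟩ : ∃ c : k,
      sq1 pb (v * P) (pb.dim - 1) + c * sq1 pb (v * pb.gen * Q) (pb.dim - 1) = 0 :=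
    ⟨-(sq1 pb (v * P) (pb.dim - 1)) / sq1 pb (v * pb.gen * Q) (pb.dim - 1), by field_simp; ring⟩
  have hzero : v * (P + c • (pb.gen * Q)) = 0 := by
    apply eq_zero_of_sq1 pb
    intro i hi
    have : sq1 pb (v * (P + c • (pb.gen * Q))) i =
        sq1 pb (v * P) i + c * sq1 pb (v * pb.gen * Q) i := by
      simp only [sq1, mul_add, add_mul, mul_smul_comm, smul_mul_assoc, map_add, map_smul,
        smul_eq_mul, mul_assoc]
    rw [this]
    rcases Nat.lt_or_ge i (pb.dim - 1) with h | h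
    · rw [hoP i h, hoQ i h]; ring
    · rw [show i = pb.dim - 1 by omega]; exact hoc
  obtain ⟨a, ha⟩ := mem_scalars_of_sq1 pb (v := v * pb.gen * Q) hoQ
  have h0 : (up (algebraMap k K c) * g).1 0 0 = 0 := by
    simpa [mul_apply2, up_val, hP, hQ, Algebra.smul_def] using (mul_eq_zero.mp hzero).resolve_left hv0
  refine ⟨_, mul_mem (up_mem_gen k _ c) hg, a, ?_, h0, ?_⟩
  · rintro rfl
    have hd := det2 (up (algebraMap k K c) * g)
    have hz : (up (algebraMap k K c) * g).1 1 0 = 0 := by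
      rw [map_zero, mul_assoc] at ha
      simpa [mul_apply2, up_val, hQ] using (mul_eq_zero.mp ha).resolve_left hv0
    rw [h0, hz] at hd
    simp at hd
  · rw [← ha]; simp [mul_apply2, up_val, hQ]; ring

/-- Two `k`-families generate all unitriangular elements, `k` infinite of characteristic not two. -/
theorem mem_gen_of_infinite [Infinite k] (h2 : (2 : k) ≠ 0) (pb : PowerBasis k K)
    (hgen : pb.gen ≠ 0) (r : K) : up r ∈ gen k pb.gen ∧ low r ∈ gen k pb.gen := by
  classical
  -- polynomials for the Hankel determinants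
  let Xv : MvPolynomial (Fin pb.dim) k → Prop := fun P => P ≠ 0
  let vec : (Fin pb.dim → k) → K := fun c => ∑ l, c l • pb.gen ^ (l : ℕ)
  let pol : K → ℕ → MvPolynomial (Fin pb.dim) k := fun w i =>
    ∑ l : Fin pb.dim, MvPolynomial.C (top1 pb (w * pb.gen ^ (l : ℕ) * pb.gen ^ i)) * MvPolynomial.X l
  let D : K → ℕ → MvPolynomial (Fin pb.dim) k := fun w j =>
    (Matrix.of fun a b : Fin (j + 1) => pol w (a + b)).det
  have hDeval : ∀ w j c, MvPolynomial.eval c (D w j) = (hankel pb (vec c * w) (j + 1)).det := by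
    intro w j c
    simp only [D]
    rw [RingHom.map_det]
    congr 1
    ext a b
    simp only [pol, vec, hankel, sq1, RingHom.mapMatrix_apply, Matrix.map_apply, Matrix.of_apply,
      map_sum, map_mul, MvPolynomial.eval_C, MvPolynomial.eval_X, Finset.sum_mul, smul_mul_assoc,
      map_smul, smul_eq_mul]
    refine Finset.sum_congr rfl fun l _ => ?_
    rw [mul_comm (c l)]
    congr 2
    ring
  have hvec : ∀ v : K, ∃ c, vec c = v := fun v => ⟨fun l => pb.basis.repr v l, by
    conv_rhs => rw [← pb.basis.sum_repr v]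
    simp [vec, pb.basis_eq_pow]⟩
  have hD1 : ∀ j < pb.dim, D 1 j ≠ 0 ∧ D pb.gen j ≠ 0 := by
    intro j hj
    obtain ⟨v, hv⟩ := exists_hankel_ne_zero pb hj
    refine ⟨fun h => hv ?_, fun h => hv ?_⟩
    · obtain ⟨c, hc⟩ := hvec v
      have := hDeval 1 j c
      rw [h, map_zero, mul_one, hc] at this
      exact this.symm
    · obtain ⟨c, hc⟩ := hvec (v / pb.gen)
      have := hDeval pb.gen j c
      rw [h, map_zero, hc, div_mul_cancel₀ v hgen] at this
      exact this.symm
  let prodD : MvPolynomial (Fin pb.dim) k := ∏ j ∈ Finset.range pb.dim, D 1 j * D pb.gen j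
  have hprod : prodD ≠ 0 := Finset.prod_ne_zero_iff.mpr fun j hj =>
    mul_ne_zero (hD1 j (Finset.mem_range.mp hj)).1 (hD1 j (Finset.mem_range.mp hj)).2
  have hgood : ∀ c, MvPolynomial.eval c prodD ≠ 0 → vec c ≠ 0 ∧ Good pb (vec c) := by
    intro c hc
    have hG : Good pb (vec c) := fun j hj => by
      simp only [prodD, map_prod] at hc
      have := Finset.prod_ne_zero_iff.mp hc j (Finset.mem_range.mpr hj)
      rw [map_mul, mul_ne_zero_iff, hDeval, hDeval, mul_one] at this
      exact this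
    refine ⟨fun h0 => (hG 0 pb.dim_pos).1 ?_, hG⟩
    simp [h0, hankel, sq1, Matrix.det_fin_one]
  -- the upper parameters contain a spanning set
  set H := gen k pb.gen with hH
  let S : Set K := {x | ∃ v, v ≠ 0 ∧ Good pb v ∧ x = pb.gen * v ^ 2}
  have hS : ∀ x ∈ S, ∀ b : k, up (b • x) ∈ H := by
    rintro _ ⟨v, hv0, hv, rfl⟩ b
    obtain ⟨g, hg, a, ha, h0, hc⟩ := exists_zero_corner hv0 hv
    have hbc : g.1 0 1 * g.1 1 0 = -1 := by linear_combination (-(1 : K)) * det2 g + g.1 1 1 * h0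
    have := (conj_mem_of_mem hg (low_mem_gen k pb.gen (-(b * a ^ 2)))).1
    rw [conj_low_of_zero h0] at this
    have hval : g.1 0 1 * algebraMap k K a = -v := by linear_combination -(g.1 0 1) * hc + v * hbc
    have e : -(algebraMap k K (-(b * a ^ 2)) * pb.gen * g.1 0 1 ^ 2) = b • (pb.gen * v ^ 2) := by
      rw [map_neg, map_mul, map_pow, Algebra.smul_def]
      linear_combination (algebraMap k K b * pb.gen * (g.1 0 1 * algebraMap k K a - v)) * hval
    rwa [e] at this
  have hspan : Submodule.span k S = ⊤ := by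
    by_contra hne
    obtain ⟨ψ, hψ, hle⟩ := Submodule.exists_le_ker_of_lt_top _ (lt_top_iff_ne_top.mpr hne)
    let Qp : MvPolynomial (Fin pb.dim) k := ∑ l : Fin pb.dim, ∑ l' : Fin pb.dim,
      MvPolynomial.C (ψ (pb.gen * pb.gen ^ (l : ℕ) * pb.gen ^ (l' : ℕ))) *
        MvPolynomial.X l * MvPolynomial.X l'
    have hQ : ∀ c, MvPolynomial.eval c Qp = ψ (pb.gen * vec c ^ 2) := by
      intro c
      simp only [Qp, vec, sq, map_sum, map_mul, MvPolynomial.eval_C, MvPolynomial.eval_X,
        Finset.sum_mul, Finset.mul_sum, smul_mul_assoc, mul_smul_comm, map_smul, smul_eq_mul]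
      rw [Finset.sum_comm]
      refine Finset.sum_congr rfl fun l _ => Finset.sum_congr rfl fun l' _ => ?_
      ring_nf
    have hPQ : prodD * Qp = 0 := by
      apply MvPolynomial.funext
      intro c
      rw [map_mul, map_zero]
      by_cases hc : MvPolynomial.eval c prodD = 0
      · rw [hc, zero_mul]
      · have := hle (Submodule.subset_span ⟨_, (hgood c hc).1, (hgood c hc).2, rfl⟩)
        rw [hQ, LinearMap.mem_ker.mp this, mul_zero]
    have hQ0 : ∀ v : K, ψ (pb.gen * v ^ 2) = 0 := fun v => by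
      obtain ⟨c, rfl⟩ := hvec v
      rw [← hQ, (mul_eq_zero.mp hPQ).resolve_left hprod, map_zero]
    refine hψ (LinearMap.ext fun w => ?_)
    have e := hQ0 (w / pb.gen + 1)
    have e1 := hQ0 (w / pb.gen)
    have e2 := hQ0 1
    rw [show pb.gen * (w / pb.gen + 1) ^ 2 =
      pb.gen * (w / pb.gen) ^ 2 + pb.gen * 1 ^ 2 + (2 : k) • w by
        rw [Algebra.smul_def, map_ofNat]; field_simp; ring,
      map_add, map_add, e1, e2, zero_add, zero_add, map_smul, smul_eq_mul] at e
    exact (mul_eq_zero.mp e).resolve_left h2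
  have hU : ∀ x : K, up x ∈ H := by
    intro x
    have hx : x ∈ Submodule.span k S := hspan ▸ Submodule.mem_top
    have : ∀ b : k, up (b • x) ∈ H := by
      induction hx using Submodule.span_induction with
      | mem y hy => exact hS y hy
      | zero => intro b; rw [smul_zero, up_zero]; exact one_mem H
      | add y z _ _ hy hz => intro b; rw [smul_add, ← up_add]; exact mul_mem (hy b) (hz b)
      | smul a y _ hy => intro b; rw [smul_smul]; exact hy _
    simpa using this 1
  refine ⟨hU r, ?_⟩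
  obtain ⟨c, hc⟩ : ∃ c, MvPolynomial.eval c prodD ≠ 0 := by
    by_contra hcon
    push Not at hcon
    exact hprod (MvPolynomial.funext fun c => by rw [hcon c, map_zero])
  obtain ⟨g, hg, a, -, h0, -⟩ := exists_zero_corner (hgood c hc).1 (hgood c hc).2
  exact low_mem_of_up hU hg h0 r

end CfsgLib.Perm.Quad.SL2Infinite
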