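import Mathlib
import Cfsg.Agent.Lib.Perm.Quad.SL2Infinite
import Cfsg.Agent.Lib.Perm.Quad.SL2Finite
import Cfsg.Agent.Lib.Perm.SL2Unipotent

/-! Two `k`-families generate `SL₂` of a simple field extension. -/

namespace CfsgLib.Perm.Quad.SL2Gen

open Matrix CfsgLib.Perm.Quad.SL2

variable {k : Type*} [Field k] {K : Type*} [Field K] [Algebra k K]

theorem five_le_card [Finite k] (h2 : (2 : k) ≠ 0) (h3 : Nat.card k ≠ 3) : 5 ≤ Nat.card k := by
  haveI := Fintype.ofFinite k
  rw [Nat.card_eq_fintype_card] at h3 ⊢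
  have h1 := Fintype.one_lt_card (α := k)
  have hodd : Fintype.card k % 2 ≠ 0 := fun h => by
    have hc := FiniteField.even_card_iff_char_two.mpr h
    have h0 : ((ringChar k : ℕ) : k) = 0 := ringChar.Nat.cast_ringChar
    rw [hc] at h0
    exact h2 (by exact_mod_cast h0)
  omega

theorem mem_gen (h2 : (2 : k) ≠ 0) (h3 : Nat.card k ≠ 3) (pb : PowerBasis k K) (hgen : pb.gen ≠ 0)
    (r : K) : up r ∈ gen k pb.gen ∧ low r ∈ gen k pb.gen := by
  cases finite_or_infinite k with
  | inl h => exact SL2Finite.mem_gen_of_finite h2 (five_le_card h2 h3) pb hgen r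
  | inr h => exact SL2Infinite.mem_gen_of_infinite h2 pb hgen r

/-- Version for a generator given by `adjoin = ⊤`. -/
theorem mem_gen_of_adjoin (h2 : (2 : k) ≠ 0) (h3 : Nat.card k ≠ 3) {lam : K}
    (hint : IsIntegral k lam) (hadj : Algebra.adjoin k ({lam} : Set K) = ⊤) (hlam : lam ≠ 0)
    (r : K) : up r ∈ gen k lam ∧ low r ∈ gen k lam := by
  let pb : PowerBasis k K := (Algebra.adjoin.powerBasis hint).map
    ((Subalgebra.equivOfEq _ _ hadj).trans Subalgebra.topEquiv)
  have hg : pb.gen = lam := rfl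
  have := mem_gen h2 h3 pb (hg ▸ hlam) r
  rwa [hg] at this

/-- The unitriangular elements generate `SL₂` of a field. -/
theorem eq_top_of_mem {H : Subgroup (SL K)} (h : ∀ r : K, up r ∈ H ∧ low r ∈ H) : H = ⊤ := by
  rw [eq_top_iff, ← SL2Unipotent.sup_eq_top (k := K), sup_le_iff]
  constructor
  · intro g hg
    obtain ⟨c, rfl⟩ := SL2Unipotent.mem_lower.mp hg
    exact (h c).2
  · intro g hg
    obtain ⟨c, rfl⟩ := SL2Unipotent.mem_upper.mp hg
    exact (h c).1

theorem gen_eq_top (h2 : (2 : k) ≠ 0) (h3 : Nat.card k ≠ 3) {lam : K}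
    (hint : IsIntegral k lam) (hadj : Algebra.adjoin k ({lam} : Set K) = ⊤) (hlam : lam ≠ 0) :
    gen k lam = ⊤ := eq_top_of_mem (mem_gen_of_adjoin h2 h3 hint hadj hlam)

end CfsgLib.Perm.Quad.SL2Gen
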