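import Mathlib
import Cfsg.Agent.Lib.Perm.Quad.SL2Gen

/-! Noncentral normal subgroups of `SL₂` of a field with at least five elements. -/

namespace CfsgLib.Perm.Quad.SL2Normal

open Matrix CfsgLib.Perm.Quad.SL2

variable {F : Type*} [Field F]

/-- Finitely many excluded values. -/
theorem exists_avoid (hF : Infinite F ∨ 5 ≤ Nat.card F) (S : Finset F) (hS : S.card ≤ 4) :
    ∃ x : F, x ∉ S := by
  by_contra! h
  haveI : Finite F := Finite.of_surjective (fun x : S => x.1) (fun x => ⟨⟨x, h x⟩, rfl⟩)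
  rcases hF with hF | hF
  · exact not_finite F
  · haveI := Fintype.ofFinite F
    rw [Nat.card_eq_fintype_card, ← Finset.card_univ] at hF
    have := Finset.card_le_card (show (Finset.univ : Finset F) ⊆ S from fun x _ => h x)
    omega

/-- A torus element. -/
def tor (m : F) (hm : m ≠ 0) : SL F := ⟨!![m, 0; 0, m⁻¹], by simp [hm]⟩

theorem tor_val (m : F) (hm : m ≠ 0) : (tor m hm).1 = !![m, 0; 0, m⁻¹] := rfl

theorem tor_inv_val (m : F) (hm : m ≠ 0) : ((tor m hm)⁻¹).1 = !![m⁻¹, 0; 0, m] := by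
  rw [Matrix.SpecialLinearGroup.coe_inv, tor_val, Matrix.adjugate_fin_two_of, neg_zero]

theorem inv2 (g : SL F) : (g⁻¹).1 = !![g.1 1 1, -g.1 0 1; -g.1 1 0, g.1 0 0] := by
  rw [Matrix.SpecialLinearGroup.coe_inv, Matrix.adjugate_fin_two]

theorem eq_top (hF : Infinite F ∨ 5 ≤ Nat.card F) (h2 : (2 : F) ≠ 0) {N : Subgroup (SL F)}
    (hN : N.Normal) {n : SL F} (hn : n ∈ N)
    (hns : n.1 0 1 ≠ 0 ∨ n.1 1 0 ≠ 0 ∨ n.1 0 0 ≠ n.1 1 1) : N = ⊤ := by
  classical
  -- an element with nonzero lower left entry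
  obtain ⟨n1, hn1, hc1⟩ : ∃ g ∈ N, g.1 1 0 ≠ 0 := by
    by_cases hc : n.1 1 0 = 0
    · by_cases hb : n.1 0 1 = 0
      · refine ⟨low 1 * n * (low 1)⁻¹, hN.conj_mem _ hn _, ?_⟩
        have hd : n.1 0 0 - n.1 1 1 ≠ 0 := sub_ne_zero.mpr (by tauto)
        simpa [mul_apply2, low_inv, low_val, hb, hc, sub_eq_add_neg] using hd
      · refine ⟨(up 1 * low (-1) * up 1) * n * (up 1 * low (-1) * up 1)⁻¹, hN.conj_mem _ hn _, ?_⟩
        simp [mul_apply2, up_inv, low_inv, low_val, up_val, hc, hb]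
    · exact ⟨n, hn, hc⟩
  -- corner zero
  have corner : ∀ g ∈ N, g.1 1 0 ≠ 0 → ∃ g' ∈ N, g'.1 0 0 = 0 ∧ g'.1 1 0 ≠ 0 ∧
      g'.1 1 1 = g.1 0 0 + g.1 1 1 := by
    intro g hg hc
    refine ⟨up (-g.1 0 0 / g.1 1 0) * g * (up (-g.1 0 0 / g.1 1 0))⁻¹, hN.conj_mem _ hg _, ?_, ?_, ?_⟩
    · simp [mul_apply2, up_inv, up_val, hc]
    · simp [mul_apply2, up_inv, up_val, hc]
    · simp [mul_apply2, up_inv, up_val]
      field_simp
  obtain ⟨n2, hn2, ha2, hc2, -⟩ := corner n1 hn1 hc1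
  -- nonzero trace
  obtain ⟨n3, hn3, hc3, ht3⟩ : ∃ g ∈ N, g.1 1 0 ≠ 0 ∧ g.1 0 0 + g.1 1 1 ≠ 0 := by
    by_cases hd : n2.1 1 1 = 0
    · obtain ⟨x, hx⟩ := exists_avoid hF
        ((insert (0 : F) (Polynomial.roots (Polynomial.C (n2.1 1 0 ^ 2) * Polynomial.X ^ 2 +
          Polynomial.C 2)).toFinset)) (by
          refine (Finset.card_insert_le _ _).trans ?_
          have := (Multiset.toFinset_card_le _).trans (Polynomial.card_roots'
            (Polynomial.C (n2.1 1 0 ^ 2) * Polynomial.X ^ 2 + Polynomial.C 2))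
          have hdeg : (Polynomial.C (n2.1 1 0 ^ 2) * Polynomial.X ^ 2 + Polynomial.C (2 : F)).natDegree ≤ 2 := by
            compute_degree
          omega)
      simp only [Finset.mem_insert, Multiset.mem_toFinset, not_or] at hx
      have hx2 : n2.1 1 0 ^ 2 * x ^ 2 + 2 ≠ 0 := by
        intro h
        apply hx.2
        rw [Polynomial.mem_roots']
        refine ⟨fun e => h2 ?_, by simpa using h⟩
        simpa using congrArg (fun P => Polynomial.eval 0 P) e
      refine ⟨n2 * (up x * n2⁻¹ * (up x)⁻¹), mul_mem hn2 (hN.conj_mem _ (inv_mem hn2) _), ?_, ?_⟩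
      · intro e
        simp [mul_apply2, Matrix.adjugate_fin_two, up_inv, up_val, ha2, hd, hc2, hx.1] at e
      · intro e
        apply hx2
        simp [mul_apply2, Matrix.adjugate_fin_two, up_inv, up_val, ha2, hd] at e
        have hdet := det2 n2
        rw [ha2, hd] at hdet
        linear_combination e - 2 * hdet
    · exact ⟨n2, hn2, hc2, by simpa [ha2] using hd⟩
  obtain ⟨g, hg, hga, hgc, hgd⟩ := corner n3 hn3 hc3
  rw [← hgd] at ht3
  -- one nonzero lower element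
  obtain ⟨m, hm⟩ := exists_avoid hF ({0, 1, -1} : Finset F) (le_trans Finset.card_le_three (by norm_num))
  simp only [Finset.mem_insert, Finset.mem_singleton, not_or] at hm
  obtain ⟨hm0, hm1, hm1'⟩ := hm
  have hmm : m ^ 2 ≠ 1 := fun e => by
    rcases sq_eq_one_iff.mp e with h | h
    · exact hm1 h
    · exact hm1' h
  set t := tor m hm0
  set y := g.1 1 0 * g.1 1 1 * (1 / m ^ 2 - 1)
  have hy : y ≠ 0 := mul_ne_zero (mul_ne_zero hgc ht3) (by
    rw [sub_ne_zero]; intro e; apply hmm; field_simp at e; exact e.symm)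
  have hT : t * g * t⁻¹ * g⁻¹ ∈ N := mul_mem (hN.conj_mem _ hg _) (inv_mem hg)
  have hdet := det2 g
  rw [hga, zero_mul, zero_sub] at hdet
  have e00 : (t * g * t⁻¹ * g⁻¹).1 0 0 = m ^ 2 := by
    simp [mul_apply2, Matrix.adjugate_fin_two, t, tor_val, hga]
    linear_combination m ^ 2 * hdet
  have e01 : (t * g * t⁻¹ * g⁻¹).1 0 1 = 0 := by
    simp [mul_apply2, Matrix.adjugate_fin_two, t, tor_val, hga]
  have e10 : (t * g * t⁻¹ * g⁻¹).1 1 0 = y := by
    simp [mul_apply2, Matrix.adjugate_fin_two, t, tor_val, hga, y]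
    field_simp
    ring
  have e11 : (t * g * t⁻¹ * g⁻¹).1 1 1 = 1 / m ^ 2 := by
    simp [mul_apply2, Matrix.adjugate_fin_two, t, tor_val, hga]
    field_simp
    linear_combination hdet
  generalize t * g * t⁻¹ * g⁻¹ = q at hT e00 e01 e10 e11
  obtain ⟨z, hz0, hz⟩ : ∃ z : F, z ≠ 0 ∧ low z ∈ N := by
    by_cases h4 : m ^ 4 = 1
    · have hm2 : m ^ 2 = -1 := by
        have : (m ^ 2 - 1) * (m ^ 2 + 1) = 0 := by linear_combination h4
        exact eq_neg_of_add_eq_zero_left ((mul_eq_zero.mp this).resolve_left (sub_ne_zero.mpr hmm))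
      refine ⟨-(2 * y), neg_ne_zero.mpr (mul_ne_zero h2 hy), ?_⟩
      convert mul_mem hT hT using 1
      apply ext2 <;> simp [mul_apply2, low_val, e00, e01, e10, e11, hm2]
      ring
    · refine ⟨1 / m ^ 4 - 1, sub_ne_zero.mpr fun e => h4 (by field_simp at e; exact e.symm), ?_⟩
      convert mul_mem hT (hN.conj_mem _ (inv_mem hT) (low 1)) using 1
      apply ext2 <;>
        simp [mul_apply2, Matrix.adjugate_fin_two, low_inv, low_val, e00, e01, e10, e11] <;> field_simp <;> ring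
  have hsq : ∀ s : F, low (z * s ^ 2) ∈ N := by
    intro s
    rcases eq_or_ne s 0 with rfl | hs
    · simpa [low_zero] using one_mem N
    · convert hN.conj_mem _ hz (tor s⁻¹ (inv_ne_zero hs)) using 1
      apply ext2 <;> simp [mul_apply2, low_val, tor_val, Matrix.adjugate_fin_two, hs]
      ring
  have hlow : ∀ r : F, low r ∈ N := by
    intro r
    have h4 : (4 : F) ≠ 0 := by
      rw [show (4 : F) = 2 * 2 by norm_num]; exact mul_ne_zero h2 h2
    have key : r = z * ((r / z / 4) + 1) ^ 2 + -(z * ((r / z / 4) - 1) ^ 2) := by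
      field_simp
      ring
    rw [key, ← low_add, ← low_inv]
    exact mul_mem (hsq _) (inv_mem (hsq _))
  refine SL2Gen.eq_top_of_mem fun r => ⟨?_, hlow r⟩
  convert hN.conj_mem _ (hlow (-r)) (up 1 * low (-1) * up 1) using 1
  apply ext2 <;> simp [mul_apply2, up_inv, low_inv, up_val, low_val]

end CfsgLib.Perm.Quad.SL2Normal
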