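import Mathlib
import Cfsg.Agent.Lib.Perm.Quad.SL2Normal

/-! Two `k`-families generate all unitriangular elements over a finite-dimensional commutative
`k`-algebra generated by a unit. -/

namespace CfsgLib.Perm.Quad.SL2Ring

open Matrix CfsgLib.Perm.Quad.SL2

section Map

variable {R S : Type*} [CommRing R] [CommRing S]

/-- Entrywise map. -/
abbrev slMap (f : R →+* S) : SL R →* SL S := Matrix.SpecialLinearGroup.map f

theorem map_entry (f : R →+* S) (g : SL R) (i j : Fin 2) : (slMap f g).1 i j = f (g.1 i j) := rfl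

theorem map_up (f : R →+* S) (r : R) : slMap f (up r) = up (f r) := by
  apply ext2 <;> simp [map_entry, up_val]

theorem map_low (f : R →+* S) (r : R) : slMap f (low r) = low (f r) := by
  apply ext2 <;> simp [map_entry, low_val]

variable {k : Type*} [Field k] [Algebra k R] [Algebra k S]

theorem map_gen (f : R →ₐ[k] S) (lam : R) :
    (gen k lam).map (slMap f.toRingHom) = gen k (f lam) := by
  rw [gen, gen, MonoidHom.map_closure, Set.image_union, ← Set.range_comp, ← Set.range_comp]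
  congr 2 <;> congr 1 <;> funext c <;> simp [map_up, map_low]

end Map

section Steps

variable {R : Type*} [CommRing R]

/-- Commutation with `v` from commutation in the quotient, the kernel part being scalar. -/
theorem commute_of_scalar {R' : Type*} [CommRing R'] (f : R →+* R') {H : Subgroup (SL R)}
    (h2 : IsUnit (2 : R))
    (hN : ∀ n ∈ H, slMap f n = 1 → n.1 0 1 = 0 ∧ n.1 1 0 = 0 ∧ n.1 0 0 = n.1 1 1)
    {a v : SL R} (ha : a ∈ H) (hv : v ∈ H) (htr : v.1 0 0 + v.1 1 1 = 2)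
    (hc : slMap f a * slMap f v = slMap f v * slMap f a) : a * v = v * a := by
  obtain ⟨n, hn⟩ : ∃ n, n = a * v * a⁻¹ * v⁻¹ := ⟨_, rfl⟩
  obtain ⟨h01, h10, h00⟩ := hN n (hn ▸ mul_mem (mul_mem (mul_mem ha hv) (inv_mem ha)) (inv_mem hv))
    (by simp [hn, hc])
  have e : a * v * a⁻¹ = n * v := by simp [hn]
  have t1 : ((a * v * a⁻¹ : SL R)).1.trace = v.1.trace := by
    rw [Matrix.SpecialLinearGroup.coe_mul, Matrix.trace_mul_comm, ← Matrix.SpecialLinearGroup.coe_mul]
    simp [mul_assoc]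
  rw [e, Matrix.trace_fin_two, Matrix.trace_fin_two, mul_apply2, mul_apply2, h01, h10, ← h00] at t1
  have hz : n.1 0 0 = 1 := h2.mul_right_cancel (by linear_combination t1 - (n.1 0 0 - 1) * htr)
  have : n = 1 := by
    apply ext2 <;> simp [h01, h10, hz, ← h00]
  rw [this, one_mul] at e
  exact mul_inv_eq_iff_eq_mul.mp e

theorem exists_up {R' : Type*} [CommRing R'] (f : R →+* R') {H : Subgroup (SL R)}
    (h2 : IsUnit (2 : R))
    (hN : ∀ n ∈ H, slMap f n = 1 → n.1 0 1 = 0 ∧ n.1 1 0 = 0 ∧ n.1 0 0 = n.1 1 1)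
    (hU : ∀ r', ∃ a ∈ H, slMap f a = up r') {v : R} (hv : IsUnit v) (hvH : up v ∈ H) (r : R) :
    ∃ s, up s ∈ H ∧ f s = f r := by
  obtain ⟨h, hh⟩ := h2.exists_left_inv
  obtain ⟨a, ha, e⟩ := hU (f (h * r))
  have hc := commute_of_scalar f h2 hN ha hvH (by simp [up_val]; norm_num)
    (by rw [e, map_up, up_add, up_add, add_comm])
  have h10 : a.1 1 0 = 0 := by
    have := congrArg (fun g : SL R => g.1 0 0) hc
    simp [mul_apply2, up_val] at this
    exact hv.mul_right_eq_zero.mp this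
  have h11 : a.1 0 0 = a.1 1 1 := by
    have := congrArg (fun g : SL R => g.1 0 1) hc
    simp [mul_apply2, up_val] at this
    exact hv.mul_left_cancel (by linear_combination this)
  have hd := det2 a
  rw [h10, ← h11] at hd
  refine ⟨2 * (a.1 0 0 * a.1 0 1), ?_, ?_⟩
  · convert mul_mem ha ha using 1
    apply ext2 <;> simp [mul_apply2, up_val, h10, ← h11]
    · linear_combination -hd
    · ring
    · linear_combination -hd
  · have e00 := congrArg (fun g : SL R' => g.1 0 0) e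
    have e01 := congrArg (fun g : SL R' => g.1 0 1) e
    simp [map_entry, up_val] at e00 e01
    have := congrArg f hh
    simp at this
    simp [e00, e01]
    linear_combination f r * this

theorem exists_low {R' : Type*} [CommRing R'] (f : R →+* R') {H : Subgroup (SL R)}
    (h2 : IsUnit (2 : R))
    (hN : ∀ n ∈ H, slMap f n = 1 → n.1 0 1 = 0 ∧ n.1 1 0 = 0 ∧ n.1 0 0 = n.1 1 1)
    (hL : ∀ r', ∃ a ∈ H, slMap f a = low r') {v : R} (hv : IsUnit v) (hvH : low v ∈ H) (r : R) :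
    ∃ s, low s ∈ H ∧ f s = f r := by
  obtain ⟨h, hh⟩ := h2.exists_left_inv
  obtain ⟨a, ha, e⟩ := hL (f (h * r))
  have hc := commute_of_scalar f h2 hN ha hvH (by simp [low_val]; norm_num)
    (by rw [e, map_low, low_add, low_add, add_comm])
  have h01 : a.1 0 1 = 0 := by
    have := congrArg (fun g : SL R => g.1 0 0) hc
    simp [mul_apply2, low_val] at this
    exact hv.mul_left_eq_zero.mp this
  have h11 : a.1 0 0 = a.1 1 1 := by
    have := congrArg (fun g : SL R => g.1 1 0) hc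
    simp [mul_apply2, low_val] at this
    exact hv.mul_left_cancel (by linear_combination -this)
  have hd := det2 a
  rw [h01, ← h11] at hd
  refine ⟨2 * (a.1 0 0 * a.1 1 0), ?_, ?_⟩
  · convert mul_mem ha ha using 1
    apply ext2 <;> simp [mul_apply2, low_val, h01, ← h11]
    · linear_combination -hd
    · ring
    · linear_combination -hd
  · have e00 := congrArg (fun g : SL R' => g.1 0 0) e
    have e10 := congrArg (fun g : SL R' => g.1 1 0) e
    simp [map_entry, low_val] at e00 e10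
    have := congrArg f hh
    simp at this
    simp [e00, e10]
    linear_combination f r * this

/-- The exactness of a lifted swap. -/
theorem swap_exact {R' : Type*} [CommRing R'] (f : R →+* R') {H : Subgroup (SL R)}
    (h2 : IsUnit (2 : R))
    (hN : ∀ n ∈ H, slMap f n = 1 → n.1 0 1 = 0 ∧ n.1 1 0 = 0 ∧ n.1 0 0 = n.1 1 1)
    {lam : R} (hlam : IsUnit lam) (hl : low lam ∈ H) (h1 : up (1 : R) ∈ H)
    {s t : R} (hs : up s ∈ H) (ht : low t ∈ H) (hst : f (1 + s * t) = 0) :
    s * t = -1 ∧ ∃ g ∈ H, g.1 0 0 = 0 ∧ g.1 0 1 = s ∧ g.1 1 0 = t := by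
  set g := up s * low t * up s with hgdef
  have hg : g ∈ H := mul_mem (mul_mem hs ht) hs
  have g00 : g.1 0 0 = 1 + s * t := by simp [hgdef, mul_apply2, up_val, low_val]
  have g10 : g.1 1 0 = t := by simp [hgdef, mul_apply2, up_val, low_val]
  have z : (slMap f g).1 0 0 = 0 := by rw [map_entry, g00, hst]
  have hc := commute_of_scalar f h2 hN (mul_mem (mul_mem hg h1) (inv_mem hg)) hl
    (by simp [low_val]; norm_num)
    (by rw [map_mul, map_mul, map_inv, map_up, map_one, conj_up_of_zero z, map_low, low_add, low_add, add_comm])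
  have k0 := congrArg (fun x : SL R => x.1 0 0) hc
  have k1 := congrArg (fun x : SL R => x.1 1 0) hc
  simp [mul_apply2, Matrix.adjugate_fin_two, up_val, low_val] at k0 k1
  have a0 : g.1 0 0 * g.1 0 0 = 0 := hlam.mul_left_eq_zero.mp (by linear_combination k0)
  have a1 : g.1 0 0 * t = 0 := by
    rw [← g10]
    refine h2.mul_right_eq_zero.mp (hlam.mul_left_eq_zero.mp ?_)
    linear_combination k1
  have hz : g.1 0 0 = 0 := by linear_combination a0 - s * a1 + g.1 0 0 * (-g00)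
  refine ⟨by linear_combination hz - g00, g, hg, hz, ?_, g10⟩
  have : g.1 0 1 = 2 * s + s * s * t := by simp [hgdef, mul_apply2, up_val, low_val]; ring
  linear_combination this + s * (hz - g00)

/-- Scalar kernel: everything upper and lower is already there. -/
theorem mem_of_scalar {R' : Type*} [CommRing R'] {k : Type*} [Field k] [Algebra k R]
    (f : R →+* R') {H : Subgroup (SL R)}
    (h2 : IsUnit (2 : R)) (h2k : (2 : k) ≠ 0)
    (hN : ∀ n ∈ H, slMap f n = 1 → n.1 0 1 = 0 ∧ n.1 1 0 = 0 ∧ n.1 0 0 = n.1 1 1)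
    (hU : ∀ r', ∃ a ∈ H, slMap f a = up r') (hL : ∀ r', ∃ a ∈ H, slMap f a = low r')
    {lam : R} (hlam : IsUnit lam) (hadj : Algebra.adjoin k ({lam} : Set R) = ⊤)
    (hk : ∀ c : k, up (algebraMap k R c) ∈ H) (hkl : ∀ c : k, low (algebraMap k R c * lam) ∈ H)
    (r : R) : up r ∈ H ∧ low r ∈ H := by
  have h1 : up (1 : R) ∈ H := by simpa using hk 1
  have hl : low lam ∈ H := by simpa using hkl 1
  obtain ⟨t, ht, hft⟩ := exists_low f h2 hN hL hlam hl (-1)
  obtain ⟨he, g, hg, g00, g01, -⟩ := swap_exact f h2 hN hlam hl h1 h1 ht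
    (by simp at hft; simp [hft])
  rw [one_mul] at he
  have LU : ∀ r, low r ∈ H → up r ∈ H := fun r hr => by
    have := (conj_mem_of_mem hg (neg_mem (show r ∈ lowSet H from hr) : low (-r) ∈ H)).1
    simpa [conj_low_of_zero g00, g01] using this
  have UL : ∀ r, up r ∈ H → low r ∈ H := fun r hr => by
    obtain ⟨-, g', hg', g'00, -, g'10⟩ := swap_exact f h2 hN hlam hl h1 h1 ht
      (by simp at hft; simp [hft])
    have := (conj_mem_of_mem hg' (neg_mem (show r ∈ upSet H from hr) : up (-r) ∈ H)).2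
    simpa [conj_up_of_zero g'00, g'10, he] using this
  have scale : ∀ μ : R, IsUnit μ → up μ ∈ H → ∀ r, up r ∈ H → up (μ ^ 2 * r) ∈ H := by
    rintro μ ⟨μ, rfl⟩ hμ r hr
    obtain ⟨s, hs, hfs⟩ := exists_low f h2 hN hL hlam hl (-(↑μ⁻¹))
    obtain ⟨-, g', hg', g'00, g'01, -⟩ := swap_exact f h2 hN hlam hl h1 hμ hs
      (by rw [map_add, map_mul, hfs, ← map_mul, ← map_add]; simp)
    have := (conj_mem_of_mem hg' (neg_mem (show r ∈ lowSet H from UL r hr) : low (-r) ∈ H)).1
    rw [conj_low_of_zero g'00, g'01] at this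
    convert this using 2
    ring
  have smul : ∀ (c : k) (r : R), up r ∈ H → up (algebraMap k R c * r) ∈ H := by
    have hsq : ∀ (c : k) (r : R), up r ∈ H → up (algebraMap k R c ^ 2 * r) ∈ H := fun c r hr => by
      rcases eq_or_ne c 0 with rfl | hc
      · simp [up_zero]
      · exact scale _ ((IsUnit.mk0 c hc).map _) (hk c) r hr
    intro c r hr
    have e : algebraMap k R c * r = algebraMap k R (c / 4 + 1) ^ 2 * r -
        algebraMap k R (c / 4 - 1) ^ 2 * r := by
      rw [← sub_mul, ← map_pow, ← map_pow, ← map_sub]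
      congr 2
      have : (4 : k) ≠ 0 := by
        rw [show (4 : k) = 2 * 2 by norm_num]; exact mul_ne_zero h2k h2k
      field_simp
      ring
    rw [e]
    exact sub_mem (show _ ∈ upSet H from hsq _ r hr) (show _ ∈ upSet H from hsq _ r hr)
  have hpow : ∀ n : ℕ, up (lam ^ n) ∈ H ∧ up (lam ^ (n + 1)) ∈ H := by
    intro n
    induction n with
    | zero => exact ⟨by simpa using h1, by simpa using LU _ hl⟩
    | succ n ih =>
      refine ⟨ih.2, ?_⟩
      convert scale lam hlam (LU _ hl) _ ih.1 using 2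
      ring
  suffices hall : ∀ r, up r ∈ H from ⟨hall r, UL r (hall r)⟩
  intro r
  obtain ⟨P, rfl⟩ : ∃ P : Polynomial k, Polynomial.aeval lam P = r := by
    have : r ∈ Algebra.adjoin k ({lam} : Set R) := hadj ▸ Algebra.mem_top
    rwa [Algebra.adjoin_singleton_eq_range_aeval, AlgHom.mem_range] at this
  rw [Polynomial.aeval_eq_sum_range]
  refine (upSet H).sum_mem fun i _ => ?_
  rw [mem_upSet, Algebra.smul_def]
  exact smul _ _ (hpow i).1

/-- Kernel elements for an ideal of square zero. -/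
theorem kernel_le_of_sq_zero {R' : Type*} [CommRing R'] (f : R →+* R') (hf : Function.Surjective f)
    {H : Subgroup (SL R)} (h2 : IsUnit (2 : R))
    (hsq : ∀ i j : R, f i = 0 → f j = 0 → i * j = 0)
    (hmin : ∀ i j : R, f i = 0 → i ≠ 0 → f j = 0 → ∃ r, r * i = j)
    (hU : ∀ r', ∃ a ∈ H, slMap f a = up r') (hL : ∀ r', ∃ a ∈ H, slMap f a = low r')
    {n : SL R} (hn : n ∈ H) (hn1 : slMap f n = 1)
    (hns : n.1 0 1 ≠ 0 ∨ n.1 1 0 ≠ 0 ∨ n.1 0 0 ≠ n.1 1 1) :
    ∀ g : SL R, slMap f g = 1 → g ∈ H := by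
  -- the kernel
  have ent : ∀ g : SL R, slMap f g = 1 → f (g.1 0 0 - 1) = 0 ∧ f (g.1 0 1) = 0 ∧
      f (g.1 1 0) = 0 ∧ f (g.1 1 1 - 1) = 0 := fun g hg => by
    have h (i j) := congrArg (fun x : SL R' => x.1 i j) hg
    refine ⟨?_, ?_, ?_, ?_⟩
    · simpa [map_entry, sub_eq_zero] using h 0 0
    · simpa [map_entry] using h 0 1
    · simpa [map_entry] using h 1 0
    · simpa [map_entry, sub_eq_zero] using h 1 1
  have trk : ∀ g : SL R, slMap f g = 1 → g.1 1 1 = 2 - g.1 0 0 := fun g hg => by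
    obtain ⟨a, b, c, d⟩ := ent g hg
    linear_combination det2 g + hsq _ _ b c - hsq _ _ a d
  have comm : ∀ g g' : SL R, slMap f g = 1 → slMap f g' = 1 → g * g' = g' * g := by
    intro g g' hg hg'
    obtain ⟨a, b, c, d⟩ := ent g hg
    obtain ⟨a', b', c', d'⟩ := ent g' hg'
    apply ext2 <;> simp only [mul_apply2]
    · linear_combination hsq _ _ b c' - hsq _ _ c b'
    · linear_combination hsq _ _ a b' - hsq _ _ b a' + hsq _ _ b d' - hsq _ _ d b'
    · linear_combination hsq _ _ c a' - hsq _ _ a c' + hsq _ _ d c' - hsq _ _ c d'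
    · linear_combination hsq _ _ c b' - hsq _ _ b c'
  -- conjugation by the elementary elements
  have conj : ∀ (x : SL R) (g : SL R), (∃ a ∈ H, slMap f a = slMap f x) → g ∈ H → slMap f g = 1 →
      x * g * x⁻¹ ∈ H := by
    rintro x g ⟨a, ha, e⟩ hg hg1
    have : x * g * x⁻¹ = a * g * a⁻¹ := by
      have hk : slMap f (a⁻¹ * x) = 1 := by rw [map_mul, map_inv, e, inv_mul_cancel]
      calc x * g * x⁻¹ = a * ((a⁻¹ * x) * g) * (a⁻¹ * x)⁻¹ * a⁻¹ := by group
        _ = a * g * a⁻¹ := by rw [comm _ _ hk hg1]; group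
    rw [this]
    exact mul_mem (mul_mem ha hg) (inv_mem ha)
  have cu : ∀ (r : R) (g : SL R), g ∈ H → slMap f g = 1 → up r * g * (up r)⁻¹ ∈ H := fun r g hg h1 => by
    obtain ⟨a, ha, e⟩ := hU (f r)
    exact conj _ _ ⟨a, ha, by rw [e, map_up]⟩ hg h1
  have cl : ∀ (r : R) (g : SL R), g ∈ H → slMap f g = 1 → low r * g * (low r)⁻¹ ∈ H := fun r g hg h1 => by
    obtain ⟨a, ha, e⟩ := hL (f r)
    exact conj _ _ ⟨a, ha, by rw [e, map_low]⟩ hg h1
  have cw : ∀ g, g ∈ H → slMap f g = 1 →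
      up 1 * (low (-1) * (up 1 * g * (up 1)⁻¹) * (low (-1))⁻¹) * (up 1)⁻¹ ∈ H := fun g hg h1 =>
    cu 1 _ (cl _ _ (cu 1 _ hg h1) (by simp [h1])) (by simp [h1])
  -- entries
  have mulk : ∀ g g' : SL R, slMap f g = 1 → slMap f g' = 1 →
      (g * g').1 0 0 = g.1 0 0 + g'.1 0 0 - 1 ∧ (g * g').1 0 1 = g.1 0 1 + g'.1 0 1 ∧
      (g * g').1 1 0 = g.1 1 0 + g'.1 1 0 := by
    intro g g' hg hg'
    obtain ⟨a, b, c, d⟩ := ent g hg
    obtain ⟨a', b', c', d'⟩ := ent g' hg'
    refine ⟨?_, ?_, ?_⟩ <;> rw [mul_apply2]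
    · linear_combination hsq _ _ a a' + hsq _ _ b c'
    · linear_combination hsq _ _ a b' + hsq _ _ b d'
    · linear_combination hsq _ _ c a' + hsq _ _ d c'
  have invk : ∀ g : SL R, slMap f g = 1 →
      g⁻¹.1 0 0 = 2 - g.1 0 0 ∧ g⁻¹.1 0 1 = -g.1 0 1 ∧ g⁻¹.1 1 0 = -g.1 1 0 := fun g hg => by
    simp [Matrix.adjugate_fin_two, trk g hg]
  have kext : ∀ g g' : SL R, slMap f g = 1 → slMap f g' = 1 → g.1 0 0 = g'.1 0 0 →
      g.1 0 1 = g'.1 0 1 → g.1 1 0 = g'.1 1 0 → g = g' := fun g g' hg hg' e0 e1 e2 =>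
    ext2 e0 e1 e2 (by rw [trk g hg, trk g' hg', e0])
  -- differences along upper conjugation
  have dif : ∀ (r : R) (g : SL R), g ∈ H → slMap f g = 1 → ∃ q ∈ H, slMap f q = 1 ∧
      q.1 0 0 = 1 + 2 * r * g.1 1 0 ∧ q.1 0 1 = -(4 * r * (g.1 0 0 - 1)) ∧ q.1 1 0 = 0 := by
    intro r g hg hg1
    have k1 : slMap f (up r * g * (up r)⁻¹) = 1 := by simp [hg1]
    have k2 : slMap f (up (-r) * g * (up (-r))⁻¹)⁻¹ = 1 := by simp [hg1]
    refine ⟨_, mul_mem (cu r g hg hg1) (inv_mem (cu (-r) g hg hg1)), by simp [hg1], ?_⟩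
    obtain ⟨p0, p1, p2⟩ := mulk _ _ k1 k2
    obtain ⟨i0, i1, i2⟩ := invk (up (-r) * g * (up (-r))⁻¹) (by simp [hg1])
    rw [p0, p1, p2, i0, i1, i2]
    refine ⟨?_, ?_, ?_⟩ <;>
      simp [mul_apply2, Matrix.adjugate_fin_two, up_val, trk g hg1] <;> ring
  obtain ⟨m, hm, hm1, hmc⟩ : ∃ m ∈ H, slMap f m = 1 ∧ m.1 1 0 ≠ 0 := by
    by_cases hc : n.1 1 0 = 0
    · by_cases hb : n.1 0 1 = 0
      · refine ⟨low 1 * n * (low 1)⁻¹, cl 1 n hn hn1, by simp [hn1], ?_⟩
        have hd : n.1 0 0 - n.1 1 1 ≠ 0 := sub_ne_zero.mpr (by tauto)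
        simpa [mul_apply2, low_inv, low_val, hb, hc, sub_eq_add_neg] using hd
      · refine ⟨_, cw n hn hn1, by simp [hn1], ?_⟩
        simp [mul_apply2, up_inv, low_inv, up_val, low_val, hc]
        intro e
        exact hb (by linear_combination -e)
    · exact ⟨n, hn, hn1, hc⟩
  have e1 : ∀ i, f i = 0 → up i ∈ H := by
    intro i hi
    obtain ⟨q, hq⟩ := (h2.mul (h2.mul h2)).exists_left_inv
    obtain ⟨r, hr⟩ := hmin _ i (ent m hm1).2.2.1 hmc hi
    obtain ⟨x, hx, hx1, x0, -, x2⟩ := dif (-(r * q)) m hm hm1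
    obtain ⟨y, hy, hy1, y0, y1, y2⟩ := dif 1 x hx hx1
    convert hy using 1
    refine kext _ _ (by rw [map_up, hi, up_zero]) hy1 ?_ ?_ ?_ <;> simp [up_val, y0, y1, y2, x2]
    rw [x0]
    linear_combination (-i) * hq - (8 * q) * hr
  have e2 : ∀ i, f i = 0 → low i ∈ H := by
    intro i hi
    convert cw (up (-i)) (e1 _ (by simp [hi])) (by rw [map_up, map_neg, hi, neg_zero, up_zero]) using 1
    apply ext2 <;> simp [mul_apply2, up_inv, low_inv, up_val, low_val]
  intro g hg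
  obtain ⟨a, b, c, d⟩ := ent g hg
  set α := g.1 0 0 - 1 with hα
  have hD : low 1 * up (-α) * (low 1)⁻¹ ∈ H := cl 1 _ (e1 _ (by simp [a])) (by simp [map_up, a, up_zero])
  have kD : slMap f (low 1 * up (-α) * (low 1)⁻¹) = 1 := by simp [map_up, a, up_zero]
  have ku : slMap f (up (g.1 0 1 + α)) = 1 := by simp [map_up, a, b, up_zero]
  have kl : slMap f (low (g.1 1 0 - α)) = 1 := by simp [map_low, a, c, low_zero]
  have : g = low 1 * up (-α) * (low 1)⁻¹ * up (g.1 0 1 + α) * low (g.1 1 0 - α) := by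
    have kDu : slMap f (low 1 * up (-α) * (low 1)⁻¹ * up (g.1 0 1 + α)) = 1 := by
      rw [map_mul, kD, ku, one_mul]
    obtain ⟨p0, p1, p2⟩ := mulk _ _ kDu kl
    obtain ⟨q0, q1, q2⟩ := mulk _ _ kD ku
    refine kext _ _ hg (by rw [map_mul, kDu, kl, one_mul]) ?_ ?_ ?_
    · rw [p0, q0]; simp [mul_apply2, low_inv, up_val, low_val, hα]
    · rw [p1, q1]; simp [mul_apply2, low_inv, up_val, low_val, hα]; ring
    · rw [p2, q2]; simp [mul_apply2, low_inv, up_val, low_val, hα]
  rw [this]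
  exact mul_mem (mul_mem hD (e1 _ (by simp [a, b]))) (e2 _ (by simp [a, c]))

end Steps

section Main

universe u v

variable {k : Type u} [Field k]

/-- Two `k`-families generate all unitriangular elements. -/
theorem mem_gen (h2k : (2 : k) ≠ 0) (h3 : Nat.card k ≠ 3) {R : Type v} [CommRing R] [Algebra k R]
    [FiniteDimensional k R] {lam : R} (hlam : IsUnit lam)
    (hadj : Algebra.adjoin k ({lam} : Set R) = ⊤) (r : R) :
    up r ∈ gen k lam ∧ low r ∈ gen k lam := by
  induction hn : Module.finrank k R using Nat.strong_induction_on generalizing R with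
  | _ d IH =>
  rcases subsingleton_or_nontrivial R with hR | hR
  · rw [Subsingleton.elim r 0, up_zero, low_zero]
    exact ⟨one_mem _, one_mem _⟩
  by_cases hfield : IsField R
  · letI := hfield.toField
    exact SL2Gen.mem_gen_of_adjoin h2k h3 (IsIntegral.of_finite k lam) hadj hlam.ne_zero r
  have h2 : IsUnit (2 : R) := by
    rw [← map_ofNat (algebraMap k R) 2]
    exact (IsUnit.mk0 _ h2k).map _
  haveI : IsArtinianRing R := isArtinian_of_tower k inferInstance
  -- a minimal ideal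
  obtain ⟨J0, hJ0, hJ0t⟩ := (Ring.not_isField_iff_exists_ideal_bot_lt_and_lt_top).mp hfield
  obtain ⟨I, hIne, hImin⟩ := wellFounded_lt.has_min {J : Ideal R | J ≠ ⊥ ∧ J ≤ J0}
    ⟨J0, hJ0.ne', le_rfl⟩
  obtain ⟨hI0, hIJ⟩ := hIne
  have hIt : I ≠ ⊤ := fun e => hJ0t.ne (top_le_iff.mp (e ▸ hIJ))
  have hmin : ∀ J : Ideal R, J ≤ I → J ≠ ⊥ → J = I := fun J hJI hJ => by
    by_contra hne
    exact hImin J ⟨hJ, hJI.trans hIJ⟩ (lt_of_le_of_ne hJI hne)
  let f : R →ₐ[k] R ⧸ I := Ideal.Quotient.mkₐ k I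
  have hker : ∀ i, f.toRingHom i = 0 ↔ i ∈ I := fun i => Ideal.Quotient.eq_zero_iff_mem
  have hfs : Function.Surjective f.toRingHom := Ideal.Quotient.mk_surjective
  have hlt : Module.finrank k (R ⧸ I) < d := by
    rw [← hn]
    have e := LinearMap.finrank_range_add_finrank_ker f.toLinearMap
    rw [LinearMap.range_eq_top.mpr hfs, finrank_top] at e
    have : 0 < Module.finrank k (LinearMap.ker f.toLinearMap) := by
      obtain ⟨i, hi, hi0⟩ := Submodule.exists_mem_ne_zero_of_ne_bot hI0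
      exact Module.finrank_pos_iff.mpr ⟨⟨⟨i, (hker i).mpr hi⟩, 0, fun e => hi0 (congrArg Subtype.val e)⟩⟩
    omega
  have hadj' : Algebra.adjoin k ({f lam} : Set (R ⧸ I)) = ⊤ := by
    rw [← Set.image_singleton, ← AlgHom.map_adjoin, hadj, Algebra.map_top, AlgHom.range_eq_top]
    exact hfs
  have IH' := fun r' => IH _ hlt (R := R ⧸ I) (hlam.map f) hadj' r' rfl
  set H := gen k lam
  have hU : ∀ r', ∃ a ∈ H, slMap f.toRingHom a = up r' := fun r' => by
    have := (IH' r').1
    rwa [← map_gen] at this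
  have hL : ∀ r', ∃ a ∈ H, slMap f.toRingHom a = low r' := fun r' => by
    have := (IH' r').2
    rwa [← map_gen] at this
  by_cases hN : ∀ n ∈ H, slMap f.toRingHom n = 1 →
      n.1 0 1 = 0 ∧ n.1 1 0 = 0 ∧ n.1 0 0 = n.1 1 1
  · exact mem_of_scalar f.toRingHom h2 h2k hN hU hL hlam hadj (up_mem_gen k lam) (low_mem_gen k lam) r
  push Not at hN
  obtain ⟨n, hnH, hn1, hns⟩ := hN
  have hns' : n.1 0 1 ≠ 0 ∨ n.1 1 0 ≠ 0 ∨ n.1 0 0 ≠ n.1 1 1 := by tauto
  suffices hK : ∀ g : SL R, slMap f.toRingHom g = 1 → g ∈ H by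
    constructor
    · obtain ⟨a, ha, e⟩ := hU (f.toRingHom r)
      have := mul_mem ha (hK (a⁻¹ * up r) (by rw [map_mul, map_inv, e, map_up, inv_mul_cancel]))
      rwa [mul_inv_cancel_left] at this
    · obtain ⟨a, ha, e⟩ := hL (f.toRingHom r)
      have := mul_mem ha (hK (a⁻¹ * low r) (by rw [map_mul, map_inv, e, map_low, inv_mul_cancel]))
      rwa [mul_inv_cancel_left] at this
  by_cases hsq : I * I = ⊥
  · refine kernel_le_of_sq_zero f.toRingHom hfs h2 (fun i j hi hj => ?_)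
      (fun i j hi hi0 hj => ?_) hU hL hnH hn1 hns'
    · have := Ideal.mul_mem_mul ((hker i).mp hi) ((hker j).mp hj)
      rwa [hsq, Ideal.mem_bot] at this
    · have e := hmin (Ideal.span {i}) (Ideal.span_le.mpr (by simpa using (hker i).mp hi))
        (by simpa using hi0)
      exact Ideal.mem_span_singleton'.mp (e ▸ (hker j).mp hj)
  -- the ideal is a field factor
  obtain ⟨M, hM, hIM⟩ : ∃ M : Ideal R, M.IsMaximal ∧ ¬ I ≤ M := by
    by_contra! h
    obtain ⟨m, hm⟩ := IsArtinianRing.isNilpotent_jacobson_bot (R := R)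
    have hle : I ≤ Ideal.jacobson ⊥ := le_sInf fun M hM => h M hM.2
    have hII : I * I = I := hmin _ Ideal.mul_le_left hsq
    have hpow : ∀ j, I ≤ I ^ (j + 1) := fun j => by
      induction j with
      | zero => simp
      | succ j ih => exact hII.ge.trans ((Ideal.mul_mono_left ih).trans_eq (pow_succ _ _).symm)
    apply hI0
    rw [eq_bot_iff]
    refine (hpow m).trans ((Ideal.pow_le_pow_right (by omega : m ≤ m + 1)).trans ?_)
    exact (Ideal.pow_right_mono hle m).trans hm.le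
  have hIM0 : ∀ i ∈ I, i ∈ M → i = 0 := fun i hi hi' => by
    have : I ⊓ M = ⊥ := by
      by_contra hne
      exact hIM (by rw [← hmin _ inf_le_left hne]; exact inf_le_right)
    exact (Submodule.eq_bot_iff _).mp this i ⟨hi, hi'⟩
  letI := Ideal.Quotient.field M
  let ρ : R →ₐ[k] R ⧸ M := Ideal.Quotient.mkₐ k M
  have hρk : ∀ i, ρ i = 0 ↔ i ∈ M := fun i => Ideal.Quotient.eq_zero_iff_mem
  have hadjM : Algebra.adjoin k ({ρ lam} : Set (R ⧸ M)) = ⊤ := by
    rw [← Set.image_singleton, ← AlgHom.map_adjoin, hadj, Algebra.map_top, AlgHom.range_eq_top]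
    exact Ideal.Quotient.mk_surjective
  haveI : FiniteDimensional k (R ⧸ M) := Module.Finite.of_surjective ρ.toLinearMap Ideal.Quotient.mk_surjective
  have htop : H.map (slMap ρ.toRingHom) = ⊤ := by
    rw [map_gen]
    exact SL2Gen.gen_eq_top h2k h3 (IsIntegral.of_finite k _) hadjM (hlam.map ρ).ne_zero
  set N := (H ⊓ (slMap f.toRingHom).ker).map (slMap ρ.toRingHom)
  have hNn : N.Normal := by
    constructor
    rintro _ ⟨x, ⟨hx, hx1⟩, rfl⟩ y
    obtain ⟨a, ha, rfl⟩ : y ∈ H.map (slMap ρ.toRingHom) := htop ▸ Subgroup.mem_top y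
    refine ⟨a * x * a⁻¹, ⟨H.mul_mem (H.mul_mem ha hx) (H.inv_mem ha), ?_⟩, by simp⟩
    exact (MonoidHom.normal_ker _).conj_mem _ hx1 _
  have hI : ∀ g : SL R, slMap f.toRingHom g = 1 → g.1 0 1 ∈ I ∧ g.1 1 0 ∈ I ∧
      g.1 0 0 - g.1 1 1 ∈ I := fun g hg => by
    have h (i j) := congrArg (fun x : SL (R ⧸ I) => x.1 i j) hg
    refine ⟨(hker _).mp ?_, (hker _).mp ?_, (hker _).mp ?_⟩
    · simpa [map_entry] using h 0 1
    · simpa [map_entry] using h 1 0
    · have a := h 0 0
      have b := h 1 1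
      simp [map_entry] at a b ⊢
      rw [a, b, sub_self]
  have hNtop : N = ⊤ := by
    have h5 : Infinite (R ⧸ M) ∨ 5 ≤ Nat.card (R ⧸ M) := by
      rcases finite_or_infinite (R ⧸ M) with hfin | hinf
      · haveI : Finite k := Finite.of_injective _ (algebraMap k (R ⧸ M)).injective
        exact Or.inr ((SL2Gen.five_le_card h2k h3).trans
          (Nat.card_le_card_of_injective _ (algebraMap k (R ⧸ M)).injective))
      · exact Or.inl hinf
    have h2M : (2 : R ⧸ M) ≠ 0 := by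
      rw [← map_ofNat (algebraMap k (R ⧸ M)) 2]
      exact (map_ne_zero _).mpr h2k
    obtain ⟨h01, h10, h00⟩ := hI n hn1
    refine SL2Normal.eq_top h5 h2M hNn ⟨n, ⟨hnH, hn1⟩, rfl⟩ ?_
    rcases hns' with h | h | h
    · exact Or.inl fun e => h (hIM0 _ h01 ((hρk _).mp (by simpa [map_entry] using e)))
    · exact Or.inr (Or.inl fun e => h (hIM0 _ h10 ((hρk _).mp (by simpa [map_entry] using e))))
    · exact Or.inr (Or.inr fun e => h (sub_eq_zero.mp (hIM0 _ h00 ((hρk _).mp
        (by rw [map_sub, sub_eq_zero]; simpa [map_entry] using e)))))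
  intro g hg
  obtain ⟨x, ⟨hx, hx1⟩, e⟩ : slMap ρ.toRingHom g ∈ N := hNtop ▸ Subgroup.mem_top _
  have key : ∀ i j, g.1 i j = x.1 i j := fun i j => by
    refine sub_eq_zero.mp (hIM0 _ ((hker _).mp ?_) ((hρk _).mp ?_))
    · have a := congrArg (fun y : SL (R ⧸ I) => y.1 i j) (hg.trans (MonoidHom.mem_ker.mp hx1).symm)
      simp only [map_entry] at a
      rw [map_sub, a, sub_self]
    · have a := congrArg (fun y : SL (R ⧸ M) => y.1 i j) e
      simp only [map_entry] at a
      rw [map_sub, sub_eq_zero]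
      exact a.symm
  rwa [show g = x from ext2 (key 0 0) (key 0 1) (key 1 0) (key 1 1)]

end Main

end CfsgLib.Perm.Quad.SL2Ring
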