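import Mathlib
import Cfsg.Agent.Lib.Perm.Quad.SL2Ring

/-! The matrix algebra attached to two square zero elements whose symmetrised product is invertible
on a corner. -/

namespace CfsgLib.Perm.Quad.PairAlg

open CfsgLib.Perm.Quad.SL2

variable {k : Type*} [Field k] {S : Type*} [Ring S] [Algebra k S]

/-- Fitting idempotent, as a polynomial in `z`. -/
theorem exists_fitting [FiniteDimensional k S] (z : S) :
    ∃ P q : S, (∀ w : S, Commute z w → Commute P w ∧ Commute q w) ∧ P * P = P ∧ z * q = P ∧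
      q * P = q ∧ ∃ a : ℕ, z ^ a * (1 - P) = 0 := by
  have hz : IsIntegral k z := IsIntegral.of_finite k z
  have hne : minpoly k z ≠ 0 := minpoly.ne_zero hz
  obtain ⟨m, hm, hndvd⟩ := Polynomial.exists_eq_pow_rootMultiplicity_mul_and_not_dvd
    (minpoly k z) hne 0
  rw [map_zero, sub_zero] at hm hndvd
  set a := (minpoly k z).rootMultiplicity 0
  obtain ⟨u', v', huv⟩ := (Polynomial.irreducible_X.coprime_iff_not_dvd).mpr hndvd
  obtain ⟨u, v, huv'⟩ := ((Polynomial.irreducible_X.coprime_iff_not_dvd).mpr hndvd).pow_left (m := a)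
  have hzero : ∀ f, Polynomial.aeval z (f * (Polynomial.X ^ a * m)) = 0 := fun f => by
    rw [← hm, map_mul, minpoly.aeval, mul_zero]
  set Pp := u * Polynomial.X ^ a
  refine ⟨Polynomial.aeval z Pp, Polynomial.aeval z (u' * Pp * Pp), fun w hw => ⟨?_, ?_⟩, ?_, ?_, ?_,
    a, ?_⟩
  · exact Commute.symm (Algebra.commute_of_mem_adjoin_singleton_of_commute
      (Polynomial.aeval_mem_adjoin_singleton k z) hw.symm)
  · exact Commute.symm (Algebra.commute_of_mem_adjoin_singleton_of_commute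
      (Polynomial.aeval_mem_adjoin_singleton k z) hw.symm)
  · rw [← map_mul, ← sub_eq_zero, ← map_sub,
      show Pp * Pp - Pp = (-(u * v)) * (Polynomial.X ^ a * m) by
        linear_combination u * Polynomial.X ^ a * huv']
    exact hzero _
  · conv_lhs => arg 1; rw [← Polynomial.aeval_X (R := k) z]
    rw [← map_mul, ← sub_eq_zero, ← map_sub,
      show Polynomial.X * (u' * Pp * Pp) - Pp =
        (-(u * v) - v' * u * u * Polynomial.X ^ a) * (Polynomial.X ^ a * m) by
          linear_combination (u ^ 2 * Polynomial.X ^ a * Polynomial.X ^ a) * huv +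
            u * Polynomial.X ^ a * huv']
    exact hzero _
  · rw [← map_mul, ← sub_eq_zero, ← map_sub,
      show u' * Pp * Pp * Pp - u' * Pp * Pp = (-(u' * Pp * u * v)) * (Polynomial.X ^ a * m) by
        linear_combination u' * Pp * u * Polynomial.X ^ a * huv']
    exact hzero _
  · have e : z ^ a * (1 - Polynomial.aeval z Pp) =
        Polynomial.aeval z (Polynomial.X ^ a * (1 - Pp)) := by simp
    rw [e, show (1 : Polynomial k) - Pp = v * m by linear_combination -huv',
      show Polynomial.X ^ a * (v * m) = v * (Polynomial.X ^ a * m) by ring]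
    exact hzero _

/-- Two square zero elements, their symmetrised product, and an inverse for it on a corner. -/
structure Data (k : Type*) [Field k] (S : Type*) [Ring S] [Algebra k S] where
  x : S
  y : S
  P : S
  q : S
  hx : x * x = 0
  hy : y * y = 0
  hP : P * P = P
  hxP : Commute P x
  hyP : Commute P y
  hqx : Commute q x
  hqy : Commute q y
  hzq : (x * y + y * x) * q = P
  hqP : q * P = q

namespace Data

variable (D : Data k S)

/-- The symmetrised product. -/
def z : S := D.x * D.y + D.y * D.x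

theorem z_comm_x : Commute D.z D.x := by
  show (D.x * D.y + D.y * D.x) * D.x = D.x * (D.x * D.y + D.y * D.x)
  simp only [add_mul, mul_add, mul_assoc, D.hx, mul_zero, ← mul_assoc D.x D.x, zero_mul, add_zero, zero_add]

theorem z_comm_y : Commute D.z D.y := by
  show (D.x * D.y + D.y * D.x) * D.y = D.y * (D.x * D.y + D.y * D.x)
  simp only [add_mul, mul_add, mul_assoc, D.hy, mul_zero, ← mul_assoc D.y D.y, zero_mul, add_zero, zero_add]

theorem z_comm_P : Commute D.z D.P :=
  ((D.hxP.mul_right D.hyP).add_right (D.hyP.mul_right D.hxP)).symm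

theorem q_z : D.q * D.z = D.P := by
  show D.q * (D.x * D.y + D.y * D.x) = D.P
  rw [((D.hqx.mul_right D.hqy).add_right (D.hqy.mul_right D.hqx) :
    Commute D.q (D.x * D.y + D.y * D.x)).eq]
  exact D.hzq

theorem q_comm_P : Commute D.q D.P := by
  conv_rhs => rw [← D.hzq]
  exact ((D.hqx.mul_right D.hqy).add_right (D.hqy.mul_right D.hqx)).mul_right (Commute.refl _)

/-- Polynomials vanishing on the corner. -/
def ideal : Ideal (Polynomial k) where
  carrier := {f | Polynomial.aeval D.z f * D.P = 0}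
  zero_mem' := by simp
  add_mem' := fun {f g} (hf : _ = 0) (hg : _ = 0) => by
    show Polynomial.aeval D.z (f + g) * D.P = 0
    rw [map_add, add_mul, hf, hg, add_zero]
  smul_mem' := fun c f (hf : _ = 0) => by
    show Polynomial.aeval D.z (c * f) * D.P = 0
    rw [map_mul, mul_assoc, hf, mul_zero]

/-- The commutative algebra generated by the symmetrised product on the corner. -/
abbrev R : Type _ := Polynomial k ⧸ D.ideal

/-- Its image in `S`. -/
noncomputable def ι (r : D.R) : S := Polynomial.aeval D.z (Quotient.out r) * D.P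

theorem ι_mk (f : Polynomial k) : D.ι (Ideal.Quotient.mk _ f) = Polynomial.aeval D.z f * D.P := by
  have h : Quotient.out (Ideal.Quotient.mk D.ideal f) - f ∈ D.ideal :=
    Ideal.Quotient.eq.mp (Quotient.out_eq _)
  have e : Polynomial.aeval D.z (Quotient.out (Ideal.Quotient.mk D.ideal f) - f) * D.P = 0 := h
  rw [map_sub, sub_mul, sub_eq_zero] at e
  exact e

theorem aeval_comm_P (f : Polynomial k) : Commute (Polynomial.aeval D.z f) D.P :=
  (Algebra.commute_of_mem_adjoin_singleton_of_commute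
    (Polynomial.aeval_mem_adjoin_singleton k D.z) D.z_comm_P.symm).symm

theorem ι_add (r s : D.R) : D.ι (r + s) = D.ι r + D.ι s := by
  obtain ⟨f, rfl⟩ := Ideal.Quotient.mk_surjective r
  obtain ⟨g, rfl⟩ := Ideal.Quotient.mk_surjective s
  rw [← map_add, ι_mk, ι_mk, ι_mk, map_add, add_mul]

theorem ι_mul (r s : D.R) : D.ι (r * s) = D.ι r * D.ι s := by
  obtain ⟨f, rfl⟩ := Ideal.Quotient.mk_surjective r
  obtain ⟨g, rfl⟩ := Ideal.Quotient.mk_surjective s
  rw [← map_mul, ι_mk, ι_mk, ι_mk, map_mul, mul_assoc, mul_assoc, ← mul_assoc D.P,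
    ← (D.aeval_comm_P g).eq, mul_assoc, D.hP]

theorem ι_zero : D.ι 0 = 0 := by
  have := D.ι_add 0 0
  rw [add_zero] at this
  exact left_eq_add.mp this

theorem ι_neg (r : D.R) : D.ι (-r) = -D.ι r := by
  rw [eq_neg_iff_add_eq_zero, ← ι_add, neg_add_cancel, ι_zero]

theorem ι_one : D.ι 1 = D.P := by
  rw [← map_one (Ideal.Quotient.mk D.ideal), ι_mk, map_one, one_mul]

theorem ι_algebraMap (c : k) : D.ι (algebraMap k D.R c) = c • D.P := by
  rw [← Ideal.Quotient.mk_algebraMap, Polynomial.algebraMap_eq, ι_mk, Polynomial.aeval_C,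
    Algebra.smul_def]

theorem ι_smul (c : k) (r : D.R) : D.ι (c • r) = c • D.ι r := by
  have hP : D.P * D.ι r = D.ι r := by rw [← ι_one, ← ι_mul, one_mul]
  rw [Algebra.smul_def c r, ι_mul, ι_algebraMap, smul_mul_assoc, hP]

theorem ι_injective : Function.Injective D.ι := by
  intro r s h
  obtain ⟨f, rfl⟩ := Ideal.Quotient.mk_surjective r
  obtain ⟨g, rfl⟩ := Ideal.Quotient.mk_surjective s
  rw [ι_mk, ι_mk] at h
  refine Ideal.Quotient.eq.mpr ?_
  show _ * D.P = 0
  rw [map_sub, sub_mul, h, sub_self]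

theorem ι_comm {w : S} (hz : Commute D.z w) (hP : Commute D.P w) (r : D.R) : Commute (D.ι r) w :=
  ((Algebra.commute_of_mem_adjoin_singleton_of_commute
    (Polynomial.aeval_mem_adjoin_singleton k D.z) hz.symm).symm).mul_left hP

/-- The generator. -/
noncomputable def lam : D.R := Ideal.Quotient.mk _ Polynomial.X

theorem ι_lam : D.ι D.lam = D.z * D.P := by rw [lam, ι_mk, Polynomial.aeval_X]

theorem adjoin_lam : Algebra.adjoin k ({D.lam} : Set D.R) = ⊤ := by
  rw [lam, show Ideal.Quotient.mk D.ideal Polynomial.X = Ideal.Quotient.mkₐ k D.ideal Polynomial.X from rfl,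
    ← Set.image_singleton, ← AlgHom.map_adjoin, Polynomial.adjoin_X, Algebra.map_top,
    AlgHom.range_eq_top]
  exact Ideal.Quotient.mk_surjective

/-- The linear embedding. -/
noncomputable def ιLin : D.R →ₗ[k] S where
  toFun := D.ι
  map_add' := D.ι_add
  map_smul' := D.ι_smul

theorem finite [FiniteDimensional k S] : FiniteDimensional k D.R :=
  FiniteDimensional.of_injective D.ιLin D.ι_injective

theorem lam_unit [FiniteDimensional k S] : IsUnit D.lam := by
  haveI := D.finite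
  have hi : Function.Injective (LinearMap.mulLeft k D.lam) := by
    intro r s h
    apply D.ι_injective
    have h' := congrArg (fun t => D.q * D.ι t) h
    simp only [LinearMap.mulLeft_apply, ι_mul, ι_lam] at h'
    rwa [← mul_assoc, ← mul_assoc, ← mul_assoc, ← mul_assoc, D.q_z, D.hP, ← ι_one, ← ι_mul, ← ι_mul,
      one_mul, one_mul] at h'
  obtain ⟨t, ht⟩ := LinearMap.injective_iff_surjective.mp hi 1
  exact IsUnit.of_mul_eq_one _ ht

/-- First idempotent. -/
def e : S := D.q * (D.x * D.y)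

/-- Second idempotent. -/
def f : S := D.q * (D.y * D.x)

/-- Lower matrix unit. -/
def l : S := D.q * D.y

/-- Upper matrix unit. -/
def u : S := D.P * D.x

theorem e_add_f : D.e + D.f = D.P := by
  rw [← D.q_z, z, e, f, mul_add]

theorem units_table :
    D.u * D.u = 0 ∧ D.l * D.l = 0 ∧ D.u * D.l = D.e ∧ D.l * D.u = D.f ∧
    D.e * D.e = D.e ∧ D.f * D.f = D.f ∧ D.e * D.f = 0 ∧ D.f * D.e = 0 ∧
    D.e * D.u = D.u ∧ D.u * D.f = D.u ∧ D.u * D.e = 0 ∧ D.f * D.u = 0 ∧
    D.f * D.l = D.l ∧ D.l * D.e = D.l ∧ D.l * D.f = 0 ∧ D.e * D.l = 0 := by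
  have a1 : ∀ r, D.x * (D.q * r) = D.q * (D.x * r) := fun r => by rw [← mul_assoc, ← D.hqx.eq, mul_assoc]
  have a2 : ∀ r, D.y * (D.q * r) = D.q * (D.y * r) := fun r => by rw [← mul_assoc, ← D.hqy.eq, mul_assoc]
  have a3 : ∀ r, D.x * (D.P * r) = D.P * (D.x * r) := fun r => by rw [← mul_assoc, ← D.hxP.eq, mul_assoc]
  have a4 : ∀ r, D.y * (D.P * r) = D.P * (D.y * r) := fun r => by rw [← mul_assoc, ← D.hyP.eq, mul_assoc]
  have a5 : ∀ r, D.P * (D.q * r) = D.q * r := fun r => by
    rw [← mul_assoc, ← D.q_comm_P.eq, D.hqP]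
  have a6 : ∀ r, D.q * (D.P * r) = D.q * r := fun r => by rw [← mul_assoc, D.hqP]
  have a7 : ∀ r, D.x * (D.x * r) = 0 := fun r => by rw [← mul_assoc, D.hx, zero_mul]
  have a8 : ∀ r, D.y * (D.y * r) = 0 := fun r => by rw [← mul_assoc, D.hy, zero_mul]
  have hzx : ∀ r, D.x * (D.y * (D.x * r)) = D.z * (D.x * r) := fun r => by
    rw [z, add_mul, mul_assoc D.y D.x, a7, mul_zero, add_zero, mul_assoc]
  have hzy : ∀ r, D.y * (D.x * (D.y * r)) = D.z * (D.y * r) := fun r => by
    rw [z, add_mul, mul_assoc D.x D.y, a8, mul_zero, zero_add, mul_assoc]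
  have hqzP : ∀ r, D.q * (D.z * r) = D.P * r := fun r => by rw [← mul_assoc, D.q_z]
  have a9 : ∀ r, D.P * (D.P * r) = D.P * r := fun r => by rw [← mul_assoc, D.hP]
  have hxy1 := hzx 1
  have hyx1 := hzy 1
  rw [mul_one] at hxy1 hyx1
  refine ⟨?_, ?_, ?_, ?_, ?_, ?_, ?_, ?_, ?_, ?_, ?_, ?_, ?_, ?_, ?_, ?_⟩ <;>
    simp only [e, f, l, u, mul_assoc, a1, a2, a3, a4, a5, a6, a7, a8, a9, D.hx, D.hy, mul_zero, hzx, hzy,
      hxy1, hyx1, hqzP]

/-- The matrix embedding. -/
noncomputable def φ (g : Matrix (Fin 2) (Fin 2) D.R) : S :=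
  D.ι (g 0 0) * D.e + D.ι (g 0 1) * D.u + D.ι (g 1 0) * D.l + D.ι (g 1 1) * D.f

theorem ι_comm_units (r : D.R) :
    Commute (D.ι r) D.e ∧ Commute (D.ι r) D.u ∧ Commute (D.ι r) D.l ∧ Commute (D.ι r) D.f := by
  have hx := D.ι_comm D.z_comm_x D.hxP r
  have hy := D.ι_comm D.z_comm_y D.hyP r
  have hzq : Commute D.q D.z := (D.hqx.mul_right D.hqy).add_right (D.hqy.mul_right D.hqx)
  have hq := D.ι_comm hzq.symm D.q_comm_P.symm r
  have hP := D.ι_comm D.z_comm_P (Commute.refl _) r
  exact ⟨hq.mul_right (hx.mul_right hy), hP.mul_right hx, hq.mul_right hy,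
    hq.mul_right (hy.mul_right hx)⟩

theorem φ_mul (g h : Matrix (Fin 2) (Fin 2) D.R) : D.φ (g * h) = D.φ g * D.φ h := by
  obtain ⟨t1, t2, t3, t4, t5, t6, t7, t8, t9, t10, t11, t12, t13, t14, t15, t16⟩ := D.units_table
  have c : ∀ (r s : D.R) (a b : S), Commute (D.ι s) a → D.ι r * a * (D.ι s * b) = D.ι (r * s) * (a * b) :=
    fun r s a b hc => by
      rw [ι_mul, mul_assoc (D.ι r) a, ← mul_assoc a, ← hc.eq, mul_assoc (D.ι s), ← mul_assoc (D.ι r)]
  simp only [φ, Matrix.mul_apply, Fin.sum_univ_two, ι_add, add_mul, mul_add]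
  rw [c _ _ _ _ (D.ι_comm_units _).1, c _ _ _ _ (D.ι_comm_units _).1, c _ _ _ _ (D.ι_comm_units _).1,
    c _ _ _ _ (D.ι_comm_units _).1, c _ _ _ _ (D.ι_comm_units _).2.1, c _ _ _ _ (D.ι_comm_units _).2.1,
    c _ _ _ _ (D.ι_comm_units _).2.1, c _ _ _ _ (D.ι_comm_units _).2.1,
    c _ _ _ _ (D.ι_comm_units _).2.2.1, c _ _ _ _ (D.ι_comm_units _).2.2.1,
    c _ _ _ _ (D.ι_comm_units _).2.2.1, c _ _ _ _ (D.ι_comm_units _).2.2.1,
    c _ _ _ _ (D.ι_comm_units _).2.2.2, c _ _ _ _ (D.ι_comm_units _).2.2.2,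
    c _ _ _ _ (D.ι_comm_units _).2.2.2, c _ _ _ _ (D.ι_comm_units _).2.2.2]
  simp only [t1, t2, t3, t4, t5, t6, t7, t8, t9, t10, t11, t12, t13, t14, t15, t16, mul_zero]
  abel

theorem φ_one : D.φ 1 = D.P := by
  have hP : D.P * D.e = D.e ∧ D.P * D.f = D.f := by
    constructor <;> simp only [e, f, ← mul_assoc D.P, ← D.q_comm_P.eq, D.hqP]
  simp [φ, ι_one, ι_zero, hP.1, hP.2, D.e_add_f]

theorem φ_P (g : Matrix (Fin 2) (Fin 2) D.R) : D.φ g * D.P = D.φ g ∧ D.P * D.φ g = D.φ g := by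
  rw [← φ_one, ← φ_mul, ← φ_mul, mul_one, one_mul]; exact ⟨rfl, rfl⟩

/-- The unital version, fixing the complementary corner. -/
noncomputable def ψ (g : SL D.R) : S := D.φ g.1 + (1 - D.P)

theorem ψ_mul (g h : SL D.R) : D.ψ (g * h) = D.ψ g * D.ψ h := by
  simp only [ψ, Matrix.SpecialLinearGroup.coe_mul, φ_mul, add_mul, mul_add, mul_sub, sub_mul,
    one_mul, mul_one, D.hP, (D.φ_P g.1).1, (D.φ_P h.1).2]
  abel

theorem ψ_one : D.ψ 1 = 1 := by
  simp [ψ, φ_one]

/-- As a homomorphism into the units. -/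
noncomputable def Ψ : SL D.R →* Sˣ :=
  Units.liftRight
    { toFun := D.ψ, map_one' := D.ψ_one, map_mul' := D.ψ_mul }
    (fun g => ⟨D.ψ g, D.ψ g⁻¹, by rw [← ψ_mul, mul_inv_cancel, ψ_one],
      by rw [← ψ_mul, inv_mul_cancel, ψ_one]⟩) (fun _ => rfl)

theorem Ψ_val (g : SL D.R) : (D.Ψ g : S) = D.ψ g := rfl

theorem Ψ_up (r : D.R) : (D.Ψ (up r) : S) = 1 + D.ι r * D.x := by
  have hP : D.P * D.e = D.e ∧ D.P * D.f = D.f := by
    constructor <;> simp only [e, f, ← mul_assoc D.P, ← D.q_comm_P.eq, D.hqP]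
  have hr : D.ι r * D.P = D.ι r := by rw [← ι_one, ← ι_mul, mul_one]
  simp [Ψ_val, ψ, φ, up_val, ι_one, ι_zero, hP.1, hP.2, u, ← mul_assoc, hr]
  rw [← D.e_add_f]
  abel

theorem Ψ_low (r : D.R) : (D.Ψ (low r) : S) = 1 + D.ι r * (D.q * D.y) := by
  have hP : D.P * D.e = D.e ∧ D.P * D.f = D.f := by
    constructor <;> simp only [e, f, ← mul_assoc D.P, ← D.q_comm_P.eq, D.hqP]
  simp [Ψ_val, ψ, φ, low_val, ι_one, ι_zero, hP.1, hP.2, l]
  rw [← D.e_add_f]
  abel

theorem φ_injective : Function.Injective D.φ := by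
  obtain ⟨t1, t2, t3, t4, t5, t6, t7, t8, t9, t10, t11, t12, t13, t14, t15, t16⟩ := D.units_table
  intro g h hgh
  have key : ∀ r s : D.R, D.ι r * D.e = D.ι s * D.e → r = s := fun r s h => by
    apply D.ι_injective
    have e2 : D.ι r * D.f = D.ι s * D.f := by
      have := congrArg (fun t => D.l * t * D.u) h
      simp only [← mul_assoc, ← (D.ι_comm_units _).2.2.1.eq] at this
      simp only [mul_assoc, t9, t4] at this
      exact this
    have := congrArg₂ (· + ·) h e2
    simp only [← mul_add, D.e_add_f] at this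
    rwa [← ι_one, ← ι_mul, ← ι_mul, mul_one, mul_one] at this
  have ce : ∀ (r : D.R) (a b c : S), Commute (D.ι r) a → a * (D.ι r * b) * c = D.ι r * (a * b * c) :=
    fun r a b c hc => by rw [← mul_assoc a, ← hc.eq]; simp only [mul_assoc]
  have h00 := congrArg (fun t => D.e * t * D.e) hgh
  have h01 := congrArg (fun t => D.e * t * D.l) hgh
  have h10 := congrArg (fun t => D.u * t * D.e) hgh
  have h11 := congrArg (fun t => D.u * t * D.l) hgh
  simp only [φ, mul_add, add_mul, ce _ _ _ _ (D.ι_comm_units _).1, t5, t9, t7, t11, t16, t3, zero_mul,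
    mul_zero, add_zero, zero_add] at h00 h01
  simp only [φ, mul_add, add_mul, ce _ _ _ _ (D.ι_comm_units _).2.1, t1, t11, t10, t3, t16, zero_mul,
    mul_zero, add_zero, zero_add, t5] at h10 h11
  ext i j
  fin_cases i <;> fin_cases j
  · exact key _ _ h00
  · exact key _ _ h01
  · exact key _ _ h10
  · exact key _ _ h11

theorem Ψ_injective : Function.Injective D.Ψ := by
  intro g h e
  have := congrArg (fun t : Sˣ => (t : S)) e
  simp only [Ψ_val, ψ, add_left_inj] at this
  exact Subtype.ext (D.φ_injective this)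

end Data

end CfsgLib.Perm.Quad.PairAlg
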