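import Mathlib
import Cfsg.Agent.Lib.Perm.Quad.Ends
import Cfsg.Agent.Lib.Perm.Quad.Nilpotency
import Cfsg.Agent.Lib.Perm.Quad.PairAlg

/-! Two minimal quadratic elements not generating a unipotent group. -/

namespace CfsgLib.Perm.Quad.PairSplit

open Cfsg CfsgLib.Perm.Quad.Ends CfsgLib.Perm.Quad.SL2 CfsgLib.Perm.Quad.PairAlg

section Corner

variable {S : Type*} [Ring S]

/-- Units commuting with `P`. -/
def centUnits (P : S) : Subgroup Sˣ where
  carrier := {g | Commute P (g : S)}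
  one_mem' := by simp
  mul_mem' := fun {g h} (hg : Commute P (g : S)) (hh : Commute P (h : S)) => by
    show Commute P ((g * h : Sˣ) : S)
    rw [Units.val_mul]
    exact hg.mul_right hh
  inv_mem' := fun {g} (hg : Commute P (g : S)) => hg.units_inv_right

theorem mem_centUnits {P : S} {g : Sˣ} : g ∈ centUnits P ↔ Commute P (g : S) := Iff.rfl

/-- The hom `g ↦ g P + (1 - P)`. -/
noncomputable def corner {P : S} (hP : P * P = P) : centUnits P →* Sˣ :=
  MonoidHom.toHomUnits
    { toFun := fun g => ((g : Sˣ) : S) * P + (1 - P)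
      map_one' := by simp
      map_mul' := fun g h => by
        have hh : P * ((h : Sˣ) : S) = ((h : Sˣ) : S) * P := h.2
        have a : ((g : Sˣ) : S) * P * (((h : Sˣ) : S) * P) = ((g : Sˣ) : S) * ((h : Sˣ) : S) * P := by
          rw [mul_assoc, ← mul_assoc P, hh, mul_assoc _ P, hP, ← mul_assoc]
        have b : (1 - P) * (((h : Sˣ) : S) * P) = 0 := by
          rw [sub_mul, one_mul, ← mul_assoc, hh, mul_assoc, hP, sub_self]
        have c : ((g : Sˣ) : S) * P * (1 - P) = 0 := by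
          rw [mul_assoc, mul_sub, mul_one, hP, sub_self, mul_zero]
        have d : (1 - P) * (1 - P) = 1 - P := by
          simp only [mul_sub, sub_mul, one_mul, mul_one, hP]; abel
        rw [add_mul, mul_add, mul_add, a, b, c, d, Subgroup.coe_mul, Units.val_mul, add_zero, zero_add] }

theorem corner_val {P : S} (hP : P * P = P) (g : centUnits P) :
    (corner hP g : S) = ((g : Sˣ) : S) * P + (1 - P) := rfl

end Corner

section Perfect

variable {k : Type*} [Field k] {R : Type*} [CommRing R] [Algebra k R]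

/-- A torus element. -/
def tor (a : Rˣ) : SL R := ⟨!![(a : R), 0; 0, ((a⁻¹ : Rˣ) : R)], by simp⟩

theorem tor_val (a : Rˣ) : (tor a).1 = !![(a : R), 0; 0, ((a⁻¹ : Rˣ) : R)] := rfl

theorem tor_inv (a : Rˣ) : (tor a)⁻¹ = tor a⁻¹ := inv_eq_of_mul_eq_one_right (by
  apply ext2 <;> simp [tor_val, mul_apply2])

theorem exists_tor (h2 : (2 : k) ≠ 0) (h3 : Nat.card k ≠ 3) : ∃ μ : k, μ ≠ 0 ∧ μ ^ 2 ≠ 1 := by
  classical
  have hF : Infinite k ∨ 5 ≤ Nat.card k := by
    rcases finite_or_infinite k with h | h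
    · exact Or.inr (SL2Gen.five_le_card h2 h3)
    · exact Or.inl h
  obtain ⟨m, hm⟩ := SL2Normal.exists_avoid hF ({0, 1, -1} : Finset k)
    (le_trans Finset.card_le_three (by norm_num))
  simp only [Finset.mem_insert, Finset.mem_singleton, not_or] at hm
  exact ⟨m, hm.1, fun e => (sq_eq_one_iff.mp e).elim hm.2.1 hm.2.2⟩

theorem gen_perfect (h2 : (2 : k) ≠ 0) (h3 : Nat.card k ≠ 3) (lam : R)
    (hall : ∀ r : R, up r ∈ gen k lam ∧ low r ∈ gen k lam) :
    ⁅gen k lam, gen k lam⁆ = gen k lam := by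
  refine le_antisymm (Subgroup.commutator_le_self _) ?_
  obtain ⟨μ, hμ0, hμ⟩ := exists_tor h2 h3
  let a : Rˣ := Units.map (algebraMap k R).toMonoidHom (Units.mk0 μ hμ0)
  have hw : ∀ a : Rˣ, up (a : R) * low (-((a⁻¹ : Rˣ) : R)) * up (a : R) ∈ gen k lam := fun a =>
    mul_mem (mul_mem (hall _).1 (hall _).2) (hall _).1
  have ht : tor a ∈ gen k lam := by
    have := mul_mem (hw a) (inv_mem (hw 1))
    convert this using 1
    apply ext2 <;> simp [tor_val, mul_apply2, up_val, low_val, up_inv, low_inv]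
  have hu : IsUnit ((a : R) ^ 2 - 1) := by
    have : (a : R) ^ 2 - 1 = algebraMap k R (μ ^ 2 - 1) := by simp [a]
    rw [this]
    exact (IsUnit.mk0 _ (sub_ne_zero.mpr hμ)).map _
  have ku : ∀ r : R, up r ∈ ⁅gen k lam, gen k lam⁆ := fun r => by
    obtain ⟨v, hv⟩ := hu.exists_left_inv
    convert Subgroup.commutator_mem_commutator ht (hall (v * r)).1 using 1
    rw [commutatorElement_def, tor_inv, up_inv]
    apply ext2 <;> simp [tor_val, mul_apply2, up_val]
    linear_combination -(r : R) * hv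
  have kl : ∀ r : R, low r ∈ ⁅gen k lam, gen k lam⁆ := fun r => by
    obtain ⟨v, hv⟩ := hu.exists_left_inv
    convert Subgroup.commutator_mem_commutator (inv_mem ht) (hall (v * r)).2 using 1
    rw [commutatorElement_def, inv_inv, low_inv, tor_inv]
    apply ext2 <;> simp [tor_val, mul_apply2, low_val]
    linear_combination -(r : R) * hv
  refine (Subgroup.closure_le _).mpr ?_
  rintro g (⟨c, rfl⟩ | ⟨c, rfl⟩)
  · exact ku _
  · exact kl _

end Perfect

variable {k : Type*} [Field k] {M : Type*} [AddCommGroup M] [Module k M] [FiniteDimensional k M]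

local notation "GLk" => LinearMap.GeneralLinearGroup k M
local notation "EndM" => Module.End k M

/-- Square zero elements with nilpotent symmetrised product give a unipotent group. -/
theorem unipotent_of_nilpotent {x y : EndM} (hx : x * x = 0) (hy : y * y = 0)
    (hz : IsNilpotent (x * y + y * x)) :
    IsUnipotentOn (Subgroup.closure ({g : GLk | ∃ c : k, (g : EndM) = 1 + c • x} ∪
      {g | ∃ c : k, (g : EndM) = 1 + c • y})) := by
  refine Unipotent.isUnipotentOn_closure fun S hS hinv => ?_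
  have hix : ∀ m ∈ S, x m ∈ S := fun m hm => by
    have := hinv (unit1 x hx) (Or.inl ⟨1, by rw [one_smul]; rfl⟩) m hm
    rw [unit1_val] at this
    simpa using Submodule.sub_mem _ this hm
  have hiy : ∀ m ∈ S, y m ∈ S := fun m hm => by
    have := hinv (unit1 y hy) (Or.inr ⟨1, by rw [one_smul]; rfl⟩) m hm
    rw [unit1_val] at this
    simpa using Submodule.sub_mem _ this hm
  obtain ⟨m0, hm0⟩ : ∃ m, m ∉ S := by
    by_contra! h
    exact hS (eq_top_iff.mpr fun m _ => h m)
  classical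
  obtain ⟨n, hn⟩ := hz
  have hex : ∃ j, ((x * y + y * x) ^ j) m0 ∈ S := ⟨n, by rw [hn]; simp⟩
  obtain ⟨j, hj⟩ : ∃ j, Nat.find hex = j + 1 := by
    refine ⟨Nat.find hex - 1, ?_⟩
    have : Nat.find hex ≠ 0 := fun e => hm0 (by simpa [e] using Nat.find_spec hex)
    omega
  obtain ⟨m, hm⟩ : ∃ m, m = ((x * y + y * x) ^ j) m0 := ⟨_, rfl⟩
  have hmS : m ∉ S := hm ▸ Nat.find_min hex (by omega)
  have hzm : x (y m) + y (x m) ∈ S := by
    have := Nat.find_spec hex
    rw [hj, pow_succ', Module.End.mul_apply, ← hm] at this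
    simpa using this
  have xx : ∀ v, x (x v) = 0 := fun v => LinearMap.congr_fun hx v
  have yy : ∀ v, y (y v) = 0 := fun v => LinearMap.congr_fun hy v
  suffices ∃ w, w ∉ S ∧ x w ∈ S ∧ y w ∈ S by
    obtain ⟨w, hw, hwx, hwy⟩ := this
    refine ⟨w, hw, fun g hg => ?_⟩
    rcases hg with ⟨c, hc⟩ | ⟨c, hc⟩
    · simpa [hc] using S.smul_mem c hwx
    · simpa [hc] using S.smul_mem c hwy
  by_cases hxm : x m ∈ S
  · by_cases hym : y m ∈ S
    · exact ⟨m, hmS, hxm, hym⟩
    · refine ⟨y m, hym, ?_, by simp [yy]⟩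
      simpa using Submodule.sub_mem _ hzm (hiy _ hxm)
  · by_cases hyxm : y (x m) ∈ S
    · exact ⟨x m, hxm, by simp [xx], hyxm⟩
    · refine ⟨y (x m), hyxm, ?_, by simp [yy]⟩
      simpa [xx] using hix _ hzm

variable {G : Subgroup (LinearMap.GeneralLinearGroup k M)}

/-- Lifting `SL₂` of the corner into the group generated by two families. -/
theorem exists_lift (h2 : (2 : k) ≠ 0) (h3 : Nat.card k ≠ 3) {x y : EndM} (hx : x * x = 0)
    (hy : y * y = 0) (fx : ∀ c : k, Mem1 G (c • x)) (fy : ∀ c : k, Mem1 G (c • y))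
    (hz : ¬ IsNilpotent (x * y + y * x)) :
    ∃ D : Data k EndM, D.x = x ∧ D.y = y ∧ D.P ≠ 0 ∧
      (∀ g ∈ gen k D.lam, D.Ψ g ∈ Subgroup.closure ({g : GLk | ∃ c : k, (g : EndM) = 1 + c • x} ∪
        {g | ∃ c : k, (g : EndM) = 1 + c • y})) ∧
      Subgroup.closure ({g : GLk | ∃ c : k, (g : EndM) = 1 + c • x} ∪
        {g | ∃ c : k, (g : EndM) = 1 + c • y}) ≤ G ∧
      (∀ r, up r ∈ gen k D.lam ∧ low r ∈ gen k D.lam) := by
  obtain ⟨P, q, hcomm, hPP, hzq, hqP, a, ha⟩ := exists_fitting (k := k) (x * y + y * x)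
  have czx : Commute (x * y + y * x) x := by
    show _ = _
    simp only [add_mul, mul_add, mul_assoc, hx, mul_zero, ← mul_assoc x x, zero_mul, add_zero, zero_add]
  have czy : Commute (x * y + y * x) y := by
    show _ = _
    simp only [add_mul, mul_add, mul_assoc, hy, mul_zero, ← mul_assoc y y, zero_mul, add_zero, zero_add]
  let D : Data k EndM :=
    { x := x, y := y, P := P, q := q, hx := hx, hy := hy, hP := hPP,
      hxP := (hcomm x czx).1, hyP := (hcomm y czy).1, hqx := (hcomm x czx).2, hqy := (hcomm y czy).2,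
      hzq := hzq, hqP := hqP }
  have hP0 : P ≠ 0 := fun e => hz ⟨a, by simpa [e] using ha⟩
  haveI := D.finite
  obtain ⟨H, hH⟩ : ∃ H, H = Subgroup.closure ({g : GLk | ∃ c : k, (g : EndM) = 1 + c • x} ∪
      {g | ∃ c : k, (g : EndM) = 1 + c • y}) := ⟨_, rfl⟩
  have hHG : H ≤ G := by
    rw [hH, Subgroup.closure_le]
    rintro g (⟨c, hc⟩ | ⟨c, hc⟩)
    · obtain ⟨g', hg', e⟩ := fx c
      rwa [show g = g' from Units.ext (hc.trans e.symm)]
    · obtain ⟨g', hg', e⟩ := fy c
      rwa [show g = g' from Units.ext (hc.trans e.symm)]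
  have hHC : H ≤ centUnits P := by
    rw [hH, Subgroup.closure_le]
    rintro g (⟨c, hc⟩ | ⟨c, hc⟩) <;> rw [SetLike.mem_coe, mem_centUnits, hc]
    · exact (Commute.one_right P).add_right (Commute.smul_right D.hxP c)
    · exact (Commute.one_right P).add_right (Commute.smul_right D.hyP c)
  have hQ : (1 - P) * (1 - P) = 1 - P := by
    simp only [mul_sub, sub_mul, one_mul, mul_one, hPP]; abel
  have hcent : centUnits P = centUnits (1 - P) := by
    ext g
    simp only [mem_centUnits]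
    exact ⟨fun h => (Commute.one_left _).sub_left h, fun h => by simpa using (Commute.one_left _).sub_left h⟩
  -- the two corners
  let π1 := corner (P := P) hPP
  let π0 : centUnits P →* GLk := (corner (P := 1 - P) hQ).comp (Subgroup.inclusion hcent.le)
  let H' := H.subgroupOf (centUnits P)
  have hgenH : ∀ c : k, ∀ v, v = x ∨ v = y → ∃ g ∈ H, (g : EndM) = 1 + c • v := by
    rintro c v (rfl | rfl) <;> rw [hH]
    · exact ⟨unit1 (c • v) (by rw [smul_mul_smul_comm, hx, smul_zero]),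
        Subgroup.subset_closure (Or.inl ⟨c, rfl⟩), rfl⟩
    · exact ⟨unit1 (c • v) (by rw [smul_mul_smul_comm, hy, smul_zero]),
        Subgroup.subset_closure (Or.inr ⟨c, rfl⟩), rfl⟩
  -- image on the invertible corner
  have hι1 : ∀ c : k, D.ι (algebraMap k D.R c) * x = c • (P * x) := fun c => by
    rw [D.ι_algebraMap, smul_mul_assoc]
  have hι2 : ∀ c : k, D.ι (algebraMap k D.R c * D.lam) * (q * y) = c • (P * y) := fun c => by
    show _ = c • (D.P * y)
    have e : D.P * (D.z * D.P) = D.z * D.P := by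
      rw [← mul_assoc, ← D.z_comm_P.eq, mul_assoc, D.hP]
    rw [D.ι_mul, D.ι_algebraMap, D.ι_lam, smul_mul_assoc, smul_mul_assoc, e, mul_assoc D.z,
      ← mul_assoc D.P q y, show D.P * q = q from (D.q_comm_P.eq).symm.trans D.hqP, ← mul_assoc,
      show D.z * q = D.P from hzq]
  have hπ1 : H'.map π1 = (gen k D.lam).map D.Ψ := by
    apply le_antisymm
    · rintro _ ⟨⟨g, hgC⟩, hg, rfl⟩
      change g ∈ H at hg
      suffices ∀ g ∈ H, ∀ hgC : g ∈ centUnits P, π1 ⟨g, hgC⟩ ∈ (gen k D.lam).map D.Ψ from this g hg hgC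
      clear hg hgC g
      intro g hg
      rw [hH] at hg
      induction hg using Subgroup.closure_induction with
      | mem g hg =>
        intro hgC
        rcases hg with ⟨c, hc⟩ | ⟨c, hc⟩
        · refine ⟨_, up_mem_gen k _ c, Units.ext ?_⟩
          show (D.Ψ (up _) : EndM) = g.1 * P + (1 - P)
          rw [D.Ψ_up, hι1, hc, add_mul, one_mul, smul_mul_assoc, ← D.hxP.eq]
          abel
        · refine ⟨_, low_mem_gen k _ c, Units.ext ?_⟩
          show (D.Ψ (low _) : EndM) = g.1 * P + (1 - P)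
          rw [D.Ψ_low, hι2, hc, add_mul, one_mul, smul_mul_assoc, ← D.hyP.eq]
          abel
      | one =>
        intro h
        rw [show (⟨1, h⟩ : centUnits P) = 1 from rfl, map_one]
        exact one_mem _
      | mul g h hg hh ihg ihh =>
        intro hgh
        have a := hHC (hH ▸ hg : g ∈ H)
        have b := hHC (hH ▸ hh : h ∈ H)
        rw [show (⟨g * h, hgh⟩ : centUnits P) = ⟨g, a⟩ * ⟨h, b⟩ from rfl, map_mul]
        exact mul_mem (ihg a) (ihh b)
      | inv g hg ih =>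
        intro hgi
        have a := hHC (hH ▸ hg : g ∈ H)
        rw [show (⟨g⁻¹, hgi⟩ : centUnits P) = (⟨g, a⟩)⁻¹ from rfl, map_inv]
        exact inv_mem (ih a)
    · rw [gen, MonoidHom.map_closure, Subgroup.closure_le]
      rintro _ ⟨_, ⟨c, rfl⟩ | ⟨c, rfl⟩, rfl⟩
      · obtain ⟨g, hg, e⟩ := hgenH c x (Or.inl rfl)
        refine ⟨⟨g, hHC hg⟩, hg, Units.ext ?_⟩
        show g.1 * P + (1 - P) = (D.Ψ (up _) : EndM)
        rw [D.Ψ_up, hι1, e, add_mul, one_mul, smul_mul_assoc, ← D.hxP.eq]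
        abel
      · obtain ⟨g, hg, e⟩ := hgenH c y (Or.inr rfl)
        refine ⟨⟨g, hHC hg⟩, hg, Units.ext ?_⟩
        show g.1 * P + (1 - P) = (D.Ψ (low _) : EndM)
        rw [D.Ψ_low, hι2, e, add_mul, one_mul, smul_mul_assoc, ← D.hyP.eq]
        abel
  -- the nilpotent corner is unipotent
  have hx0 : ((1 - P) * x) * ((1 - P) * x) = 0 := by
    rw [mul_assoc, ← mul_assoc x, ← ((Commute.one_left x).sub_left D.hxP).eq, mul_assoc _ x, hx,
      mul_zero, mul_zero]
  have hy0 : ((1 - P) * y) * ((1 - P) * y) = 0 := by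
    rw [mul_assoc, ← mul_assoc y, ← ((Commute.one_left y).sub_left D.hyP).eq, mul_assoc _ y, hy,
      mul_zero, mul_zero]
  have hz0 : IsNilpotent ((1 - P) * x * ((1 - P) * y) + (1 - P) * y * ((1 - P) * x)) := by
    have e : (1 - P) * x * ((1 - P) * y) + (1 - P) * y * ((1 - P) * x) = (x * y + y * x) * (1 - P) := by
      have k : ∀ v w : EndM, (1 - P) * v = v * (1 - P) → (1 - P) * w = w * (1 - P) →
          (1 - P) * v * ((1 - P) * w) = v * w * (1 - P) := fun v w hv hw => by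
        rw [hv, mul_assoc v, ← mul_assoc _ (1 - P) w, hQ, hw, ← mul_assoc]
      have cx : (1 - P) * x = x * (1 - P) := ((Commute.one_left x).sub_left D.hxP).eq
      have cy : (1 - P) * y = y * (1 - P) := ((Commute.one_left y).sub_left D.hyP).eq
      rw [k x y cx cy, k y x cy cx, ← add_mul]
    rw [e]
    refine ⟨a + 1, ?_⟩
    have hc : Commute (x * y + y * x) (1 - P) := (Commute.one_right _).sub_right D.z_comm_P
    rw [hc.mul_pow, pow_succ _ a, (IsIdempotentElem.pow_succ_eq a (hQ : IsIdempotentElem (1 - P))),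
      mul_assoc, hc.eq, ← mul_assoc, ha, zero_mul]
  have hu0 : IsUnipotentOn (H'.map π0) := by
    refine Unipotent.isUnipotentOn_mono ?_ (unipotent_of_nilpotent hx0 hy0 hz0)
    rintro _ ⟨⟨g, hgC⟩, hg, rfl⟩
    change g ∈ H at hg
    suffices ∀ g ∈ H, ∀ hgC : g ∈ centUnits P, π0 ⟨g, hgC⟩ ∈ Subgroup.closure
        ({g : GLk | ∃ c : k, (g : EndM) = 1 + c • ((1 - P) * x)} ∪
          {g | ∃ c : k, (g : EndM) = 1 + c • ((1 - P) * y)}) from this g hg hgC
    clear hg hgC g
    intro g hg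
    rw [hH] at hg
    induction hg using Subgroup.closure_induction with
    | mem g hg =>
      intro hgC
      refine Subgroup.subset_closure ?_
      rcases hg with ⟨c, hc⟩ | ⟨c, hc⟩
      · refine Or.inl ⟨c, ?_⟩
        show g.1 * (1 - P) + (1 - (1 - P)) = _
        rw [hc, add_mul, one_mul, smul_mul_assoc, ← ((Commute.one_left x).sub_left D.hxP).eq]
        abel
      · refine Or.inr ⟨c, ?_⟩
        show g.1 * (1 - P) + (1 - (1 - P)) = _
        rw [hc, add_mul, one_mul, smul_mul_assoc, ← ((Commute.one_left y).sub_left D.hyP).eq]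
        abel
    | one =>
      intro h
      rw [show (⟨1, h⟩ : centUnits P) = 1 from rfl, map_one]
      exact one_mem _
    | mul g h hg hh ihg ihh =>
      intro hgh
      have a := hHC (hH ▸ hg : g ∈ H)
      have b := hHC (hH ▸ hh : h ∈ H)
      rw [show (⟨g * h, hgh⟩ : centUnits P) = ⟨g, a⟩ * ⟨h, b⟩ from rfl, map_mul]
      exact mul_mem (ihg a) (ihh b)
    | inv g hg ih =>
      intro hgi
      have a := hHC (hH ▸ hg : g ∈ H)
      rw [show (⟨g⁻¹, hgi⟩ : centUnits P) = (⟨g, a⟩)⁻¹ from rfl, map_inv]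
      exact inv_mem (ih a)
  -- lifting
  obtain ⟨n, hn⟩ := Nilpotency.exists_lcs_eq_bot hu0
  have hall := fun r => SL2Ring.mem_gen h2 h3 D.lam_unit D.adjoin_lam r
  have hperf : ⁅H'.map π1, H'.map π1⁆ = H'.map π1 := by
    rw [hπ1, ← Subgroup.map_commutator, gen_perfect h2 h3 _ hall]
  have hlift : ∀ g ∈ gen k D.lam, D.Ψ g ∈ H := by
    intro g hg
    have : D.Ψ g ∈ (H'.lowerCentralSeries n).map π1 := by
      rw [Nilpotency.map_lcs_of_perfect π1 hperf, hπ1]
      exact ⟨g, hg, rfl⟩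
    obtain ⟨h, hh, e⟩ := this
    have h0 : π0 h = 1 := by
      have : π0 h ∈ (H'.lowerCentralSeries n).map π0 := ⟨h, hh, rfl⟩
      rwa [Subgroup.map_lowerCentralSeries, hn, Subgroup.mem_bot] at this
    have hhH : (h : GLk) ∈ H := Subgroup.mem_subgroupOf.mp
      (Subgroup.lowerCentralSeries_antitone H' (Nat.zero_le n) hh)
    convert hhH using 1
    refine Units.ext ?_
    have e0 : ((h : GLk) : EndM) * (1 - P) + (1 - (1 - P)) = 1 := congrArg Units.val h0
    rw [← e]
    show ((h : GLk) : EndM) * P + (1 - P) = _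
    rw [mul_sub, mul_one] at e0
    linear_combination (norm := abel) -e0
  exact ⟨D, rfl, rfl, hP0, fun g hg => hH ▸ hlift g hg, hH ▸ hHG, hall⟩

/-- The data for a pair that is not unipotent, with everything known about it. -/
theorem exists_data (h2 : (2 : k) ≠ 0) (h3 : Nat.card k ≠ 3) {x y : EndM} (hx : Qd G x) (hy : Qd G y)
    (hz : ¬ IsNilpotent (x * y + y * x)) :
    ∃ D : Data k EndM, D.x = x ∧ D.y = y ∧ D.P ≠ 0 ∧ D.P * x = x ∧ D.P * y = y ∧
      Subgroup.closure ({g : GLk | ∃ c : k, (g : EndM) = 1 + c • x} ∪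
        {g | ∃ c : k, (g : EndM) = 1 + c • y}) = D.Ψ.range ∧ D.Ψ.range ≤ G ∧ IsField D.R := by
  obtain ⟨D, rfl, rfl, hP0, hlift, hHG, hall⟩ := exists_lift h2 h3 hx.sq hy.sq hx.fam hy.fam hz
  obtain ⟨H, hH⟩ : ∃ H, H = Subgroup.closure ({g : GLk | ∃ c : k, (g : EndM) = 1 + c • D.x} ∪
      {g | ∃ c : k, (g : EndM) = 1 + c • D.y}) := ⟨_, rfl⟩
  rw [← hH] at hlift hHG
  haveI := D.finite
  have hPP : D.P * D.P = D.P := D.hP
  have hzq : (D.x * D.y + D.y * D.x) * D.q = D.P := D.hzq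
  have hι1 : ∀ c : k, D.ι (algebraMap k D.R c) * D.x = c • (D.P * D.x) := fun c => by
    rw [D.ι_algebraMap, smul_mul_assoc]
  have hι2 : ∀ c : k, D.ι (algebraMap k D.R c * D.lam) * (D.q * D.y) = c • (D.P * D.y) := fun c => by
    have e : D.P * (D.z * D.P) = D.z * D.P := by
      rw [← mul_assoc, ← D.z_comm_P.eq, mul_assoc, D.hP]
    rw [D.ι_mul, D.ι_algebraMap, D.ι_lam, smul_mul_assoc, smul_mul_assoc, e, mul_assoc D.z,
      ← mul_assoc D.P D.q D.y, show D.P * D.q = D.q from (D.q_comm_P.eq).symm.trans D.hqP, ← mul_assoc,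
      show D.z * D.q = D.P from hzq]
  -- both elements live on the corner
  have hker : ∀ v : EndM, Qd G v → (∀ c : k, Mem1 G (c • (D.P * v))) → Commute D.P v →
      D.P * v * (D.P * v) = 0 → D.P * v ≠ 0 → D.P * v = v := by
    intro v hv hf hc hsq hne
    have hle : LinearMap.range (D.P * v) ≤ LinearMap.range v := by
      rw [hc.eq]; exact LinearMap.range_comp_le_range D.P v
    obtain ⟨-, hr, -⟩ := hv.of_le hsq hne hf hle
    ext m
    obtain ⟨m', hm'⟩ : v m ∈ LinearMap.range (D.P * v) := hr ▸ ⟨m, rfl⟩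
    show D.P (v m) = v m
    rw [← hm', Module.End.mul_apply, ← Module.End.mul_apply D.P D.P, hPP]
  have memG : ∀ r, Mem1 G (D.ι r * D.x) ∧ Mem1 G (D.ι r * (D.q * D.y)) := fun r =>
    ⟨⟨_, hHG (hlift _ (hall r).1), D.Ψ_up r⟩, ⟨_, hHG (hlift _ (hall r).2), D.Ψ_low r⟩⟩
  have hPx : D.P * D.x = D.x := by
    refine hker D.x hx (fun c => ?_) D.hxP ?_ (fun h => hP0 ?_)
    · rw [← hι1]; exact (memG _).1
    · rw [mul_assoc, ← mul_assoc D.x, ← D.hxP.eq, mul_assoc D.P D.x, hx.sq, mul_zero, mul_zero]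
    · rw [← hPP]
      nth_rewrite 2 [← hzq]
      rw [← mul_assoc, mul_add, ← mul_assoc, h, ← mul_assoc, D.hyP.eq, mul_assoc D.y D.P, h]
      simp
  have hPy : D.P * D.y = D.y := by
    refine hker D.y hy (fun c => ?_) D.hyP ?_ (fun h => hP0 ?_)
    · rw [← hι2]; exact (memG _).2
    · rw [mul_assoc, ← mul_assoc D.y, ← D.hyP.eq, mul_assoc D.P D.y, hy.sq, mul_zero, mul_zero]
    · rw [← hPP]
      nth_rewrite 2 [← hzq]
      rw [← mul_assoc, mul_add, ← mul_assoc, D.hxP.eq, mul_assoc D.x D.P, h, ← mul_assoc, h]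
      simp
  have hgtop : D.Ψ.range = (gen k D.lam).map D.Ψ → D.Ψ.range ≤ G := fun e => by
    rw [e]
    rintro _ ⟨g, hg, rfl⟩
    exact hHG (hlift g hg)
  -- the ring is a field
  have hne : ∀ r : D.R, r ≠ 0 → Qd G (D.ι r * D.x) ∧
      LinearMap.range (D.ι r * D.x) = LinearMap.range D.x := by
    intro r hr
    have hc := D.ι_comm D.z_comm_x D.hxP r
    have hne : D.ι r * D.x ≠ 0 := fun h => hr <| D.ι_injective <| by
      have e : D.ι r = D.ι r * ((D.x * D.y + D.y * D.x) * D.q) := by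
        rw [hzq, show D.ι r * D.P = D.ι r * D.ι 1 by rw [D.ι_one], ← D.ι_mul, mul_one]
      rw [D.ι_zero, e, ← mul_assoc, mul_add, ← mul_assoc, h, ← mul_assoc,
        (D.ι_comm D.z_comm_y D.hyP r).eq, mul_assoc D.y, h]
      simp
    have h := hx.of_le (a := D.ι r * D.x) (by rw [hc.eq, mul_assoc, ← mul_assoc _ D.x, hc.eq,
        mul_assoc D.x, ← mul_assoc D.x D.x, hx.sq, zero_mul]) hne
      (fun c => by rw [← smul_mul_assoc, ← D.ι_smul]; exact (memG _).1)
      (by rw [hc.eq]; exact LinearMap.range_comp_le_range _ D.x)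
    exact ⟨h.1, h.2.1⟩
  haveI : Nontrivial D.R := ⟨⟨0, 1, fun e => hP0 (by
    have := congrArg D.ι e; rw [D.ι_zero, D.ι_one] at this; exact this.symm)⟩⟩
  haveI : NoZeroDivisors D.R := ⟨fun {r s} h => by
    by_contra hcon
    push Not at hcon
    refine (hne r hcon.1).1.ne (LinearMap.ext fun m => ?_)
    obtain ⟨n', hn'⟩ : D.x m ∈ LinearMap.range (D.ι s * D.x) := (hne s hcon.2).2 ▸ ⟨m, rfl⟩
    show D.ι r (D.x m) = 0
    rw [← hn', ← Module.End.mul_apply, ← mul_assoc, ← D.ι_mul, h, D.ι_zero, zero_mul,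
      LinearMap.zero_apply]⟩
  haveI : IsDomain D.R := NoZeroDivisors.to_isDomain _
  have hfield : IsField D.R := by
    haveI : IsArtinianRing D.R := isArtinian_of_tower k inferInstance
    exact IsArtinianRing.isField_of_isDomain D.R
  have htop : gen k D.lam = ⊤ := by
    letI := hfield.toField
    exact SL2Gen.eq_top_of_mem hall
  have hrange : D.Ψ.range = (gen k D.lam).map D.Ψ := by rw [htop, MonoidHom.range_eq_map]
  refine ⟨D, rfl, rfl, hP0, hPx, hPy, ?_, hgtop hrange, hfield⟩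
  rw [← hH]
  refine le_antisymm ?_ ?_
  · rw [hH, Subgroup.closure_le]
    rintro g (⟨c, hc⟩ | ⟨c, hc⟩)
    · exact ⟨up (algebraMap k D.R c), Units.ext (by rw [D.Ψ_up, hι1, hPx, hc])⟩
    · exact ⟨low (algebraMap k D.R c * D.lam), Units.ext (by rw [D.Ψ_low, hι2, hPy, hc])⟩
  · rw [hrange]
    rintro _ ⟨g, hg, rfl⟩
    exact hlift g hg

end CfsgLib.Perm.Quad.PairSplit
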