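import Mathlib
import Cfsg.Agent.Lib.Perm.Quad.PairSplit
import Cfsg.Agent.Lib.Perm.RankOne
import Cfsg.Agent.Lib.Perm.SL2Unipotent

/-! Opposite classes of minimal quadratic elements form special rank one pairs. -/

namespace CfsgLib.Perm.Quad.Opposite

open Cfsg CfsgLib.Perm.Quad.Ends CfsgLib.Perm.Quad.PairAlg CfsgLib.Perm.Quad.SL2

variable {k : Type*} [Field k] {M : Type*} [AddCommGroup M] [Module k M]

local notation "GLk" => LinearMap.GeneralLinearGroup k M
local notation "EndM" => Module.End k M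

/-- The range of each meets the kernel of the other trivially. -/
def Opp (x y : Module.End k M) : Prop :=
  LinearMap.range x ⊓ LinearMap.ker y = ⊥ ∧ LinearMap.range y ⊓ LinearMap.ker x = ⊥

theorem Opp.symm {x y : EndM} (h : Opp x y) : Opp y x := And.symm h

/-- Mutually inverse square zero elements. -/
structure Frame (x y : Module.End k M) : Prop where
  hx : x * x = 0
  hy : y * y = 0
  hxyx : x * y * x = x
  hyxy : y * x * y = y

theorem Frame.symm {x y : EndM} (h : Frame x y) : Frame y x := ⟨h.hy, h.hx, h.hyxy, h.hxyx⟩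

namespace Frame

variable {x y : Module.End k M} (h : Frame x y)
include h

theorem Px : (x * y + y * x) * x = x := by
  rw [add_mul, mul_assoc y, h.hx, mul_zero, add_zero, h.hxyx]

theorem Py : (x * y + y * x) * y = y := by
  rw [add_mul, mul_assoc x, h.hy, mul_zero, zero_add, h.hyxy]

theorem xP : x * (x * y + y * x) = x := by
  rw [mul_add, ← mul_assoc, h.hx, zero_mul, zero_add, ← mul_assoc, h.hxyx]

theorem yP : y * (x * y + y * x) = y := by
  rw [mul_add, ← mul_assoc, ← mul_assoc, h.hy, zero_mul, add_zero, h.hyxy]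

theorem PP : (x * y + y * x) * (x * y + y * x) = x * y + y * x := by
  rw [mul_add, ← mul_assoc, ← mul_assoc, h.Px, h.Py]

theorem ker_P : LinearMap.ker (x * y + y * x) = LinearMap.ker x ⊓ LinearMap.ker y := by
  ext m
  constructor
  · intro hm
    have hm' : (x * y + y * x) m = 0 := hm
    constructor
    · show x m = 0
      rw [← h.xP, Module.End.mul_apply, hm', map_zero]
    · show y m = 0
      rw [← h.yP, Module.End.mul_apply, hm', map_zero]
  · rintro ⟨h1, h2⟩
    show x (y m) + y (x m) = 0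
    rw [show y m = 0 from h2, show x m = 0 from h1, map_zero, map_zero, add_zero]

theorem range_P : LinearMap.range (x * y + y * x) = LinearMap.range x ⊔ LinearMap.range y := by
  refine le_antisymm ?_ (sup_le ?_ ?_)
  · rintro _ ⟨m, rfl⟩
    exact Submodule.add_mem_sup ⟨y m, rfl⟩ ⟨x m, rfl⟩
  · rintro _ ⟨m, rfl⟩
    exact ⟨x m, by rw [← Module.End.mul_apply, h.Px]⟩
  · rintro _ ⟨m, rfl⟩
    exact ⟨y m, by rw [← Module.End.mul_apply, h.Py]⟩

theorem isCompl : IsCompl (LinearMap.ker x ⊓ LinearMap.ker y) (LinearMap.range x ⊔ LinearMap.range y) := by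
  rw [← h.ker_P, ← h.range_P]
  refine ⟨?_, ?_⟩
  · rw [Submodule.disjoint_def]
    rintro m hm ⟨n, rfl⟩
    rw [← h.PP, Module.End.mul_apply]
    exact hm
  · rw [codisjoint_iff, eq_top_iff]
    intro m _
    rw [← sub_add_cancel m ((x * y + y * x) m)]
    refine Submodule.add_mem_sup ?_ ⟨m, rfl⟩
    show (x * y + y * x) (m - (x * y + y * x) m) = 0
    rw [map_sub, ← Module.End.mul_apply (x * y + y * x), h.PP, sub_self]

theorem opp : Opp x y := by
  constructor <;> rw [Submodule.eq_bot_iff]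
  · rintro _ ⟨⟨m, rfl⟩, hm⟩
    rw [← h.hxyx, Module.End.mul_apply, Module.End.mul_apply, show y (x m) = 0 from hm, map_zero]
  · rintro _ ⟨⟨m, rfl⟩, hm⟩
    rw [← h.hyxy, Module.End.mul_apply, Module.End.mul_apply, show x (y m) = 0 from hm, map_zero]

/-- The data of the attached `SL₂` over the ground field. -/
def data : Data k (Module.End k M) where
  x := x
  y := y
  P := x * y + y * x
  q := x * y + y * x
  hx := h.hx
  hy := h.hy
  hP := h.PP
  hxP := h.Px.trans h.xP.symm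
  hyP := h.Py.trans h.yP.symm
  hqx := h.Px.trans h.xP.symm
  hqy := h.Py.trans h.yP.symm
  hzq := h.PP
  hqP := h.PP

/-- The unitriangular embedding. -/
noncomputable def hom : SL k →* LinearMap.GeneralLinearGroup k M :=
  h.data.Ψ.comp (SL2Ring.slMap (algebraMap k h.data.R))

theorem hom_up (c : k) : (h.hom (up c) : EndM) = 1 + c • x := by
  show (h.data.Ψ (SL2Ring.slMap _ (up c)) : EndM) = _
  rw [SL2Ring.map_up, h.data.Ψ_up, h.data.ι_algebraMap, smul_mul_assoc]
  show 1 + c • ((x * y + y * x) * x) = _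
  rw [h.Px]

theorem hom_low (c : k) : (h.hom (low c) : EndM) = 1 + c • y := by
  show (h.data.Ψ (SL2Ring.slMap _ (low c)) : EndM) = _
  rw [SL2Ring.map_low, h.data.Ψ_low, h.data.ι_algebraMap, smul_mul_assoc]
  show 1 + c • ((x * y + y * x) * ((x * y + y * x) * y)) = _
  rw [h.Py, h.Py]

theorem hom_injective (hx0 : x ≠ 0) : Function.Injective h.hom := by
  haveI : Nontrivial h.data.R := ⟨⟨0, 1, fun e => hx0 (by
    have e' := congrArg h.data.ι e
    rw [Data.ι_zero, Data.ι_one] at e'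
    rw [← h.Px]
    show h.data.P * x = 0
    rw [← e', zero_mul])⟩⟩
  intro g g' e
  have e1 := h.data.Ψ_injective e
  apply ext2
  all_goals
    refine (algebraMap k h.data.R).injective ?_
  · exact congrArg (fun g : SL h.data.R => g.1 0 0) e1
  · exact congrArg (fun g : SL h.data.R => g.1 0 1) e1
  · exact congrArg (fun g : SL h.data.R => g.1 1 0) e1
  · exact congrArg (fun g : SL h.data.R => g.1 1 1) e1

omit h in
/-- The swapping product. -/
theorem exists_swap (h : Frame x y) : ∃ n : GLk, (n : EndM) = 1 - (x * y + y * x) + (x - y) ∧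
    ∀ (u v : GLk), (u : EndM) = 1 + x → (v : EndM) = 1 - y → n = u * v * u := by
  refine ⟨unit1 x h.hx * unit1 (-y) (by simp [h.hy]) * unit1 x h.hx, ?_, fun u v hu hv => ?_⟩
  · have := h.hxyx
    simp only [Units.val_mul, unit1_val, mul_add, add_mul, mul_one, one_mul, mul_neg, neg_mul, h.hx,
      this, sub_eq_add_neg]
    abel
  · rw [show u = unit1 x h.hx from Units.ext hu,
      show v = unit1 (-y) (by simp [h.hy]) from Units.ext (by rw [hv, unit1_val, sub_eq_add_neg])]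

end Frame

variable [FiniteDimensional k M] {G : Subgroup (LinearMap.GeneralLinearGroup k M)}

omit [FiniteDimensional k M] in
theorem not_nilpotent_of_opp {x y : EndM} (hx : x * x = 0) (hx0 : x ≠ 0) (h : Opp x y) :
    ¬ IsNilpotent (x * y + y * x) := by
  rintro ⟨n, hn⟩
  have key : ∀ j, ((x * y + y * x) ^ j) * x ≠ 0 ∧
      LinearMap.range (((x * y + y * x) ^ j) * x) ≤ LinearMap.range x := by
    intro j
    induction j with
    | zero => simp [hx0]
    | succ j ih =>
      obtain ⟨ih0, ihr⟩ := ih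
      rw [pow_succ', mul_assoc]
      constructor
      · intro h0
        apply ih0
        ext m
        have h1 := LinearMap.congr_fun h0 m
        obtain ⟨n, hn⟩ := ihr ⟨m, rfl⟩
        rw [Module.End.mul_apply, ← hn] at h1
        have h2 : x (y (x n)) = 0 := by
          simpa [show x (x n) = 0 from LinearMap.congr_fun hx n] using h1
        have h3 : y (x n) = 0 := (Submodule.eq_bot_iff _).mp h.2 _ ⟨⟨x n, rfl⟩, h2⟩
        rw [LinearMap.zero_apply, ← hn]
        exact (Submodule.eq_bot_iff _).mp h.1 _ ⟨⟨n, rfl⟩, h3⟩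
      · rintro _ ⟨m, rfl⟩
        obtain ⟨n, hn⟩ := ihr ⟨m, rfl⟩
        refine ⟨y (x n), ?_⟩
        rw [Module.End.mul_apply, ← hn]
        simp [show x (x n) = 0 from LinearMap.congr_fun hx n]
  exact (key n).1 (by rw [hn, zero_mul])

theorem exists_inv_of_not_nilpotent (h2 : (2 : k) ≠ 0) (h3 : Nat.card k ≠ 3) {x y : EndM}
    (hx : Qd G x) (hy : Qd G y) (hz : ¬ IsNilpotent (x * y + y * x)) :
    ∃ y' ∈ cls G y, y' ≠ 0 ∧ Frame x y' := by
  obtain ⟨D, rfl, rfl, hP0, hPx, hPy, -, hG, -⟩ := PairSplit.exists_data h2 h3 hx hy hz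
  have hlx : D.x * D.l * D.x = D.x := by
    show D.x * (D.q * D.y) * D.x = D.x
    rw [← mul_assoc D.x, ← D.hqx.eq, mul_assoc, mul_assoc, ← mul_assoc D.x D.y,
      show D.x * D.y * D.x = D.z * D.x by
        rw [Data.z, add_mul, mul_assoc D.y D.x, D.hx, mul_zero, add_zero],
      ← mul_assoc, D.q_z, hPx]
  have hly : D.l * D.x * D.l = D.l := by
    show D.q * D.y * D.x * (D.q * D.y) = D.q * D.y
    rw [mul_assoc (D.q * D.y), ← mul_assoc D.x, ← D.hqx.eq, mul_assoc, mul_assoc, ← mul_assoc D.y D.q,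
      ← D.hqy.eq, mul_assoc D.q D.y, ← mul_assoc D.y D.x, show D.y * D.x * D.y = D.z * D.y by
        rw [Data.z, add_mul, mul_assoc D.x D.y, D.hy, mul_zero, zero_add],
      ← mul_assoc D.q D.z, D.q_z, hPy]
  have hll : D.l * D.l = 0 := D.units_table.2.1
  have hl0 : D.l ≠ 0 := fun e => hx.ne (by rw [← hlx, e, mul_zero, zero_mul])
  have hfam : ∀ c : k, Mem1 G (c • D.l) := fun c =>
    ⟨D.Ψ (low (algebraMap k D.R c)), hG ⟨_, rfl⟩, by
      rw [D.Ψ_low, D.ι_algebraMap, smul_mul_assoc, ← mul_assoc D.P, ← D.q_comm_P.eq, D.hqP]; rfl⟩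
  obtain ⟨hqd, hr, hk⟩ := hy.of_le hll hl0 hfam (by
    show LinearMap.range (D.q * D.y) ≤ _
    rw [D.hqy.eq]; exact LinearMap.range_comp_le_range _ _)
  refine ⟨D.l, Or.inr ⟨hqd, hk ?_, hr⟩, hl0, D.hx, hll, hlx, hly⟩
  intro m hm
  show D.q (D.y m) = 0
  rw [show D.y m = 0 from hm, map_zero]

theorem opp_of_cls {x y a b : EndM} (ha : a ∈ cls G x) (ha0 : a ≠ 0) (hb : b ∈ cls G y) (hb0 : b ≠ 0) :
    Opp a b ↔ Opp x y := by
  obtain ⟨-, hka, hra⟩ := cls_qd ha ha0
  obtain ⟨-, hkb, hrb⟩ := cls_qd hb hb0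
  rw [Opp, Opp, hka, hra, hkb, hrb]

theorem opp_of_not_nilpotent (h2 : (2 : k) ≠ 0) (h3 : Nat.card k ≠ 3) {x y : EndM}
    (hx : Qd G x) (hy : Qd G y) (hz : ¬ IsNilpotent (x * y + y * x)) : Opp x y := by
  obtain ⟨y', hy', h0, hf⟩ := exists_inv_of_not_nilpotent h2 h3 hx hy hz
  exact (opp_of_cls (self_mem_cls hx) hx.ne hy' h0).mp hf.opp

theorem exists_inv (h2 : (2 : k) ≠ 0) (h3 : Nat.card k ≠ 3) {x y : EndM}
    (hx : Qd G x) (hy : Qd G y) (h : Opp x y) :
    ∃ y' ∈ cls G y, y' ≠ 0 ∧ Frame x y' :=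
  exists_inv_of_not_nilpotent h2 h3 hx hy (not_nilpotent_of_opp hx.sq hx.ne h)

theorem root_ne {x y : EndM} (hx : Qd G x) (h : Opp x y) : root G x ≠ root G y := by
  intro e
  obtain ⟨g, hg, eg⟩ := exists_mem_root (self_mem_cls hx)
  rw [e, mem_root, eg, add_sub_cancel_left] at hg
  obtain ⟨-, hk, hr⟩ := cls_qd hg hx.ne
  have hle := range_le_ker hx.sq
  rw [hk] at hle
  exact hx.ne (LinearMap.range_eq_bot.mp ((inf_eq_left.mpr hle).symm.trans h.1))

/-- The swap carries one class to the other. -/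
theorem conjBy_swap {x y : EndM} (hf : Frame x y) (hx : Qd G x) (hy : Qd G y) {n : GLk} (hn : n ∈ G)
    (en : (n : EndM) = 1 - (x * y + y * x) + (x - y)) :
    conjBy (root G x) n = root G y := by
  obtain ⟨n', en', -⟩ := hf.symm.exists_swap
  have hnn : n * n' = 1 := by
    refine Units.ext ?_
    rw [Units.val_mul, en, en', Units.val_one, add_comm (y * x)]
    simp only [mul_add, add_mul, mul_sub, sub_mul, mul_one, one_mul, hf.hx, hf.hy, hf.hxyx, hf.hyxy,
      ← mul_assoc]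
    simp only [mul_assoc, hf.hx, hf.hy, mul_zero, ← mul_assoc x x, ← mul_assoc y y, zero_mul,
      show x * (y * x) = x by rw [← mul_assoc, hf.hxyx], show y * (x * y) = y by rw [← mul_assoc, hf.hyxy]]
    abel
  have e : cj n x = -y := by
    rw [cj_apply, inv_eq_of_mul_eq_one_right hnn, en, en']
    simp only [mul_add, add_mul, mul_sub, sub_mul, mul_one, one_mul, mul_assoc, hf.hx, hf.hy, mul_zero,
      ← mul_assoc x x, ← mul_assoc y y, zero_mul,
      show x * (y * x) = x by rw [← mul_assoc, hf.hxyx], show y * (x * y) = y by rw [← mul_assoc, hf.hyxy]]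
    abel
  rw [conjBy_root hn, e]
  exact root_eq_of_mem (neg_mem (self_mem_cls hy)) (neg_ne_zero.mpr hy.ne)

theorem mem_root_of_eq {x : EndM} {g : GLk} {a : EndM} (ha : a ∈ cls G x) (e : (g : EndM) = 1 + a) :
    g ∈ root G x := by
  rw [mem_root, e, add_sub_cancel_left]; exact ha

theorem cond (h2 : (2 : k) ≠ 0) (h3 : Nat.card k ≠ 3) {x y : EndM} (hy : Qd G y)
    (h : Opp x y) : RankOneCondition (root G x) (root G y) := by
  intro α hα hα1
  obtain ⟨a, e⟩ : ∃ a, a = (α : EndM) - 1 := ⟨_, rfl⟩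
  have ha : a ∈ cls G x := e ▸ hα
  have eα : (α : EndM) = 1 + a := by rw [e]; abel
  have ha0 : a ≠ 0 := fun h0 => hα1 (Units.ext (by rw [eα, h0, add_zero]; rfl))
  have hqa := (cls_qd ha ha0).1
  obtain ⟨b, hb, hb0, hf⟩ := exists_inv h2 h3 hqa hy ((opp_of_cls ha ha0 (self_mem_cls hy) hy.ne).mpr h)
  obtain ⟨β, hβ, eβ⟩ := exists_mem_root hb
  have hβ1 : β ≠ 1 := fun h1 => hb0 (by rw [h1] at eβ; simpa using eβ)
  obtain ⟨n, en, hnu⟩ := hf.exists_swap
  have hn := hnu α β⁻¹ eα (inv_val hf.hy eβ)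
  have hnG : n ∈ G := hn ▸ mul_mem (mul_mem (root_le hα) (inv_mem (root_le hβ))) (root_le hα)
  have := conjBy_swap hf hqa (cls_qd hb hb0).1 hnG en
  rw [root_eq_of_mem ha ha0, root_eq_of_mem hb hb0, hn, RankOne.conjBy_mul,
    RankOne.conjBy_of_mem hα] at this
  refine ⟨β, hβ, hβ1, ?_⟩
  rw [← this, ← RankOne.conjBy_mul, inv_mul_cancel_left]

theorem isRankOnePair (h2 : (2 : k) ≠ 0) (h3 : Nat.card k ≠ 3) {x y : EndM} (hx : Qd G x)
    (hy : Qd G y) (h : Opp x y) : IsRankOnePair (root G x) (root G y) := by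
  have hnil : ∀ x : EndM, Group.IsNilpotent (root G x) := fun x => by
    haveI : IsMulCommutative (root G x) := ⟨⟨fun g g' => Subtype.ext (Units.ext (by
      have e1 := cls_mul_zero (mem_root.mp g.2) (mem_root.mp g'.2)
      have e2 := cls_mul_zero (mem_root.mp g'.2) (mem_root.mp g.2)
      simp only [mul_sub, sub_mul, mul_one, one_mul] at e1 e2
      show ((g : GLk) : EndM) * ((g' : GLk) : EndM) = ((g' : GLk) : EndM) * ((g : GLk) : EndM)
      linear_combination (norm := abel) e1 - e2))⟩⟩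
    letI : CommGroup (root G x) := { mul_comm := fun a b => mul_comm' a b }
    infer_instance
  exact ⟨root_ne hx h, hnil x, hnil y, cond h2 h3 hy h, cond h2 h3 hx h.symm⟩

theorem isSpecial (h2 : (2 : k) ≠ 0) (h3 : Nat.card k ≠ 3) {x y : EndM} (hx : Qd G x)
    (hy : Qd G y) (h : Opp x y) : IsSpecialRankOnePair (root G x) (root G y) := by
  have hp := isRankOnePair h2 h3 hx hy h
  refine ⟨hp, fun α hα hα1 β hβ hβ1 he => ?_⟩
  obtain ⟨a, e⟩ : ∃ a, a = (α : EndM) - 1 := ⟨_, rfl⟩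
  have ha : a ∈ cls G x := e ▸ hα
  have eα : (α : EndM) = 1 + a := by rw [e]; abel
  have ha0 : a ≠ 0 := fun h0 => hα1 (Units.ext (by rw [eα, h0, add_zero]; rfl))
  have hqa := (cls_qd ha ha0).1
  obtain ⟨b, hb, hb0, hf⟩ := exists_inv h2 h3 hqa hy ((opp_of_cls ha ha0 (self_mem_cls hy) hy.ne).mpr h)
  obtain ⟨β', hβ', eβ⟩ := exists_mem_root hb
  have hβ'1 : β' ≠ 1 := fun h1 => hb0 (by rw [h1] at eβ; simpa using eβ)
  obtain ⟨n, en, hnu⟩ := hf.exists_swap
  have hn := hnu α β'⁻¹ eα (inv_val hf.hy eβ)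
  have hnG : n ∈ G := hn ▸ mul_mem (mul_mem (root_le hα) (inv_mem (root_le hβ'))) (root_le hα)
  have hc := conjBy_swap hf hqa (cls_qd hb hb0).1 hnG en
  rw [root_eq_of_mem ha ha0, root_eq_of_mem hb hb0, hn, RankOne.conjBy_mul,
    RankOne.conjBy_of_mem hα] at hc
  have he' : conjBy (root G x) β'⁻¹ = conjBy (root G y) α⁻¹ := by
    rw [← hc, ← RankOne.conjBy_mul, inv_mul_cancel_left]
  obtain rfl : β = β' := (RankOne.existsUnique_b hp hα hα1).unique ⟨hβ, hβ1, he⟩ ⟨hβ', hβ'1, he'⟩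
  refine Units.ext ?_
  rw [Units.val_mul, Units.val_mul, Units.val_mul, Units.val_mul, inv_val hf.hy eβ, inv_val hf.hx eα,
    eα, eβ]
  simp only [mul_add, add_mul, mul_sub, sub_mul, mul_one, one_mul, mul_assoc, hf.hx, hf.hy, mul_zero,
    show a * (b * a) = a by rw [← mul_assoc, hf.hxyx], show b * (a * b) = b by rw [← mul_assoc, hf.hyxy]]
  abel

theorem psl2 {x y : EndM} (hf : Frame x y) (hx : Qd G x) (hy : Qd G y) :
    ∃ A B : Subgroup GLk, A ≤ root G x ∧ B ≤ root G y ∧ IsPSL2PairOver k A B := by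
  refine ⟨(upperUnipotentSL2 k).map hf.hom, (lowerUnipotentSL2 k).map hf.hom, ?_, ?_, hf.hom, ?_, ?_,
    rfl, rfl⟩
  · rintro _ ⟨g, hg, rfl⟩
    obtain ⟨c, rfl⟩ := SL2Unipotent.mem_upper.mp hg
    exact mem_root_of_eq (Submodule.smul_mem _ c (self_mem_cls hx)) (hf.hom_up c)
  · rintro _ ⟨g, hg, rfl⟩
    obtain ⟨c, rfl⟩ := SL2Unipotent.mem_lower.mp hg
    exact mem_root_of_eq (Submodule.smul_mem _ c (self_mem_cls hy)) (hf.hom_low c)
  · rw [← Subgroup.map_sup, sup_comm, SL2Unipotent.sup_eq_top, MonoidHom.range_eq_map]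
  · rw [(MonoidHom.ker_eq_bot_iff _).mpr (hf.hom_injective hx.ne)]
    exact bot_le

end CfsgLib.Perm.Quad.Opposite
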