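import Mathlib
import Cfsg.Agent.Lib.Perm.Quad.Opposite

/-! Pairs of minimal quadratic elements generating a unipotent group. -/

namespace CfsgLib.Perm.Quad.PairNil

open Cfsg CfsgLib.Perm.Quad.Ends CfsgLib.Perm.Quad.Opposite

section Identities

variable {k : Type*} [Field k] {S : Type*} [Ring S] [Algebra k S]

theorem comm_first {x y : S} (hx : x * x = 0) (hy : y * y = 0) (s t : k) :
    (1 + s • x) * (1 + t • y) * (1 - s • x) * (1 - t • y) =
      1 + (s * t) • (x * y - y * x) - (s * s * t) • (x * y * x) + (s * t * t) • (y * x * y) +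
        (s * s * t * t) • (x * y * x * y) := by
  have xx : ∀ r, x * (x * r) = 0 := fun r => by rw [← mul_assoc, hx, zero_mul]
  have yy : ∀ r, y * (y * r) = 0 := fun r => by rw [← mul_assoc, hy, zero_mul]
  simp only [mul_add, add_mul, mul_sub, sub_mul, mul_one, one_mul, smul_mul_assoc, mul_smul_comm,
    smul_smul, mul_assoc, hx, hy, xx, yy, mul_zero, zero_mul, smul_zero, smul_sub, smul_add]
  match_scalars <;> ring

theorem comm_second {x y : S} (hx : x * x = 0) (hy : y * y = 0)
    (h5 : x * y * x * y * x = 0) (e t : k) (he : e * e = 1) :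
    let C := 1 + (e * t) • (x * y - y * x) - t • (x * y * x) + (e * t * t) • (y * x * y) +
      (t * t) • (x * y * x * y)
    let δ := (-(2 * e * t)) • (x * y * x) + (e * t * t) • (x * y * x * y - y * x * y * x)
    (1 + x) * C * (1 - x) = C + δ ∧ δ * C = δ := by
  intro C δ
  have xx : ∀ r, x * (x * r) = 0 := fun r => by rw [← mul_assoc, hx, zero_mul]
  have yy : ∀ r, y * (y * r) = 0 := fun r => by rw [← mul_assoc, hy, zero_mul]
  have a5 : x * (y * (x * (y * x))) = 0 := by simpa only [mul_assoc] using h5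
  have a6 : ∀ r, x * (y * (x * (y * (x * r)))) = 0 := fun r => by
    have := congrArg (· * r) a5
    simpa only [mul_assoc, zero_mul] using this
  constructor <;>
  · simp only [C, δ, mul_add, add_mul, mul_sub, sub_mul, mul_one, one_mul, smul_mul_assoc, mul_smul_comm,
      smul_smul, mul_assoc, hx, hy, xx, yy, a5, a6, mul_zero, zero_mul, smul_zero, smul_sub, smul_add]
    match_scalars <;> ring

end Identities

variable {k : Type*} [Field k] {M : Type*} [AddCommGroup M] [Module k M]
  {G : Subgroup (LinearMap.GeneralLinearGroup k M)}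

local notation "GLk" => LinearMap.GeneralLinearGroup k M
local notation "EndM" => Module.End k M

theorem comm_mem {x y : EndM} (hx : x * x = 0) (fx : ∀ c : k, Mem1 G (c • x)) (hy : y * y = 0) (fy : ∀ c : k, Mem1 G (c • y)) (s t : k) :
    ∃ g ∈ G, (g : EndM) = 1 + (s * t) • (x * y - y * x) - (s * s * t) • (x * y * x) +
      (s * t * t) • (y * x * y) + (s * s * t * t) • (x * y * x * y) := by
  obtain ⟨g, hg, eg⟩ := fx s
  obtain ⟨h, hh, eh⟩ := fy t
  refine ⟨g * h * g⁻¹ * h⁻¹, mul_mem (mul_mem (mul_mem hg hh) (inv_mem hg)) (inv_mem hh), ?_⟩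
  rw [Units.val_mul, Units.val_mul, Units.val_mul,
    inv_val (by rw [smul_mul_smul_comm, hx, smul_zero]) eg,
    inv_val (by rw [smul_mul_smul_comm, hy, smul_zero]) eh, eg, eh]
  exact comm_first hx hy s t

variable [FiniteDimensional k M]

theorem xyx_eq_zero_aux (h2 : (2 : k) ≠ 0) {x y : EndM} (hx : Qd G x) (hy : y * y = 0)
    (fy : ∀ c : k, Mem1 G (c • y)) (h5 : x * y * x * y * x = 0)
    (hz : IsNilpotent (x * y + y * x)) : x * y * x = 0 := by
  have hfam : ∀ c : k, Mem1 G (c • (x * y * x)) := by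
    intro c
    obtain ⟨t, ht⟩ : ∃ t : k, t = -c / 4 := ⟨_, rfl⟩
    have key : ∀ e t : k, e * e = 1 → Mem1 G ((-(2 * e * t)) • (x * y * x) +
        (e * t * t) • (x * y * x * y - y * x * y * x)) := by
      intro e t he
      obtain ⟨C, hC, eC⟩ := comm_mem hx.sq hx.fam hy fy e t
      simp only [he, one_mul] at eC
      obtain ⟨u, hu, eu⟩ := hx.mem
      obtain ⟨h1, h2'⟩ := comm_second (k := k) hx.sq hy h5 e t he
      rw [← eC] at h1 h2'
      refine ⟨u * C * u⁻¹ * C⁻¹, mul_mem (mul_mem (mul_mem hu hC) (inv_mem hu)) (inv_mem hC), ?_⟩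
      rw [Units.val_mul, Units.val_mul, Units.val_mul, inv_val hx.sq eu, eu, h1]
      nth_rewrite 1 [← h2']
      rw [← one_add_mul, mul_assoc, Units.mul_inv, mul_one]
    have := (key 1 t (one_mul 1)).mul (key (-1) (-t) (by ring))
    convert this using 1
    have xx : ∀ r, x * (x * r) = 0 := fun r => by rw [← mul_assoc, hx.sq, zero_mul]
    have yy : ∀ r, y * (y * r) = 0 := fun r => by rw [← mul_assoc, hy, zero_mul]
    have a5 : x * (y * (x * (y * x))) = 0 := by simpa only [mul_assoc] using h5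
    have a6 : ∀ r, x * (y * (x * (y * (x * r)))) = 0 := fun r => by
      have := congrArg (· * r) a5
      simpa only [mul_assoc, zero_mul] using this
    simp only [mul_add, add_mul, mul_sub, sub_mul, smul_mul_assoc, mul_smul_comm, smul_smul,
      mul_assoc, hx.sq, hy, xx, yy, a5, a6, mul_zero, zero_mul, smul_zero, smul_sub, smul_add]
    have h4 : (4 : k) ≠ 0 := by rw [show (4 : k) = 2 * 2 by norm_num]; exact mul_ne_zero h2 h2
    match_scalars <;> (subst ht; field_simp; ring)
  by_contra h0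
  have hle : LinearMap.range (x * y * x) ≤ LinearMap.range x := by
    rw [mul_assoc]; exact LinearMap.range_comp_le_range _ x
  obtain ⟨-, hr, -⟩ := hx.of_le (a := x * y * x)
    (by simp only [mul_assoc, ← mul_assoc x x, hx.sq, zero_mul, mul_zero]) h0 hfam hle
  obtain ⟨n, hn⟩ := hz
  have key : ∀ j, LinearMap.range x ≤ LinearMap.range ((x * y + y * x) ^ j * x) := by
    intro j
    induction j with
    | zero => rw [pow_zero, one_mul]
    | succ j ih =>
      conv_lhs => rw [← hr]
      rintro _ ⟨m, rfl⟩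
      obtain ⟨m', hm'⟩ := ih ⟨m, rfl⟩
      refine ⟨m', ?_⟩
      rw [pow_succ', mul_assoc, Module.End.mul_apply, hm', Module.End.mul_apply, Module.End.mul_apply]
      simp [show x (x m) = 0 from LinearMap.congr_fun hx.sq m]
  have := key n
  rw [hn, zero_mul, LinearMap.range_zero, le_bot_iff, LinearMap.range_eq_bot] at this
  exact hx.ne this

/-- A unipotent pair satisfies `x y x = 0`. -/
theorem xyx_eq_zero (h2 : (2 : k) ≠ 0) {x y : EndM} (hx : Qd G x) (hy : Qd G y)
    (hz : IsNilpotent (x * y + y * x)) : x * y * x = 0 := by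
  obtain ⟨a, ha⟩ := hz
  induction a using Nat.strong_induction_on generalizing x y with
  | _ a IH =>
  have red : ∀ u v : EndM, Qd G u → Qd G v → (u * v + v * u) ^ a = 0 → u * v * u * v * u = 0 := by
    intro u v hu hv ha
    have hzu : (u * v + v * u) * (u * v + v * u) * u = u * v * u * v * u := by
      simp only [mul_add, add_mul, mul_assoc, hu.sq, mul_zero, add_zero, ← mul_assoc u u, zero_mul,
        zero_add, ← mul_assoc v v, hv.sq]
    by_cases ha2 : a ≤ 2
    · rw [← hzu, ← pow_two, pow_eq_zero_of_le ha2 ha, zero_mul]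
    obtain ⟨g, hg, eg⟩ := hv.mem
    have hu' := hu.cj hg
    have e : cj g u = u + (v * u - u * v) - v * u * v := by
      rw [cj_apply, inv_val hv.sq eg, eg]
      noncomm_ring
    have ez : u * cj g u + cj g u * u = -((u * v + v * u) * (u * v + v * u)) := by
      rw [e]
      simp only [mul_add, add_mul, mul_sub, sub_mul, mul_assoc, hu.sq, hv.sq, mul_zero, add_zero,
        ← mul_assoc u u, ← mul_assoc v v, zero_mul, zero_add]
      abel
    have := IH ((a + 1) / 2) (by omega) hu hu' (by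
      rw [ez, neg_pow, ← pow_two, ← pow_mul, pow_eq_zero_of_le (by omega) ha, mul_zero])
    rw [← hzu]
    have e2 : u * cj g u * u = (u * cj g u + cj g u * u) * u := by
      rw [add_mul, mul_assoc (cj g u), hu.sq, mul_zero, add_zero]
    rw [e2, ez, neg_mul, neg_eq_zero] at this
    exact this
  exact xyx_eq_zero_aux h2 hx hy.sq hy.fam (red x y hx hy ha) ⟨a, ha⟩

/-- The same with an arbitrary quadratic second element. -/
theorem xvx_eq_zero (h2 : (2 : k) ≠ 0) {x v : EndM} (hx : Qd G x) (hv : v * v = 0)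
    (fv : ∀ c : k, Mem1 G (c • v)) (hz : IsNilpotent (x * v + v * x)) : x * v * x = 0 := by
  obtain ⟨g, hg, eg⟩ : Mem1 G v := by simpa using fv 1
  have hx' := hx.cj hg
  have e : cj g x = x + (v * x - x * v) - v * x * v := by
    rw [cj_apply, inv_val hv eg, eg]
    noncomm_ring
  have ez : x * cj g x + cj g x * x = -((x * v + v * x) * (x * v + v * x)) := by
    rw [e]
    simp only [mul_add, add_mul, mul_sub, sub_mul, mul_assoc, hx.sq, hv, mul_zero, add_zero,
      ← mul_assoc x x, ← mul_assoc v v, zero_mul, zero_add]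
    abel
  obtain ⟨n, hn⟩ := hz
  have := xyx_eq_zero h2 hx hx' ⟨n, by rw [ez, neg_pow, ← pow_two, ← pow_mul,
    pow_eq_zero_of_le (by omega) hn, mul_zero]⟩
  have e2 : x * cj g x * x = (x * cj g x + cj g x * x) * x := by
    rw [add_mul, mul_assoc (cj g x), hx.sq, mul_zero, add_zero]
  rw [e2, ez, neg_mul, neg_eq_zero] at this
  refine xyx_eq_zero_aux h2 hx hv fv ?_ ⟨n, hn⟩
  rw [← this]
  simp only [mul_add, add_mul, mul_assoc, hx.sq, mul_zero, add_zero, ← mul_assoc x x, zero_mul,
    zero_add, ← mul_assoc v v, hv]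

theorem nilpotent_of_not_opp (h2 : (2 : k) ≠ 0) (h3 : Nat.card k ≠ 3) {x y : EndM}
    (hx : Qd G x) (hy : Qd G y) (h : ¬ Opp x y) : IsNilpotent (x * y + y * x) := by
  by_contra hz
  exact h (opp_of_not_nilpotent h2 h3 hx hy hz)

variable (h2 : (2 : k) ≠ 0) (h3 : Nat.card k ≠ 3)
include h2 h3

theorem cls_aba {x y a b : EndM} (h : ¬ Opp x y) (ha : a ∈ cls G x) (hb : b ∈ cls G y) :
    a * b * a = 0 := by
  by_cases ha0 : a = 0
  · simp [ha0]
  by_cases hb0 : b = 0
  · simp [hb0]
  have hqa := (cls_qd ha ha0).1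
  have hqb := (cls_qd hb hb0).1
  refine xyx_eq_zero h2 hqa hqb (nilpotent_of_not_opp h2 h3 hqa hqb ?_)
  rwa [opp_of_cls ha ha0 hb hb0]

theorem cls_aba' {x y a a' b : EndM} (h : ¬ Opp x y) (ha : a ∈ cls G x) (ha' : a' ∈ cls G x)
    (hb : b ∈ cls G y) : a * b * a' = 0 := by
  by_cases ha0 : a = 0
  · simp [ha0]
  by_cases ha'0 : a' = 0
  · simp [ha'0]
  rw [mul_assoc, mul_eq_zero_iff, (cls_qd ha ha0).2.1, ← (cls_qd ha' ha'0).2.1, ← mul_eq_zero_iff,
    ← mul_assoc]
  exact cls_aba h2 h3 h ha' hb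

theorem cls_unipotent {x y : EndM} (h : ¬ Opp x y) : IsUnipotentOn (root G x ⊔ root G y) := by
  have h' : ¬ Opp y x := fun e => h e.symm
  rw [← Subgroup.closure_eq (root G x), ← Subgroup.closure_eq (root G y), ← Subgroup.closure_union]
  refine Unipotent.isUnipotentOn_closure fun S hS _ => ?_
  obtain ⟨m0, hm0⟩ : ∃ m, m ∉ S := by
    by_contra! hc
    exact hS (eq_top_iff.mpr fun m _ => hc m)
  suffices ∃ m, m ∉ S ∧ (∀ a ∈ cls G x, a m ∈ S) ∧ (∀ b ∈ cls G y, b m ∈ S) by
    obtain ⟨m, hm, hmx, hmy⟩ := this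
    refine ⟨m, hm, fun g hg => ?_⟩
    rcases hg with hg | hg
    · simpa using hmx _ hg
    · simpa using hmy _ hg
  -- the two one-sided searches
  have side : ∀ x y : EndM, ¬ Opp x y → (∃ a ∈ cls G x, a m0 ∉ S) →
      ∃ m, m ∉ S ∧ (∀ a ∈ cls G x, a m ∈ S) ∧ (∀ b ∈ cls G y, b m ∈ S) := by
    rintro x y hxy ⟨a, ha, hm⟩
    by_cases hb : ∃ b ∈ cls G y, b (a m0) ∉ S
    · obtain ⟨b, hb, hm2⟩ := hb
      refine ⟨b (a m0), hm2, fun a' ha' => ?_, fun b' hb' => ?_⟩
      · rw [← Module.End.mul_apply, ← Module.End.mul_apply, cls_aba' h2 h3 hxy ha' ha hb]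
        exact S.zero_mem
      · rw [← Module.End.mul_apply, cls_mul_zero hb' hb]
        exact S.zero_mem
    · push Not at hb
      refine ⟨a m0, hm, fun a' ha' => ?_, hb⟩
      rw [← Module.End.mul_apply, cls_mul_zero ha' ha]
      exact S.zero_mem
  by_cases hx : ∃ a ∈ cls G x, a m0 ∉ S
  · exact side x y h hx
  by_cases hy : ∃ b ∈ cls G y, b m0 ∉ S
  · obtain ⟨m, hm, h1, h1'⟩ := side y x h' hy
    exact ⟨m, hm, h1', h1⟩
  push Not at hx hy
  exact ⟨m0, hm0, hx, hy⟩

omit h2 h3 in
theorem rk_mul (x y : EndM) : rk (x * y) +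
    Module.finrank k ↥(LinearMap.range y ⊓ LinearMap.ker x) = rk y := by
  have e := LinearMap.finrank_range_add_finrank_ker (x.domRestrict (LinearMap.range y))
  rw [LinearMap.range_domRestrict, LinearMap.ker_domRestrict] at e
  rw [rk, rk, show LinearMap.range (x * y) = (LinearMap.range y).map x from LinearMap.range_comp y x,
    ← Submodule.map_comap_subtype, Submodule.finrank_map_subtype_eq]
  exact e

omit h2 h3 in
/-- Everything about a non-zero bracket of a unipotent pair. -/
theorem bracket_data {x y : EndM} (hx : Qd G x) (hy : Qd G y) (hxyx : x * y * x = 0)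
    (hyxy : y * x * y = 0) (hw : x * y - y * x ≠ 0) :
    Qd G (x * y - y * x) ∧
    LinearMap.range (x * y - y * x) =
      (LinearMap.range x ⊓ LinearMap.ker y) ⊔ (LinearMap.range y ⊓ LinearMap.ker x) ∧
    LinearMap.ker (x * y - y * x) =
      (LinearMap.range x ⊔ LinearMap.ker y) ⊓ (LinearMap.range y ⊔ LinearMap.ker x) ∧
    (LinearMap.range x ⊓ LinearMap.ker y) ⊓ (LinearMap.range y ⊓ LinearMap.ker x) = ⊥ ∧
    LinearMap.range (x * y) = LinearMap.range x ⊓ LinearMap.ker y ∧
    LinearMap.range (y * x) = LinearMap.range y ⊓ LinearMap.ker x := by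
  obtain ⟨w, ew⟩ : ∃ w, w = x * y - y * x := ⟨_, rfl⟩
  rw [← ew] at hw ⊢
  have hA : LinearMap.range (x * y) ≤ LinearMap.range x ⊓ LinearMap.ker y :=
    le_inf (LinearMap.range_comp_le_range y x) (mul_eq_zero_iff.mp (by rw [← mul_assoc, hyxy]))
  have hB : LinearMap.range (y * x) ≤ LinearMap.range y ⊓ LinearMap.ker x :=
    le_inf (LinearMap.range_comp_le_range x y) (mul_eq_zero_iff.mp (by rw [← mul_assoc, hxyx]))
  have hW : LinearMap.range w ≤ LinearMap.range (x * y) ⊔ LinearMap.range (y * x) := by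
    rintro _ ⟨m, rfl⟩
    rw [ew, LinearMap.sub_apply, sub_eq_add_neg]
    exact Submodule.add_mem_sup ⟨m, rfl⟩ (Submodule.neg_mem _ ⟨m, rfl⟩)
  have hwsq : w * w = 0 := by
    rw [ew]
    simp only [mul_sub, sub_mul, mul_assoc] at hxyx hyxy ⊢
    simp only [← mul_assoc x x, ← mul_assoc y y, hx.sq, hy.sq, zero_mul, mul_zero, hxyx, hyxy, sub_zero]
  have hfam : ∀ c : k, Mem1 G (c • w) := fun c => by
    obtain ⟨g, hg, e⟩ := comm_mem hx.sq hx.fam hy.sq hy.fam 1 c
    refine ⟨g, hg, e.trans ?_⟩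
    rw [ew, one_mul, one_mul, hxyx, hyxy, zero_mul, smul_zero, smul_zero, smul_zero, sub_zero,
      add_zero, add_zero]
  have r1 := rk_mul x y
  have r2 := rk_mul y x
  have d1 := hx.rk_eq hy
  have f1 := Submodule.finrank_mono hA
  have f2 := Submodule.finrank_mono hB
  have f3 := Submodule.finrank_mono hW
  have f4 := Submodule.finrank_sup_add_finrank_inf_eq (LinearMap.range (x * y)) (LinearMap.range (y * x))
  have f5 := hx.min w hwsq hw hfam
  unfold rk at r1 r2 d1 f5
  have eA : LinearMap.range (x * y) = LinearMap.range x ⊓ LinearMap.ker y :=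
    Submodule.eq_of_le_of_finrank_le hA (by omega)
  have eB : LinearMap.range (y * x) = LinearMap.range y ⊓ LinearMap.ker x :=
    Submodule.eq_of_le_of_finrank_le hB (by omega)
  have eW : LinearMap.range w = LinearMap.range (x * y) ⊔ LinearMap.range (y * x) :=
    Submodule.eq_of_le_of_finrank_le hW (by omega)
  have hint : LinearMap.range (x * y) ⊓ LinearMap.range (y * x) = ⊥ :=
    Submodule.finrank_eq_zero.mp (by omega)
  have hq : Qd G w := ⟨hwsq, hw, hfam, fun b p q r => by
    have := hx.min b p q r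
    unfold rk at this ⊢
    omega⟩
  refine ⟨hq, by rw [eW, eA, eB], ?_, by rw [← eA, ← eB, hint], eA, eB⟩
  have kk : ∀ x y : EndM, x * x = 0 → y * y = 0 → x * y * x = 0 →
      LinearMap.range (y * x) = LinearMap.range y ⊓ LinearMap.ker x →
      LinearMap.ker (x * y) = LinearMap.range x ⊔ LinearMap.ker y := by
    intro x y hx hy hxyx eB
    refine le_antisymm (fun m hm => ?_) (sup_le ?_ ?_)
    · obtain ⟨n, hn⟩ : y m ∈ LinearMap.range (y * x) := eB ▸ ⟨⟨m, rfl⟩, hm⟩
      rw [← add_sub_cancel (x n) m]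
      refine Submodule.add_mem_sup ⟨n, rfl⟩ ?_
      show y (m - x n) = 0
      rw [map_sub, ← hn, Module.End.mul_apply, sub_self]
    · rintro _ ⟨m, rfl⟩
      exact LinearMap.congr_fun hxyx m
    · intro m hm
      show x (y m) = 0
      rw [show y m = 0 from hm, map_zero]
  rw [← kk x y hx.sq hy.sq hxyx eB, ← kk y x hy.sq hx.sq hyxy eA]
  ext m
  constructor
  · intro hm
    have e : (x * y) m = (y * x) m := by
      have := LinearMap.mem_ker.mp hm
      rw [ew, LinearMap.sub_apply, sub_eq_zero] at this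
      exact this
    have h0 : (x * y) m = 0 :=
      (Submodule.eq_bot_iff _).mp hint _ ⟨⟨m, rfl⟩, e ▸ ⟨m, rfl⟩⟩
    exact ⟨h0, LinearMap.mem_ker.mpr (e.symm.trans h0)⟩
  · rintro ⟨p, q⟩
    rw [LinearMap.mem_ker, ew, LinearMap.sub_apply, show (x * y) m = 0 from p,
      show (y * x) m = 0 from q, sub_zero]

/-- A non-zero bracket of two classes: every bracket of non-zero members is non-zero, in one class. -/
theorem bracket_cls {x y a b : EndM} (hx : Qd G x) (hy : Qd G y) (h : ¬ Opp x y)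
    (hw : x * y - y * x ≠ 0) (ha : a ∈ cls G x) (hb : b ∈ cls G y) :
    a * b - b * a ∈ cls G (x * y - y * x) ∧ (a * b - b * a = 0 → a = 0 ∨ b = 0) := by
  have hxyx := cls_aba h2 h3 h (self_mem_cls hx) (self_mem_cls hy)
  have hyxy := cls_aba h2 h3 (fun e => h e.symm) (self_mem_cls hy) (self_mem_cls hx)
  obtain ⟨-, hr, hk, hint, eA, eB⟩ := bracket_data hx hy hxyx hyxy hw
  by_cases ha0 : a = 0
  · simp [ha0]
  by_cases hb0 : b = 0
  · simp [hb0]
  obtain ⟨hqa, hka, hra⟩ := cls_qd ha ha0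
  obtain ⟨hqb, hkb, hrb⟩ := cls_qd hb hb0
  have haba := cls_aba h2 h3 h ha hb
  have hbab := cls_aba h2 h3 (fun e => h e.symm) hb ha
  have hne : a * b - b * a ≠ 0 := by
    intro e
    rw [sub_eq_zero] at e
    have h1 : a * b = 0 := by
      ext m
      refine (Submodule.eq_bot_iff _).mp hint _ ⟨?_, ?_⟩
      · rw [← hra, ← hkb]
        exact ⟨⟨b m, rfl⟩, by
          show b ((a * b) m) = 0
          rw [← Module.End.mul_apply, ← mul_assoc, hbab]; rfl⟩
      · rw [← hrb, ← hka, e]
        exact ⟨⟨a m, rfl⟩, by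
          show a ((b * a) m) = 0
          rw [← Module.End.mul_apply, ← mul_assoc, haba]; rfl⟩
    have h2' : b * a = 0 := e ▸ h1
    rw [mul_eq_zero_iff, hrb, hka] at h1
    rw [mul_eq_zero_iff, hra, hkb] at h2'
    rw [inf_eq_left.mpr h2', inf_eq_left.mpr h1] at hint
    apply hw
    have z1 : x * y = 0 := mul_eq_zero_iff.mpr h1
    have z2 : y * x = 0 := mul_eq_zero_iff.mpr h2'
    rw [z1, z2, sub_zero]
  obtain ⟨hq, hr', hk', -, -, -⟩ := bracket_data hqa hqb haba hbab hne
  exact ⟨Or.inr ⟨hq, by rw [hk', hk, hka, hkb, hra, hrb], by rw [hr', hr, hka, hkb, hra, hrb]⟩,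
    fun e => absurd e hne⟩

end CfsgLib.Perm.Quad.PairNil
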