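import Mathlib
import Cfsg.Agent.Lib.Perm.Quad.PairNil

/-! The three relations between classes of minimal quadratic elements of a quadratic pair. -/

namespace CfsgLib.Perm.Quad.Bracket

open Cfsg CfsgLib.Perm.Quad.Ends CfsgLib.Perm.Quad.Opposite CfsgLib.Perm.Quad.PairNil

variable {k : Type*} [Field k] {M : Type*} [AddCommGroup M] [Module k M] [FiniteDimensional k M]
  {G : Subgroup (LinearMap.GeneralLinearGroup k M)}

local notation "GLk" => LinearMap.GeneralLinearGroup k M
local notation "EndM" => Module.End k M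

omit [FiniteDimensional k M] in
theorem opp_cj {g : GLk} {a b : EndM} : Opp (cj g a) (cj g b) ↔ Opp a b := by
  have hinj : Function.Injective (g : EndM) := ((Module.End.isUnit_iff _).mp g.isUnit).injective
  have key : ∀ a b : EndM, LinearMap.range (cj g a) ⊓ LinearMap.ker (cj g b) =
      (LinearMap.range a ⊓ LinearMap.ker b).map (g : EndM) := by
    intro a b
    have e : LinearMap.ker (cj g b) = (LinearMap.ker b).map (g : EndM) := by
      rw [ker_cj]
      ext m
      constructor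
      · intro hm
        exact ⟨_, hm, by rw [← Module.End.mul_apply]; simp⟩
      · rintro ⟨n, hn, rfl⟩
        show ((g⁻¹ : GLk) : EndM) ((g : EndM) n) ∈ LinearMap.ker b
        rw [← Module.End.mul_apply]
        simpa using hn
    rw [range_cj, e, Submodule.map_inf (g : EndM) hinj]
  rw [Opp, Opp, key, key]
  have h0 : ∀ S : Submodule k M, S.map (g : EndM) = ⊥ ↔ S = ⊥ := fun S => by
    exact (Submodule.map_injective_of_injective hinj).eq_iff' (Submodule.map_bot _)
  rw [h0, h0]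

theorem cls_eq_of_root_eq {x y : EndM} (h : root G x = root G y) : cls G x = cls G y := by
  ext a
  by_cases ha : a * a = 0
  · have : ∀ u : EndM, a ∈ cls G u ↔ unit1 a ha ∈ root G u := fun u => by
      rw [mem_root, unit1_val, add_sub_cancel_left]
    rw [this, this, h]
  · exact ⟨fun h' => absurd (cls_mul_zero h' h') ha, fun h' => absurd (cls_mul_zero h' h') ha⟩

/-- No non-trivial normal subgroup acts unipotently. -/
def Clean (G : Subgroup (LinearMap.GeneralLinearGroup k M)) : Prop :=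
  ∀ L : Subgroup (LinearMap.GeneralLinearGroup k M), L ≤ G → IsUnipotentOn L →
    (∀ g ∈ G, conjBy L g = L) → L = ⊥

theorem clean_of_pair (hG : IsQuadraticPair G) : Clean G := by
  intro L _ hu hn
  obtain ⟨⟨m0, hm0⟩, hirr⟩ := hG.1
  have hbt : (⊥ : Submodule k M) ≠ ⊤ := fun e => hm0 (by
    have : m0 ∈ (⊥ : Submodule k M) := e ▸ Submodule.mem_top
    exact (Submodule.mem_bot k).mp this)
  obtain ⟨m, hm, hfix⟩ := Unipotent.exists_fixed hu hbt
  have memF : ∀ {v}, v ∈ fixedSubmodule L ↔ ∀ g ∈ L, (g : EndM) v - v = 0 := by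
    intro v; simp [fixedSubmodule, sub_eq_zero]
  have hinv : ∀ g ∈ G, ∀ v ∈ fixedSubmodule L, (g : EndM) v ∈ fixedSubmodule L := by
    intro g hg v hv
    rw [memF] at hv ⊢
    intro u hu
    have hu' : g⁻¹ * u * g ∈ L := RankOne.mem_conjBy.mp ((hn g hg).symm ▸ hu)
    have := congrArg (g : EndM) (hv _ hu')
    rw [map_sub, map_zero, ← Module.End.mul_apply, ← Units.val_mul, ← mul_assoc, ← mul_assoc,
      mul_inv_cancel, one_mul, Units.val_mul, Module.End.mul_apply] at this
    exact this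
  rcases hirr _ hinv with hb | ht
  · exact absurd (hb ▸ memF.mpr fun g hg => (Submodule.mem_bot k).mp (hfix g hg)) hm
  · rw [Subgroup.eq_bot_iff_forall]
    intro u hu
    refine Units.ext (LinearMap.ext fun v => ?_)
    exact sub_eq_zero.mp (memF.mp (ht ▸ Submodule.mem_top : v ∈ fixedSubmodule L) u hu)

variable (h2 : (2 : k) ≠ 0) (h3 : Nat.card k ≠ 3)
include h2 h3

theorem exists_opp (hG : Clean G) {w : EndM} (hw : Qd G w) : ∃ ξ, Qd G ξ ∧ Opp w ξ := by
  by_contra! hno
  set W : Set (Subgroup GLk) := {A | ∃ g ∈ G, A = root G (cj g w)}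
  have hpair : ∀ A ∈ W, ∀ B ∈ W, IsUnipotentOn (A ⊔ B) := by
    rintro _ ⟨g, hg, rfl⟩ _ ⟨g', hg', rfl⟩
    refine cls_unipotent h2 h3 fun ho => hno (cj (g⁻¹ * g') w) (hw.cj (mul_mem (inv_mem hg) hg')) ?_
    rw [show cj g' w = cj g (cj (g⁻¹ * g') w) by simp [cj_apply, mul_assoc], opp_cj] at ho
    exact ho
  have hconj : ∀ A ∈ W, ∀ g ∈ G, conjBy A g ∈ W := by
    rintro _ ⟨g', hg', rfl⟩ g hg
    refine ⟨g * g', mul_mem hg hg', ?_⟩
    rw [conjBy_root hg]
    congr 1
  have hWG : ∀ A ∈ W, A ≤ G := by rintro _ ⟨g, -, rfl⟩; exact root_le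
  have hu := Unipotent.isUnipotentOn_iSup hpair
    (fun A hA B hB a ha => hconj B hB a (hWG A hA ha))
  have h1 : ∀ g ∈ G, conjBy (⨆ A ∈ W, A) g ≤ ⨆ A ∈ W, A := by
    intro g hg
    simp only [conjBy, Subgroup.map_iSup]
    exact iSup₂_le fun A hA => le_iSup₂_of_le (conjBy A g) (hconj A hA g hg) le_rfl
  have hbot := hG _ (iSup₂_le hWG) hu fun g hg => le_antisymm (h1 g hg) (by
    have := RankOne.conjBy_mono (h1 g⁻¹ (inv_mem hg)) g
    rwa [RankOne.conjBy_conjBy_inv] at this)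
  exact root_ne_bot hw (eq_bot_iff.mpr
    (hbot ▸ le_iSup₂_of_le (root G w) ⟨1, one_mem G, by simp [cj_apply]⟩ le_rfl))

/-- Classes with a common opposite are conjugate. -/
theorem conj_of_common {a b ξ : EndM} (ha : Qd G a) (hb : Qd G b) (hξ : Qd G ξ)
    (hoa : Opp a ξ) (hob : Opp b ξ) : ∃ g ∈ G, conjBy (root G a) g = root G b := by
  have step : ∀ {a c : EndM}, Qd G a → Qd G c → Opp a c → ∃ g ∈ G, conjBy (root G a) g = root G c := by
    intro a c ha hc ho
    obtain ⟨c', hc', h0, hf⟩ := exists_inv h2 h3 ha hc ho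
    obtain ⟨n, en, hn⟩ := hf.exists_swap
    obtain ⟨u, hu, eu⟩ := ha.mem
    obtain ⟨v, hv, ev⟩ := (cls_qd hc' h0).1.neg.mem
    have hnG : n ∈ G := by
      rw [hn u v eu (ev.trans (sub_eq_add_neg _ _).symm)]
      exact mul_mem (mul_mem hu hv) hu
    exact ⟨n, hnG, by rw [conjBy_swap hf ha (cls_qd hc' h0).1 hnG en, root_eq_of_mem hc' h0]⟩
  obtain ⟨g, hg, eg⟩ := step ha hξ hoa
  obtain ⟨g', hg', eg'⟩ := step hξ hb hob.symm
  exact ⟨g' * g, mul_mem hg' hg, by rw [RankOne.conjBy_mul, eg, eg']⟩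

/-- The bracket class is conjugate to the classes it comes from. -/
theorem conj_bracket (hG : Clean G) {x y : EndM} (hx : Qd G x) (hy : Qd G y)
    (h : ¬ Opp x y) (hw : x * y - y * x ≠ 0) :
    ∃ g ∈ G, conjBy (root G x) g = root G (x * y - y * x) := by
  have hxyx := cls_aba h2 h3 h (self_mem_cls hx) (self_mem_cls hy)
  have hyxy := cls_aba h2 h3 (fun e => h e.symm) (self_mem_cls hy) (self_mem_cls hx)
  obtain ⟨hqw, -⟩ := bracket_data hx hy hxyx hyxy hw
  obtain ⟨ξ, hξ, hwξ⟩ := exists_opp h2 h3 hG hqw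
  by_cases hxξ : Opp x ξ
  · exact conj_of_common h2 h3 hx hqw hξ hxξ hwξ
  obtain ⟨v, hv, ev⟩ := hy.mem
  have e : cj v x = x - (x * y - y * x) := by
    rw [cj_apply, inv_val hy.sq ev, ev]
    simp only [add_mul, mul_sub, one_mul, mul_one, hyxy]
    abel
  by_cases hx'ξ : Opp (cj v x) ξ
  · obtain ⟨g, hg, eg⟩ := conj_of_common h2 h3 (hx.cj hv) hqw hξ hx'ξ hwξ
    exact ⟨g * v, mul_mem hg hv, by rw [RankOne.conjBy_mul, conjBy_root hv, eg]⟩
  exfalso
  have e1 := cls_aba h2 h3 (fun e => hxξ e.symm) (self_mem_cls hξ) (self_mem_cls hx)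
  have e2 := cls_aba h2 h3 (fun e => hx'ξ e.symm) (self_mem_cls hξ) (self_mem_cls (hx.cj hv))
  rw [e, mul_sub, sub_mul, e1, zero_sub, neg_eq_zero] at e2
  refine hξ.ne (LinearMap.ext fun m => ?_)
  have h1 : (x * y - y * x) (ξ m) = 0 :=
    (Submodule.eq_bot_iff _).mp hwξ.1 _ ⟨⟨ξ m, rfl⟩, by
      show ξ ((x * y - y * x) (ξ m)) = 0
      rw [← Module.End.mul_apply, ← Module.End.mul_apply, e2]; rfl⟩
  exact (Submodule.eq_bot_iff _).mp hwξ.2 _ ⟨⟨m, rfl⟩, h1⟩

theorem bracket_surj (hG : Clean G) {x y a v : EndM} (hx : Qd G x) (hy : Qd G y)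
    (h : ¬ Opp x y) (hw : x * y - y * x ≠ 0) (ha : a ∈ cls G x) (ha0 : a ≠ 0)
    (hv : v ∈ cls G (x * y - y * x)) : ∃ b ∈ cls G y, a * b - b * a = v := by
  have hdim : ∀ x y : EndM, Qd G x → Qd G y → ¬ Opp x y → x * y - y * x ≠ 0 →
      Module.finrank k (cls G (x * y - y * x)) = Module.finrank k (cls G x) := by
    intro x y hx hy h hw
    obtain ⟨g, hg, e⟩ := conj_bracket h2 h3 hG hx hy h hw
    rw [conjBy_root hg] at e
    rw [← finrank_cls_cj hg x, cls_eq_of_root_eq e]
  have hneg : cls G (y * x - x * y) = cls G (x * y - y * x) := by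
    rw [← neg_sub (x * y)]
    obtain ⟨hq, -⟩ := bracket_data hx hy (cls_aba h2 h3 h (self_mem_cls hx) (self_mem_cls hy))
      (cls_aba h2 h3 (fun e => h e.symm) (self_mem_cls hy) (self_mem_cls hx)) hw
    exact cls_eq (neg_mem (self_mem_cls hq)) (neg_ne_zero.mpr hw)
  have e1 : Module.finrank k (cls G y) = Module.finrank k (cls G (x * y - y * x)) := by
    rw [← hneg]
    exact (hdim y x hy hx (fun e => h e.symm) (by rw [← neg_sub]; exact neg_ne_zero.mpr hw)).symm
  let φ : cls G y →ₗ[k] cls G (x * y - y * x) :=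
    { toFun := fun b => ⟨a * b.1 - b.1 * a, (bracket_cls h2 h3 hx hy h hw ha b.2).1⟩
      map_add' := fun b b' => Subtype.ext (by
        show a * (b.1 + b'.1) - (b.1 + b'.1) * a = _ - _ + (_ - _)
        rw [mul_add, add_mul]; abel)
      map_smul' := fun c b => Subtype.ext (by
        show a * (c • b.1) - (c • b.1) * a = c • (a * b.1 - b.1 * a)
        rw [mul_smul_comm, smul_mul_assoc, smul_sub]) }
  have hinj : Function.Injective φ := by
    rw [injective_iff_map_eq_zero]
    intro b hb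
    exact Subtype.ext (((bracket_cls h2 h3 hx hy h hw ha b.2).2 (congrArg Subtype.val hb)).resolve_left ha0)
  obtain ⟨b, hb⟩ := (LinearMap.injective_iff_surjective_of_finrank_eq_finrank e1).mp hinj ⟨v, hv⟩
  exact ⟨b.1, b.2, congrArg Subtype.val hb⟩

theorem bracket_surj' (hG : Clean G) {x y b v : EndM} (hx : Qd G x) (hy : Qd G y)
    (h : ¬ Opp x y) (hw : x * y - y * x ≠ 0) (hb : b ∈ cls G y) (hb0 : b ≠ 0)
    (hv : v ∈ cls G (x * y - y * x)) : ∃ a ∈ cls G x, a * b - b * a = v := by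
  obtain ⟨hq, -⟩ := bracket_data hx hy (cls_aba h2 h3 h (self_mem_cls hx) (self_mem_cls hy))
    (cls_aba h2 h3 (fun e => h e.symm) (self_mem_cls hy) (self_mem_cls hx)) hw
  have hv' : -v ∈ cls G (y * x - x * y) := by
    rw [← neg_sub (x * y), cls_eq (neg_mem (self_mem_cls hq)) (neg_ne_zero.mpr hw)]
    exact neg_mem hv
  obtain ⟨a, ha, e⟩ := bracket_surj h2 h3 hG hy hx (fun e => h e.symm)
    (by rw [← neg_sub]; exact neg_ne_zero.mpr hw) hb hb0 hv'
  exact ⟨a, ha, by rw [← neg_sub, e, neg_neg]⟩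

omit h3 in
theorem group_comm {a b : EndM} (ha : a * a = 0) (hb : b * b = 0) (haba : a * b * a = 0)
    (hbab : b * a * b = 0) {u v : GLk} (eu : (u : EndM) = 1 + a) (ev : (v : EndM) = 1 + b) :
    ((u * v * u⁻¹ * v⁻¹ : GLk) : EndM) = 1 + (a * b - b * a) := by
  rw [Units.val_mul, Units.val_mul, Units.val_mul, inv_val ha eu, inv_val hb ev, eu, ev]
  have := comm_first ha hb (1 : k) 1
  simp only [one_smul, one_mul] at this
  rw [this, haba, hbab, zero_mul]
  abel

theorem commute_case {x y : EndM} (hx : Qd G x) (hy : Qd G y) (h : ¬ Opp x y)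
    (hw : x * y - y * x = 0) {a b : EndM} (ha : a ∈ cls G x) (hb : b ∈ cls G y) : a * b = b * a := by
  by_contra hne
  have ha0 : a ≠ 0 := fun e => hne (by rw [e, zero_mul, mul_zero])
  have hb0 : b ≠ 0 := fun e => hne (by rw [e, zero_mul, mul_zero])
  have h' : ¬ Opp a b := by rwa [opp_of_cls ha ha0 hb hb0]
  have := (bracket_cls h2 h3 (cls_qd ha ha0).1 (cls_qd hb hb0).1 h' (sub_ne_zero.mpr hne)
    (a := x) (b := y) (by rw [cls_eq ha ha0]; exact self_mem_cls hx)
    (by rw [cls_eq hb hb0]; exact self_mem_cls hy)).2 hw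
  exact this.elim hx.ne hy.ne

theorem comm_bot {x y : EndM} (hx : Qd G x) (hy : Qd G y) (h : ¬ Opp x y)
    (hw : x * y - y * x = 0) : ⁅root G x, root G y⁆ = ⊥ := by
  rw [eq_bot_iff, Subgroup.commutator_le]
  intro u hu v hv
  rw [Subgroup.mem_bot, commutatorElement_eq_one_iff_mul_comm]
  refine Units.ext ?_
  have e := commute_case h2 h3 hx hy h hw (mem_root.mp hu) (mem_root.mp hv)
  simp only [mul_sub, sub_mul, mul_one, one_mul] at e
  rw [Units.val_mul, Units.val_mul]
  linear_combination (norm := abel) e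

/-- The commutator of two classes in the third case. -/
theorem commutator_eq (hG : Clean G) {x y : EndM} (hx : Qd G x) (hy : Qd G y)
    (h : ¬ Opp x y) (hw : x * y - y * x ≠ 0) :
    Qd G (x * y - y * x) ∧ ⁅root G x, root G y⁆ = root G (x * y - y * x) ∧
    (∀ u ∈ root G x, u ≠ 1 → Subgroup.closure ((fun v : GLk => u * v * u⁻¹ * v⁻¹) '' (root G y : Set GLk)) =
      root G (x * y - y * x)) ∧
    (∀ v ∈ root G y, v ≠ 1 → Subgroup.closure ((fun u : GLk => u * v * u⁻¹ * v⁻¹) '' (root G x : Set GLk)) =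
      root G (x * y - y * x)) := by
  obtain ⟨hq, -⟩ := bracket_data hx hy (cls_aba h2 h3 h (self_mem_cls hx) (self_mem_cls hy))
    (cls_aba h2 h3 (fun e => h e.symm) (self_mem_cls hy) (self_mem_cls hx)) hw
  have hmem : ∀ u ∈ root G x, ∀ v ∈ root G y,
      ((u * v * u⁻¹ * v⁻¹ : GLk) : EndM) - 1 =
        ((u : EndM) - 1) * ((v : EndM) - 1) - ((v : EndM) - 1) * ((u : EndM) - 1) ∧
      u * v * u⁻¹ * v⁻¹ ∈ root G (x * y - y * x) := by
    intro u hu v hv
    have e := group_comm h2 (cls_mul_zero hu hu) (cls_mul_zero hv hv)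
      (cls_aba h2 h3 h hu hv) (cls_aba h2 h3 (fun e => h e.symm) hv hu)
      (u := u) (v := v) (by abel) (by abel)
    refine ⟨by rw [e]; abel, ?_⟩
    exact mem_root_of_eq ((bracket_cls h2 h3 hx hy h hw hu hv).1) e
  have h1 : ∀ u ∈ root G x, u ≠ 1 →
      root G (x * y - y * x) ≤ Subgroup.closure ((fun v : GLk => u * v * u⁻¹ * v⁻¹) '' (root G y : Set GLk)) := by
    intro u hu hu1 t ht
    have ha0 : (u : EndM) - 1 ≠ 0 := fun e => hu1 (Units.ext (sub_eq_zero.mp e))
    obtain ⟨b, hb, e⟩ := bracket_surj h2 h3 hG hx hy h hw (mem_root.mp hu) ha0 (mem_root.mp ht)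
    obtain ⟨v, hv, ev⟩ := exists_mem_root hb
    refine Subgroup.subset_closure ⟨v, hv, Units.ext ?_⟩
    have := (hmem u hu v hv).1
    rw [ev, add_sub_cancel_left, e] at this
    exact sub_left_injective this
  have h1' : ∀ v ∈ root G y, v ≠ 1 →
      root G (x * y - y * x) ≤ Subgroup.closure ((fun u : GLk => u * v * u⁻¹ * v⁻¹) '' (root G x : Set GLk)) := by
    intro v hv hv1 t ht
    have hb0 : (v : EndM) - 1 ≠ 0 := fun e => hv1 (Units.ext (sub_eq_zero.mp e))
    obtain ⟨a, ha, e⟩ := bracket_surj' h2 h3 hG hx hy h hw (mem_root.mp hv) hb0 (mem_root.mp ht)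
    obtain ⟨u, hu, eu⟩ := exists_mem_root ha
    refine Subgroup.subset_closure ⟨u, hu, Units.ext ?_⟩
    have := (hmem u hu v hv).1
    rw [eu, add_sub_cancel_left, e] at this
    exact sub_left_injective this
  refine ⟨hq, le_antisymm ?_ ?_, fun u hu hu1 => le_antisymm ?_ (h1 u hu hu1),
    fun v hv hv1 => le_antisymm ?_ (h1' v hv hv1)⟩
  · rw [Subgroup.commutator_le]
    intro u hu v hv
    rw [commutatorElement_def]
    exact (hmem u hu v hv).2
  · obtain ⟨u, hu, eu⟩ := exists_mem_root (self_mem_cls hx)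
    have hu1 : u ≠ 1 := fun e => hx.ne (by rw [e] at eu; simpa using eu)
    refine (h1 u hu hu1).trans ((Subgroup.closure_le _).mpr ?_)
    rintro _ ⟨v, hv, rfl⟩
    show u * v * u⁻¹ * v⁻¹ ∈ _
    rw [← commutatorElement_def]
    exact Subgroup.commutator_mem_commutator hu hv
  · rw [Subgroup.closure_le]
    rintro _ ⟨v, hv, rfl⟩
    exact (hmem u hu v hv).2
  · rw [Subgroup.closure_le]
    rintro _ ⟨u, hu, rfl⟩
    exact (hmem u hu v hv).2

theorem central {x y : EndM} (hx : Qd G x) (hy : Qd G y) (h : ¬ Opp x y)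
    (hw : x * y - y * x ≠ 0) :
    ∀ c ∈ root G (x * y - y * x), ∀ t ∈ root G x ⊔ root G y, c * t = t * c := by
  have hxyx := cls_aba h2 h3 h (self_mem_cls hx) (self_mem_cls hy)
  have hyxy := cls_aba h2 h3 (fun e => h e.symm) (self_mem_cls hy) (self_mem_cls hx)
  obtain ⟨-, hr, hk, -⟩ := bracket_data hx hy hxyx hyxy hw
  intro c hc t ht
  obtain ⟨v, ev⟩ : ∃ v, v = (c : EndM) - 1 := ⟨_, rfl⟩
  rcases eq_or_ne v 0 with h0 | h0
  · rw [show c = 1 from Units.ext (sub_eq_zero.mp (ev ▸ h0)), one_mul, mul_one]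
  obtain ⟨-, hkv, hrv⟩ := cls_qd (show v ∈ cls G (x * y - y * x) from ev ▸ hc) h0
  have hcen : ∀ a : EndM, a ∈ cls G x ∨ a ∈ cls G y → v * a = a * v := by
    intro a ha
    rcases eq_or_ne a 0 with rfl | ha0
    · rw [mul_zero, zero_mul]
    rcases ha with ha | ha
    · obtain ⟨hqa, hka, hra⟩ := cls_qd ha ha0
      rw [show v * a = 0 from mul_eq_zero_iff.mpr (by
          rw [hkv, hk, hra]
          exact le_inf le_sup_left (le_sup_of_le_right (range_le_ker hx.sq))),
        show a * v = 0 from mul_eq_zero_iff.mpr (by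
          rw [hrv, hr, hka]
          exact sup_le (inf_le_left.trans (range_le_ker hx.sq)) inf_le_right)]
    · obtain ⟨hqa, hka, hra⟩ := cls_qd ha ha0
      rw [show v * a = 0 from mul_eq_zero_iff.mpr (by
          rw [hkv, hk, hra]
          exact le_inf (le_sup_of_le_right (range_le_ker hy.sq)) le_sup_left),
        show a * v = 0 from mul_eq_zero_iff.mpr (by
          rw [hrv, hr, hka]
          exact sup_le inf_le_right (inf_le_left.trans (range_le_ker hy.sq)))]
  have hle : root G x ⊔ root G y ≤ Subgroup.centralizer ({c} : Set GLk) := by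
    have key : ∀ s : GLk, ((s : EndM) - 1 ∈ cls G x ∨ (s : EndM) - 1 ∈ cls G y) →
        s ∈ Subgroup.centralizer ({c} : Set GLk) := by
      intro s hs
      rw [Subgroup.mem_centralizer_iff]
      rintro _ rfl
      refine Units.ext ?_
      have e := hcen _ hs
      rw [ev] at e
      simp only [mul_sub, sub_mul, mul_one, one_mul] at e
      rw [Units.val_mul, Units.val_mul]
      linear_combination (norm := abel) e
    exact sup_le (fun s hs => key s (Or.inl hs)) (fun s hs => key s (Or.inr hs))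
  exact Subgroup.mem_centralizer_iff.mp (hle ht) c rfl

end CfsgLib.Perm.Quad.Bracket
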