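import Mathlib
import Cfsg.Prelude.Def_RootSubgroups

/-! Viewing a family of subgroups inside a subgroup containing it. -/

namespace CfsgLib.Perm.Quad.Transfer

open Cfsg

variable {H : Type*} [Group H] {K : Subgroup H}

theorem map_subgroupOf {A : Subgroup H} (h : A ≤ K) : (A.subgroupOf K).map K.subtype = A :=
  Subgroup.map_subgroupOf_eq_of_le h

theorem conjBy_subgroupOf {A : Subgroup H} (h : A ≤ K) (g : K) :
    conjBy (A.subgroupOf K) g = (conjBy A (g : H)).subgroupOf K := by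
  ext t
  constructor
  · rintro ⟨a, ha, rfl⟩
    exact ⟨(a : H), ha, by simp⟩
  · rintro ⟨a, ha, e⟩
    exact ⟨⟨a, h ha⟩, ha, Subtype.ext (by simpa using e)⟩

theorem pair_subgroupOf {A B : Subgroup H} (hA : A ≤ K) (hB : B ≤ K) (h : IsRankOnePair A B) :
    IsRankOnePair (A.subgroupOf K) (B.subgroupOf K) := by
  haveI := h.nilpotent_left
  haveI := h.nilpotent_right
  have cond : ∀ {A B : Subgroup H}, A ≤ K → B ≤ K → RankOneCondition A B →
      RankOneCondition (A.subgroupOf K) (B.subgroupOf K) := by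
    intro A B hA hB hc a ha ha1
    obtain ⟨b, hb, hb1, e⟩ := hc a ha (fun e => ha1 (Subtype.ext e))
    refine ⟨⟨b, hB hb⟩, hb, fun e => hb1 (congrArg Subtype.val e), ?_⟩
    rw [conjBy_subgroupOf hA, conjBy_subgroupOf hB]
    simp only [Subgroup.coe_inv, e]
  refine ⟨fun e => h.ne ?_, ?_, ?_, cond hA hB h.cond_left, cond hB hA h.cond_right⟩
  · rw [← map_subgroupOf hA, ← map_subgroupOf hB, e]
  · exact Group.nilpotent_of_mulEquiv (Subgroup.subgroupOfEquivOfLe hA).symm
  · exact Group.nilpotent_of_mulEquiv (Subgroup.subgroupOfEquivOfLe hB).symm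

theorem comm_subgroupOf {A B : Subgroup H} (hA : A ≤ K) (hB : B ≤ K) :
    ⁅A.subgroupOf K, B.subgroupOf K⁆ = ⁅A, B⁆.subgroupOf K := by
  have e := Subgroup.map_commutator (A.subgroupOf K) (B.subgroupOf K) K.subtype
  rw [map_subgroupOf hA, map_subgroupOf hB] at e
  apply Subgroup.map_injective K.subtype_injective
  rw [e, map_subgroupOf ((Subgroup.commutator_mono hA hB).trans (Subgroup.commutator_le_self K))]

theorem commCase_subgroupOf {S : Set (Subgroup H)} {A B : Subgroup H} (hA : A ≤ K) (hB : B ≤ K)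
    (h : RootCommutatorCase S A B) :
    RootCommutatorCase ((fun A => A.subgroupOf K) '' S) (A.subgroupOf K) (B.subgroupOf K) := by
  obtain ⟨h1, h2, h3, h4⟩ := h
  rw [RootCommutatorCase, comm_subgroupOf hA hB]
  refine ⟨⟨_, h1, rfl⟩, fun c hc t ht => Subtype.ext (h2 c hc t ?_), fun a ha ha1 => ?_, fun b hb hb1 => ?_⟩
  · have := Subgroup.mem_map_of_mem K.subtype ht
    rwa [Subgroup.map_sup, map_subgroupOf hA, map_subgroupOf hB] at this
  · rw [← h3 a ha (fun e => ha1 (Subtype.ext e))]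
    apply Subgroup.map_injective K.subtype_injective
    rw [MonoidHom.map_closure, ← Set.image_comp, map_subgroupOf]
    · congr 1
      ext t
      constructor
      · rintro ⟨b, hb, rfl⟩; exact ⟨b, hb, rfl⟩
      · rintro ⟨b, hb, rfl⟩; exact ⟨⟨b, hB hb⟩, hb, rfl⟩
    · rw [h3 a ha (fun e => ha1 (Subtype.ext e))]
      exact (Subgroup.commutator_mono hA hB).trans (Subgroup.commutator_le_self K)
  · rw [← h4 b hb (fun e => hb1 (Subtype.ext e))]
    apply Subgroup.map_injective K.subtype_injective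
    rw [MonoidHom.map_closure, ← Set.image_comp, map_subgroupOf]
    · congr 1
      ext t
      constructor
      · rintro ⟨a, ha, rfl⟩; exact ⟨a, ha, rfl⟩
      · rintro ⟨a, ha, rfl⟩; exact ⟨⟨a, hA ha⟩, ha, rfl⟩
    · rw [h4 b hb (fun e => hb1 (Subtype.ext e))]
      exact (Subgroup.commutator_mono hA hB).trans (Subgroup.commutator_le_self K)

/-- A closed family with the three relations is a root subgroup set of the group it generates. -/
theorem isRootSubgroupSet_image {S : Set (Subgroup H)} (hcomm : ∀ A ∈ S, IsMulCommutative A)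
    (hne : ∀ A ∈ S, A ≠ ⊥)
    (hconj : ∀ A ∈ S, ∀ g ∈ (⨆ B ∈ S, B : Subgroup H), conjBy A g ∈ S)
    (hpair : ∀ A ∈ S, ∀ B ∈ S, ⁅A, B⁆ = ⊥ ∨ IsRankOnePair A B ∨ RootCommutatorCase S A B) :
    IsRootSubgroupSet ((fun A : Subgroup H => A.subgroupOf (⨆ B ∈ S, B)) '' S) := by
  obtain ⟨K, hK⟩ : ∃ K, K = (⨆ B ∈ S, B : Subgroup H) := ⟨_, rfl⟩
  rw [← hK] at hconj ⊢
  have hle : ∀ A ∈ S, A ≤ K := fun A hA => hK ▸ le_iSup₂_of_le A hA le_rfl
  refine ⟨?_, ?_, ?_, ?_, ?_⟩
  · rintro _ ⟨A, hA, rfl⟩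
    haveI := hcomm A hA
    refine ⟨⟨fun a b => Subtype.ext (Subtype.ext ?_)⟩⟩
    have h : a.1.1 * b.1.1 = b.1.1 * a.1.1 :=
      congrArg Subtype.val (mul_comm' (⟨a.1.1, a.2⟩ : A) ⟨b.1.1, b.2⟩)
    exact h
  · rintro _ ⟨A, hA, rfl⟩ e
    apply hne A hA
    rw [← map_subgroupOf (hle A hA), show A.subgroupOf K = ⊥ from e, Subgroup.map_bot]
  · apply Subgroup.map_injective K.subtype_injective
    rw [Subgroup.map_iSup, ← MonoidHom.range_eq_map, Subgroup.range_subtype]
    refine le_antisymm (iSup_le fun A => ?_) ?_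
    · rw [Subgroup.map_iSup]
      refine iSup_le fun hA => ?_
      obtain ⟨B, hB, rfl⟩ := hA
      rw [map_subgroupOf (hle B hB)]
      exact hle B hB
    · nth_rewrite 1 [hK]
      refine iSup₂_le fun A hA => le_iSup_of_le (A.subgroupOf K) ?_
      rw [Subgroup.map_iSup]
      exact le_iSup_of_le ⟨A, hA, rfl⟩ (map_subgroupOf (hle A hA)).ge
  · rintro _ ⟨A, hA, rfl⟩ g
    exact ⟨conjBy A (g : H), hconj A hA g g.2, (conjBy_subgroupOf (hle A hA) g).symm⟩
  · rintro _ ⟨A, hA, rfl⟩ _ ⟨B, hB, rfl⟩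
    rcases hpair A hA B hB with h | h | h
    · left
      rw [comm_subgroupOf (hle A hA) (hle B hB), h, Subgroup.bot_subgroupOf]
    · exact Or.inr (Or.inl (pair_subgroupOf (hle A hA) (hle B hB) h))
    · exact Or.inr (Or.inr (commCase_subgroupOf (hle A hA) (hle B hB) h))

end CfsgLib.Perm.Quad.Transfer
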