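import Mathlib
import Cfsg.Agent.Lib.Perm.Quad.Bracket
import Cfsg.Agent.Lib.Perm.Quad.Transfer

/-! The classes of minimal quadratic elements form a set of abstract root subgroups. -/

namespace CfsgLib.Perm.Quad.RootSystem

open Cfsg CfsgLib.Perm.Quad.Ends CfsgLib.Perm.Quad.Opposite CfsgLib.Perm.Quad.PairNil
  CfsgLib.Perm.Quad.Bracket

variable {k : Type*} [Field k] {M : Type*} [AddCommGroup M] [Module k M] [FiniteDimensional k M]
  {G : Subgroup (LinearMap.GeneralLinearGroup k M)}

local notation "GLk" => LinearMap.GeneralLinearGroup k M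
local notation "EndM" => Module.End k M

theorem comm_root (x : EndM) {u v : GLk} (hu : u ∈ root G x) (hv : v ∈ root G x) : u * v = v * u := by
  have e1 := cls_mul_zero (mem_root.mp hu) (mem_root.mp hv)
  have e2 := cls_mul_zero (mem_root.mp hv) (mem_root.mp hu)
  simp only [mul_sub, sub_mul, mul_one, one_mul] at e1 e2
  refine Units.ext ?_
  rw [Units.val_mul, Units.val_mul]
  linear_combination (norm := abel) e1 - e2

theorem fixed_root {w : EndM} (hw : Qd G w) : fixedSubmodule (root G w) = LinearMap.ker w := by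
  apply le_antisymm
  · intro m hm
    obtain ⟨u, hu, eu⟩ := exists_mem_root (self_mem_cls hw)
    simp only [fixedSubmodule, Submodule.mem_iInf] at hm
    have := hm u hu
    rwa [eu, add_sub_cancel_left] at this
  · intro m hm
    simp only [fixedSubmodule, Submodule.mem_iInf]
    intro u hu
    rcases mem_cls.mp (mem_root.mp hu) with h | ⟨-, hk, -⟩
    · simp [h]
    · rw [hk]; exact hm

theorem commutator_root {w : EndM} (hw : Qd G w) : commutatorSubmodule (root G w) = LinearMap.range w := by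
  apply le_antisymm
  · refine iSup₂_le fun u hu => ?_
    rcases mem_cls.mp (mem_root.mp hu) with h | ⟨-, -, hr⟩
    · simp [h]
    · exact hr.le
  · obtain ⟨u, hu, eu⟩ := exists_mem_root (self_mem_cls hw)
    have := le_iSup₂ (f := fun (g : GLk) (_ : g ∈ root G w) => LinearMap.range ((g : EndM) - 1)) u hu
    rwa [eu, add_sub_cancel_left] at this

variable (h2 : (2 : k) ≠ 0) (h3 : Nat.card k ≠ 3)
include h2 h3

theorem core {x y : EndM} (hx : Qd G x) (hy : Qd G y) (h : ¬ Opp x y) (hw : x * y - y * x ≠ 0) :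
    ∀ g ∈ root G x ⊔ root G y, g ∈ quadraticUnipotentCore G (root G (x * y - y * x)) := by
  obtain ⟨hq, hr, hk, -⟩ := bracket_data hx hy (cls_aba h2 h3 h (self_mem_cls hx) (self_mem_cls hy))
    (cls_aba h2 h3 (fun e => h e.symm) (self_mem_cls hy) (self_mem_cls hx)) hw
  have hcen := central h2 h3 hx hy h hw
  obtain ⟨F, hF⟩ : ∃ F, F = fixedSubmodule (root G (x * y - y * x)) := ⟨_, rfl⟩
  obtain ⟨R, hR⟩ : ∃ R, R = commutatorSubmodule (root G (x * y - y * x)) := ⟨_, rfl⟩
  have eF : F = (LinearMap.range x ⊔ LinearMap.ker y) ⊓ (LinearMap.range y ⊔ LinearMap.ker x) := by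
    rw [hF, fixed_root hq, hk]
  have eR : R = (LinearMap.range x ⊓ LinearMap.ker y) ⊔ (LinearMap.range y ⊓ LinearMap.ker x) := by
    rw [hR, commutator_root hq, hr]
  let P : GLk → Prop := fun g => (∀ m, (g : EndM) m - m ∈ F) ∧ (∀ m ∈ F, (g : EndM) m - m ∈ R) ∧
    ∀ m ∈ R, (g : EndM) m = m
  have hRF : R ≤ F := by
    rw [eR, eF]
    exact sup_le (le_inf (inf_le_left.trans le_sup_left)
        (le_sup_of_le_right (inf_le_left.trans (range_le_ker hx.sq))))
      (le_inf (le_sup_of_le_right (inf_le_left.trans (range_le_ker hy.sq))) (inf_le_left.trans le_sup_left))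
  have gen : ∀ g : GLk, ((g : EndM) - 1 ∈ cls G x ∨ (g : EndM) - 1 ∈ cls G y) → P g := by
    intro g hg
    obtain ⟨a, ea⟩ : ∃ a, a = (g : EndM) - 1 := ⟨_, rfl⟩
    have eg : ∀ m, (g : EndM) m = m + a m := fun m => by rw [ea]; simp
    rw [← ea] at hg
    rcases eq_or_ne a 0 with h0 | h0
    · refine ⟨fun m => ?_, fun m _ => ?_, fun m _ => ?_⟩ <;> simp [eg, h0]
    suffices ha : (∀ m, a m ∈ F) ∧ (∀ m ∈ F, a m ∈ R) ∧ ∀ m ∈ R, a m = 0 by
      refine ⟨fun m => ?_, fun m hm => ?_, fun m hm => ?_⟩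
      · rw [eg, add_sub_cancel_left]; exact ha.1 m
      · rw [eg, add_sub_cancel_left]; exact ha.2.1 m hm
      · rw [eg, ha.2.2 m hm, add_zero]
    have side : ∀ x y : EndM, Qd G x → Qd G y → ¬ Opp x y →
        F ≤ LinearMap.range y ⊔ LinearMap.ker x → LinearMap.range x ≤ F →
        R ≤ LinearMap.ker x → LinearMap.range x ⊓ LinearMap.ker y ≤ R → a ∈ cls G x →
        (∀ m, a m ∈ F) ∧ (∀ m ∈ F, a m ∈ R) ∧ ∀ m ∈ R, a m = 0 := by
      intro x y hx hy h q1 q2 q3 q4 ha
      obtain ⟨-, hka, hra⟩ := cls_qd ha h0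
      refine ⟨fun m => q2 (hra ▸ ⟨m, rfl⟩), fun m hm => ?_, fun m hm => ?_⟩
      · obtain ⟨u, ⟨u', hu⟩, v, hv, rfl⟩ := Submodule.mem_sup.mp (q1 hm)
        have hv0 : a v = 0 := LinearMap.mem_ker.mp (hka.symm ▸ hv)
        rw [map_add, hv0, add_zero]
        refine q4 ⟨hra ▸ ⟨u, rfl⟩, ?_⟩
        show y (a u) = 0
        have := LinearMap.congr_fun (cls_aba h2 h3 (fun e => h e.symm) (self_mem_cls hy) ha) u'
        rw [← hu]
        exact this
      · exact LinearMap.mem_ker.mp (hka.symm ▸ q3 hm)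
    rcases hg with hg | hg
    · refine side x y hx hy h (eF.le.trans inf_le_right) ?_ ?_ ?_ hg
      · rw [eF]; exact le_inf le_sup_left (le_sup_of_le_right (range_le_ker hx.sq))
      · rw [eR]; exact sup_le (inf_le_left.trans (range_le_ker hx.sq)) inf_le_right
      · rw [eR]; exact le_sup_left
    · refine side y x hy hx (fun e => h e.symm) (eF.le.trans inf_le_left) ?_ ?_ ?_ hg
      · rw [eF]; exact le_inf (le_sup_of_le_right (range_le_ker hy.sq)) le_sup_left
      · rw [eR]; exact sup_le inf_le_right (inf_le_left.trans (range_le_ker hy.sq))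
      · rw [eR]; exact le_sup_right
  have hP : ∀ g ∈ root G x ⊔ root G y, P g := by
    intro g hg
    rw [← Subgroup.closure_eq (root G x), ← Subgroup.closure_eq (root G y), ← Subgroup.closure_union] at hg
    induction hg using Subgroup.closure_induction'' with
    | mem g hg => exact gen g hg
    | inv_mem g hg => exact gen _ (hg.imp (fun h => (root G x).inv_mem h) (fun h => (root G y).inv_mem h))
    | one => exact ⟨fun m => by simp, fun m _ => by simp, fun m _ => rfl⟩
    | mul g g' _ _ hg hg' =>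
      obtain ⟨a1, a2, a3⟩ := hg
      obtain ⟨b1, b2, b3⟩ := hg'
      have e : ∀ m, ((g * g' : GLk) : EndM) m - m =
          ((g : EndM) ((g' : EndM) m) - (g' : EndM) m) + ((g' : EndM) m - m) := fun m => by simp
      refine ⟨fun m => ?_, fun m hm => ?_, fun m hm => ?_⟩
      · rw [e]; exact add_mem (a1 _) (b1 m)
      · rw [e]
        refine add_mem (a2 _ ?_) (b2 m hm)
        simpa using add_mem (hRF (b2 m hm)) hm
      · rw [Units.val_mul, Module.End.mul_apply, b3 m hm, a3 m hm]
  intro g hg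
  obtain ⟨p1, p2, p3⟩ := hP g hg
  refine ⟨(sup_le root_le root_le : root G x ⊔ root G y ≤ G) hg, ?_, hF ▸ p1,
    fun m hm => hR ▸ p2 m (hF ▸ hm), fun m hm => p3 m (hR ▸ hm)⟩
  rw [Subgroup.mem_normalizer_iff]
  intro c
  constructor
  · intro hc
    rw [← hcen c hc g hg, mul_inv_cancel_right]
    exact hc
  · intro hc
    have := hcen _ hc g hg
    rw [inv_mul_cancel_right] at this
    rw [show c = g * c * g⁻¹ from mul_left_cancel this]
    exact hc

theorem class_two {x y : EndM} (hG : Clean G) (hx : Qd G x) (hy : Qd G y) (h : ¬ Opp x y)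
    (hw : x * y - y * x ≠ 0) :
    ⁅root G x ⊔ root G y, root G x ⊔ root G y⁆ ≠ ⊥ ∧
    ⁅⁅root G x ⊔ root G y, root G x ⊔ root G y⁆, root G x ⊔ root G y⁆ = ⊥ := by
  obtain ⟨hq, e, -⟩ := commutator_eq h2 h3 hG hx hy h hw
  obtain ⟨X, hX⟩ : ∃ X, X = root G x ⊔ root G y := ⟨_, rfl⟩
  rw [← hX]
  have hcen : ∀ c ∈ root G (x * y - y * x), ∀ t ∈ X, c * t = t * c :=
    hX ▸ central h2 h3 hx hy h hw
  have hsub : root G (x * y - y * x) ≤ X := by
    rw [← e, hX]
    exact (Subgroup.commutator_mono le_sup_left le_sup_right).trans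
      (Subgroup.commutator_le_self _)
  refine ⟨fun hb => root_ne_bot hq ?_, ?_⟩
  · rw [← e, eq_bot_iff, ← hb]
    exact Subgroup.commutator_mono (hX ▸ le_sup_left) (hX ▸ le_sup_right)
  -- commutators of the generators are central
  obtain ⟨L, hL⟩ : ∃ L, L = root G (x * y - y * x) := ⟨_, rfl⟩
  rw [← hL] at hcen hsub e
  have step : ∀ t : GLk, t ∈ X → (∀ s, (s ∈ root G x ∨ s ∈ root G y) → s * t * s⁻¹ * t⁻¹ ∈ L) →
      ∀ s ∈ X, s * t * s⁻¹ * t⁻¹ ∈ L := by
    intro t ht hgen s hs
    rw [hX, ← Subgroup.closure_eq (root G x), ← Subgroup.closure_eq (root G y),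
      ← Subgroup.closure_union] at hs
    induction hs using Subgroup.closure_induction'' with
    | mem s hs => exact hgen s hs
    | inv_mem s hs => exact hgen _ (hs.imp (fun h => (root G x).inv_mem h) (fun h => (root G y).inv_mem h))
    | one => simp
    | mul s s' hs hs' ih ih' =>
      have hsX : s ∈ X := by
        rw [hX, ← Subgroup.closure_eq (root G x), ← Subgroup.closure_eq (root G y),
          ← Subgroup.closure_union]
        exact hs
      rw [show s * s' * t * (s * s')⁻¹ * t⁻¹ = s * (s' * t * s'⁻¹ * t⁻¹) * s⁻¹ * (s * t * s⁻¹ * t⁻¹) by group,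
        ← hcen _ ih' s hsX, mul_inv_cancel_right]
      exact mul_mem ih' ih
  have hle : ⁅X, X⁆ ≤ L := by
    rw [Subgroup.commutator_le]
    intro s hs t ht
    rw [commutatorElement_def]
    refine step t ht (fun s hs => ?_) s hs
    have hsX : s ∈ X := hX ▸ hs.elim (fun h => Subgroup.mem_sup_left h) (fun h => Subgroup.mem_sup_right h)
    rw [show s * t * s⁻¹ * t⁻¹ = (t * s * t⁻¹ * s⁻¹)⁻¹ by group]
    refine inv_mem (step s hsX (fun u hu => ?_) t ht)
    rcases hu with hu | hu <;> rcases hs with hs | hs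
    · rw [comm_root x hu hs, mul_inv_cancel_right, mul_inv_cancel]; exact one_mem _
    · rw [← e, ← commutatorElement_def]; exact Subgroup.commutator_mem_commutator hu hs
    · rw [← e, ← commutatorElement_def, Subgroup.commutator_comm]
      exact Subgroup.commutator_mem_commutator hu hs
    · rw [comm_root y hu hs, mul_inv_cancel_right, mul_inv_cancel]; exact one_mem _
  rw [eq_bot_iff, Subgroup.commutator_le]
  intro c hc t ht
  rw [Subgroup.mem_bot, commutatorElement_eq_one_iff_mul_comm]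
  exact hcen c (hle hc) t ht

theorem rootCommutatorCase (hG : Clean G) {x y : EndM} (hx : Qd G x) (hy : Qd G y)
    (h : ¬ Opp x y) (hw : x * y - y * x ≠ 0) :
    RootCommutatorCase (quadraticRootSubgroups G) (root G x) (root G y) := by
  obtain ⟨hq, e, e1, e2⟩ := commutator_eq h2 h3 hG hx hy h hw
  refine ⟨mem_rootSubgroups.mpr ⟨_, hq, e⟩, ?_, ?_, ?_⟩
  · rw [e]; exact central h2 h3 hx hy h hw
  · rw [e]; exact e1
  · rw [e]; exact e2

theorem trichotomy (hG : Clean G) {A B : Subgroup GLk} (hA : A ∈ quadraticRootSubgroups G)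
    (hB : B ∈ quadraticRootSubgroups G) :
    ⁅A, B⁆ = ⊥ ∨ IsRankOnePair A B ∨ RootCommutatorCase (quadraticRootSubgroups G) A B := by
  obtain ⟨x, hx, rfl⟩ := mem_rootSubgroups.mp hA
  obtain ⟨y, hy, rfl⟩ := mem_rootSubgroups.mp hB
  by_cases h : Opp x y
  · exact Or.inr (Or.inl (isRankOnePair h2 h3 hx hy h))
  by_cases hw : x * y - y * x = 0
  · exact Or.inl (comm_bot h2 h3 hx hy h hw)
  · exact Or.inr (Or.inr (rootCommutatorCase h2 h3 hG hx hy h hw))

theorem not_isolated (hG : Clean G) {A : Subgroup GLk} (hA : A ∈ quadraticRootSubgroups G) :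
    ∃ B ∈ quadraticRootSubgroups G, IsRankOnePair A B := by
  obtain ⟨x, hx, rfl⟩ := mem_rootSubgroups.mp hA
  obtain ⟨ξ, hξ, ho⟩ := exists_opp h2 h3 hG hx
  exact ⟨_, mem_rootSubgroups.mpr ⟨ξ, hξ, rfl⟩, isRankOnePair h2 h3 hx hξ ho⟩

theorem opp_of_pair {x y : EndM} (hx : Qd G x) (hy : Qd G y)
    (h : IsRankOnePair (root G x) (root G y)) : Opp x y := by
  by_contra hno
  obtain ⟨u, hu, eu⟩ := exists_mem_root (self_mem_cls hx)
  by_cases hw : x * y - y * x = 0
  · have hu1 : u ≠ 1 := fun e => hx.ne (by rw [e] at eu; simpa using eu)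
    refine hu1 (RankOne.eq_one_of_normalizes h hu (RankOne.conjBy_of_comm fun v hv => ?_))
    have e := commute_case h2 h3 hx hy hno hw (mem_root.mp hu) (mem_root.mp hv)
    simp only [mul_sub, sub_mul, mul_one, one_mul] at e
    refine Units.ext ?_
    rw [Units.val_mul, Units.val_mul]
    linear_combination (norm := abel) e
  · -- the bracket class normalises both, hence is trivial
    have hu1 : u ≠ 1 := fun e => hx.ne (by rw [e] at eu; simpa using eu)
    obtain ⟨v, hv, hv1, hc⟩ := h.cond_left u hu hu1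
    obtain ⟨hq, hr, hk, -, eA, eB⟩ := bracket_data hx hy
      (cls_aba h2 h3 hno (self_mem_cls hx) (self_mem_cls hy))
      (cls_aba h2 h3 (fun e => hno e.symm) (self_mem_cls hy) (self_mem_cls hx)) hw
    -- conjugation of one class lands on ranges it cannot reach
    rw [conjBy_root (inv_mem (root_le hv)), conjBy_root (inv_mem (root_le hu))] at hc
    have hcls := cls_eq_of_root_eq hc
    obtain ⟨b, hb⟩ : ∃ b, b = (v : EndM) - 1 := ⟨_, rfl⟩
    have hbc : b ∈ cls G y := hb ▸ mem_root.mp hv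
    have ev : (v : EndM) = 1 + b := by rw [hb]; abel
    have hxin : cj v⁻¹ x ∈ cls G (cj u⁻¹ y) := by
      rw [← hcls]; exact self_mem_cls (hx.cj (inv_mem (root_le hv)))
    have hyq := hy.cj (inv_mem (root_le hu))
    obtain ⟨-, -, hr'⟩ := cls_qd hxin (hx.cj (inv_mem (root_le hv))).ne
    rw [range_cj, range_cj, inv_val (cls_mul_zero hbc hbc) ev, inv_val hx.sq eu] at hr'
    -- equality of the two images forces the ranges to coincide
    have key : LinearMap.range x ≤ LinearMap.ker y := by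
      rintro _ ⟨m, rfl⟩
      obtain ⟨_, ⟨n, rfl⟩, hn⟩ : (1 - b) (x m) ∈ (LinearMap.range y).map (1 - x) := hr' ▸ ⟨x m, ⟨m, rfl⟩, rfl⟩
      have e1 := congrArg y hn
      simp only [LinearMap.sub_apply, Module.End.one_apply, map_sub] at e1
      rw [show y (y n) = 0 from LinearMap.congr_fun hy.sq n] at e1
      have e2 : y (b (x m)) = 0 :=
        LinearMap.congr_fun (cls_mul_zero (self_mem_cls hy) hbc) (x m)
      have e3 : y (x (y n)) = 0 := LinearMap.congr_fun
        (cls_aba h2 h3 (fun e => hno e.symm) (self_mem_cls hy) (self_mem_cls hx)) n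
      rw [e2, e3, sub_zero, sub_zero] at e1
      exact e1.symm
    have key' : LinearMap.range y ≤ LinearMap.ker x := by
      rintro _ ⟨n, rfl⟩
      obtain ⟨_, ⟨m, rfl⟩, hm⟩ : (1 - x) (y n) ∈ (LinearMap.range x).map (1 - b) := hr'.symm ▸ ⟨y n, ⟨n, rfl⟩, rfl⟩
      have e1 := congrArg x hm
      simp only [LinearMap.sub_apply, Module.End.one_apply, map_sub] at e1
      rw [show x (x m) = 0 from LinearMap.congr_fun hx.sq m] at e1
      have e2 : x (b (x m)) = 0 :=
        LinearMap.congr_fun (cls_aba h2 h3 hno (self_mem_cls hx) hbc) m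
      have e3 : x (x (y n)) = 0 := LinearMap.congr_fun hx.sq (y n)
      rw [e2, e3, sub_zero, sub_zero] at e1
      exact e1.symm
    exact hw (by rw [mul_eq_zero_iff.mpr key', mul_eq_zero_iff.mpr key, sub_zero])

theorem conj_mem {A : Subgroup GLk} (hA : A ∈ quadraticRootSubgroups G) {g : GLk} (hg : g ∈ G) :
    conjBy A g ∈ quadraticRootSubgroups G := by
  obtain ⟨x, hx, rfl⟩ := mem_rootSubgroups.mp hA
  exact mem_rootSubgroups.mpr ⟨_, hx.cj hg, conjBy_root hg x⟩

omit h2 h3 in
theorem iSup_le_group : (⨆ A ∈ quadraticRootSubgroups G, A : Subgroup GLk) ≤ G :=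
  iSup₂_le fun A hA => by obtain ⟨x, -, rfl⟩ := mem_rootSubgroups.mp hA; exact root_le

theorem isRootSubgroupSet (hG : Clean G) : IsRootSubgroupSet
    ((fun A : Subgroup GLk => A.subgroupOf (⨆ B ∈ quadraticRootSubgroups G, B)) ''
      quadraticRootSubgroups G) :=
  Transfer.isRootSubgroupSet_image
    (fun A hA => by
      obtain ⟨x, -, rfl⟩ := mem_rootSubgroups.mp hA
      exact ⟨⟨fun a b => Subtype.ext (comm_root x a.2 b.2)⟩⟩)
    (fun A hA => by obtain ⟨x, hx, rfl⟩ := mem_rootSubgroups.mp hA; exact root_ne_bot hx)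
    (fun A hA g hg => conj_mem h2 h3 hA (iSup_le_group hg))
    (fun A hA B hB => trichotomy h2 h3 hG hA hB)

end CfsgLib.Perm.Quad.RootSystem
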