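import Mathlib
import Cfsg.Prelude.Def_CaseTheorems
import Cfsg.Agent.Lib.Perm.Quad.RootSystem

/-! The connected components of the classes of minimal quadratic elements. -/

namespace CfsgLib.Perm.Quad.Components

open Cfsg CfsgLib.Perm.Quad.Ends CfsgLib.Perm.Quad.Opposite CfsgLib.Perm.Quad.PairNil
  CfsgLib.Perm.Quad.Bracket CfsgLib.Perm.Quad.RootSystem

variable {k : Type*} [Field k] {M : Type*} [AddCommGroup M] [Module k M] [FiniteDimensional k M]
  {G : Subgroup (LinearMap.GeneralLinearGroup k M)}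

local notation "GLk" => LinearMap.GeneralLinearGroup k M
local notation "EndM" => Module.End k M

/-- Linked by a chain of rank one pairs. -/
def Linked (G : Subgroup (LinearMap.GeneralLinearGroup k M))
    (A B : Subgroup (LinearMap.GeneralLinearGroup k M)) : Prop :=
  Relation.ReflTransGen (FAdj (quadraticRootSubgroups G)) A B

/-- The component of a class. -/
def comp (G : Subgroup (LinearMap.GeneralLinearGroup k M))
    (A : Subgroup (LinearMap.GeneralLinearGroup k M)) : Set (Subgroup (LinearMap.GeneralLinearGroup k M)) :=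
  componentOf (FAdj (quadraticRootSubgroups G)) (quadraticRootSubgroups G) A

omit [FiniteDimensional k M] in
theorem Linked.symm {A B : Subgroup GLk} (h : Linked G A B) : Linked G B A :=
  haveI : Std.Symm (FAdj (quadraticRootSubgroups G)) :=
    ⟨fun _ _ h => ⟨h.2.1, h.1, RankOnePair_symm h.2.2⟩⟩
  Std.Symm.symm (r := Relation.ReflTransGen (FAdj (quadraticRootSubgroups G))) _ _ h

omit [FiniteDimensional k M] in
theorem comp_eq {A B : Subgroup GLk} (h : Linked G A B) : comp G B = comp G A := by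
  ext C
  exact ⟨fun hC => ⟨hC.1, h.trans hC.2⟩, fun hC => ⟨hC.1, h.symm.trans hC.2⟩⟩

variable (h2 : (2 : k) ≠ 0) (h3 : Nat.card k ≠ 3)
include h2 h3

theorem linked_of_common {x z ξ : EndM} (hx : Qd G x) (hz : Qd G z) (hξ : Qd G ξ) (h1 : Opp x ξ)
    (h1' : Opp z ξ) : Linked G (root G x) (root G z) :=
  (Relation.ReflTransGen.single ⟨mem_rootSubgroups.mpr ⟨x, hx, rfl⟩, mem_rootSubgroups.mpr ⟨ξ, hξ, rfl⟩,
    isRankOnePair h2 h3 hx hξ h1⟩).trans
    (Relation.ReflTransGen.single ⟨mem_rootSubgroups.mpr ⟨ξ, hξ, rfl⟩, mem_rootSubgroups.mpr ⟨z, hz, rfl⟩,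
      isRankOnePair h2 h3 hξ hz h1'.symm⟩)

omit [FiniteDimensional k M] h2 h3 in
theorem triple_ne_zero {x ξ : EndM} (hξ : Qd G ξ) (h : Opp x ξ) : ξ * x * ξ ≠ 0 := by
  intro e
  refine hξ.ne (LinearMap.ext fun m => ?_)
  have h1 : x (ξ m) = 0 :=
    (Submodule.eq_bot_iff _).mp h.1 _ ⟨⟨ξ m, rfl⟩, LinearMap.congr_fun e m⟩
  exact (Submodule.eq_bot_iff _).mp h.2 _ ⟨⟨m, rfl⟩, h1⟩

theorem linked_bracket (hG : Clean G) {x y : EndM} (hx : Qd G x) (hy : Qd G y)
    (h : ¬ Opp x y) (hw : x * y - y * x ≠ 0) :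
    Linked G (root G x) (root G (x * y - y * x)) := by
  obtain ⟨hq, -⟩ := bracket_data hx hy (cls_aba h2 h3 h (self_mem_cls hx) (self_mem_cls hy))
    (cls_aba h2 h3 (fun e => h e.symm) (self_mem_cls hy) (self_mem_cls hx)) hw
  obtain ⟨v, hv, ev⟩ := hy.mem
  have e : cj v x = x - (x * y - y * x) := by
    rw [cj_apply, inv_val hy.sq ev, ev]
    simp only [add_mul, mul_sub, one_mul, mul_one,
      cls_aba h2 h3 (fun e => h e.symm) (self_mem_cls hy) (self_mem_cls hx)]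
    abel
  have hx' := hx.cj hv
  obtain ⟨ξ, hξ, hwξ⟩ := exists_opp h2 h3 hG hq
  obtain ⟨η, hη, hxη⟩ := exists_opp h2 h3 hG hx
  -- an element opposite to one of the three is opposite to a second one
  have two : ∀ ξ : EndM, Qd G ξ → (Opp (x * y - y * x) ξ → Opp x ξ ∨ Opp (cj v x) ξ) ∧
      (Opp x ξ → Opp (cj v x) ξ ∨ Opp (x * y - y * x) ξ) := by
    intro ξ hξ
    have z : ∀ {u : EndM}, Qd G u → ¬ Opp u ξ → ξ * u * ξ = 0 := fun hu hn =>
      cls_aba h2 h3 (fun e => hn e.symm) (self_mem_cls hξ) (self_mem_cls hu)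
    constructor
    · intro ho
      by_contra hc
      push Not at hc
      have e2 := z hx' hc.2
      rw [e, mul_sub, sub_mul, z hx hc.1, zero_sub, neg_eq_zero] at e2
      exact triple_ne_zero hξ ho e2
    · intro ho
      by_contra hc
      push Not at hc
      have e2 := z hx' hc.1
      rw [e, mul_sub, sub_mul, z hq hc.2, sub_zero] at e2
      exact triple_ne_zero hξ ho e2
  rcases (two ξ hξ).1 hwξ with h1 | h1
  · exact linked_of_common h2 h3 hx hq hξ h1 hwξ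
  rcases (two η hη).2 hxη with h1' | h1'
  · exact (linked_of_common h2 h3 hx hx' hη hxη h1').trans (linked_of_common h2 h3 hx' hq hξ h1 hwξ)
  · exact linked_of_common h2 h3 hx hq hη hxη h1'

theorem linked_of_comm_ne (hG : Clean G) {A B : Subgroup GLk}
    (hA : A ∈ quadraticRootSubgroups G) (hB : B ∈ quadraticRootSubgroups G) (h : ⁅A, B⁆ ≠ ⊥) :
    Linked G A B := by
  obtain ⟨x, hx, rfl⟩ := mem_rootSubgroups.mp hA
  obtain ⟨y, hy, rfl⟩ := mem_rootSubgroups.mp hB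
  by_cases ho : Opp x y
  · exact Relation.ReflTransGen.single ⟨hA, hB, isRankOnePair h2 h3 hx hy ho⟩
  have hw : x * y - y * x ≠ 0 := fun hw => h (comm_bot h2 h3 hx hy ho hw)
  obtain ⟨hq, -⟩ := bracket_data hx hy (cls_aba h2 h3 ho (self_mem_cls hx) (self_mem_cls hy))
    (cls_aba h2 h3 (fun e => ho e.symm) (self_mem_cls hy) (self_mem_cls hx)) hw
  refine (linked_bracket h2 h3 hG hx hy ho hw).trans (Linked.symm ?_)
  have := linked_bracket h2 h3 hG hy hx (fun e => ho e.symm) (by rw [← neg_sub]; exact neg_ne_zero.mpr hw)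
  rwa [← neg_sub (x * y), root_eq_of_mem (neg_mem (self_mem_cls hq)) (neg_ne_zero.mpr hw)] at this

omit h2 h3 in
theorem mem_comp {A B : Subgroup GLk} : B ∈ comp G A ↔ B ∈ quadraticRootSubgroups G ∧ Linked G A B :=
  Iff.rfl

theorem linked_conj {g : GLk} (hg : g ∈ G) {A B : Subgroup GLk} (h : Linked G A B) :
    Linked G (conjBy A g) (conjBy B g) :=
  Relation.ReflTransGen.lift (r := FAdj (quadraticRootSubgroups G)) (p := FAdj (quadraticRootSubgroups G))
    (fun A => conjBy A g)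
    (fun _ _ h => ⟨conj_mem h2 h3 h.1 hg, conj_mem h2 h3 h.2.1 hg, RankOne.pair_conj h.2.2 g⟩) _ _ h

omit h2 h3 in
theorem grp_le {A : Subgroup GLk} : (⨆ B ∈ comp G A, B : Subgroup GLk) ≤ G :=
  (biSup_mono fun _ hB => hB.1).trans iSup_le_group

/-- The generators of a component permute it. -/
theorem comp_conj {A B : Subgroup GLk} {g : GLk}
    (hg : g ∈ (⨆ C ∈ comp G A, C : Subgroup GLk)) (hB : B ∈ comp G A) :
    conjBy B g ∈ comp G A := by
  have hgG := grp_le hg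
  refine ⟨conj_mem h2 h3 hB.1 hgG, ?_⟩
  suffices hst : Linked G A (conjBy A g) from hst.trans (linked_conj h2 h3 hgG hB.2)
  clear hgG hB
  induction hg using Subgroup.iSup_induction' with
  | hp C g hg =>
    by_cases hC : C ∈ comp G A
    · rw [iSup_pos hC] at hg
      have hgG : g ∈ G := grp_le ((le_iSup₂_of_le C hC le_rfl : C ≤ _) hg)
      have := (linked_conj h2 h3 hgG hC.2).symm
      rw [RankOne.conjBy_of_mem hg] at this
      exact hC.2.trans this
    · rw [iSup_neg hC, Subgroup.mem_bot] at hg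
      subst hg
      rw [RankOne.conjBy_one]
      exact Relation.ReflTransGen.refl
  | h1 => rw [RankOne.conjBy_one]; exact Relation.ReflTransGen.refl
  | hmul u v hu hv ihu ihv =>
    rw [RankOne.conjBy_mul]
    exact ihu.trans (linked_conj h2 h3 (grp_le hu) ihv)

theorem comp_commute (hG : Clean G) {A B : Subgroup GLk}
    (hne : comp G A ≠ comp G B) : ⁅(⨆ C ∈ comp G A, C : Subgroup GLk), ⨆ C ∈ comp G B, C⁆ = ⊥ := by
  rw [Subgroup.commutator_eq_bot_iff_le_centralizer]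
  refine iSup₂_le fun C hC => ?_
  rw [Subgroup.le_centralizer_iff]
  refine iSup₂_le fun D hD => ?_
  rw [Subgroup.le_centralizer_iff, ← Subgroup.commutator_eq_bot_iff_le_centralizer]
  by_contra h
  exact hne ((comp_eq (hC.2.trans ((linked_of_comm_ne h2 h3 hG hC.1 hD.1 h).trans (Linked.symm hD.2)))).symm)

theorem finite_components (hG : Clean G) :
    Set.Finite {S | ∃ A ∈ quadraticRootSubgroups G, S = comp G A} := by
  classical
  set 𝒞 := {S | ∃ A ∈ quadraticRootSubgroups G, S = comp G A}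
  have hrep : ∀ S : 𝒞, ∃ x : EndM, Qd G x ∧ comp G (root G x) = S.1 := fun ⟨S, A, hA, e⟩ => by
    obtain ⟨x, hx, rfl⟩ := mem_rootSubgroups.mp hA
    exact ⟨x, hx, e.symm⟩
  choose r hr hrc using hrep
  have hopp : ∀ S : 𝒞, ∃ ξ : EndM, Qd G ξ ∧ Opp (r S) ξ := fun S => exists_opp h2 h3 hG (hr S)
  choose ξ hξ hξo using hopp
  have hli : LinearIndependent k r := by
    rw [linearIndependent_iff']
    intro s c hsum i hi
    have key : ∀ j, j ≠ i → ξ i * r j * ξ i = 0 := fun j hj => by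
      refine cls_aba h2 h3 (fun ho => hj ?_) (self_mem_cls (hξ i)) (self_mem_cls (hr j))
      apply Subtype.ext
      rw [← hrc i, ← hrc j]
      exact (comp_eq ((Relation.ReflTransGen.single ⟨mem_rootSubgroups.mpr ⟨_, hr j, rfl⟩,
        mem_rootSubgroups.mpr ⟨_, hξ i, rfl⟩, isRankOnePair h2 h3 (hr j) (hξ i) ho.symm⟩).trans
        (Relation.ReflTransGen.single ⟨mem_rootSubgroups.mpr ⟨_, hξ i, rfl⟩,
          mem_rootSubgroups.mpr ⟨_, hr i, rfl⟩, isRankOnePair h2 h3 (hξ i) (hr i) (hξo i).symm⟩))).symm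
    have := congrArg (fun t => ξ i * t * ξ i) hsum
    simp only [Finset.mul_sum, Finset.sum_mul, mul_smul_comm, smul_mul_assoc, mul_zero, zero_mul] at this
    rw [Finset.sum_eq_single_of_mem i hi (fun j _ hj => by rw [key j hj, smul_zero]), smul_eq_zero] at this
    exact this.resolve_right (triple_ne_zero (hξ i) (hξo i))
  exact Set.finite_coe_iff.mp hli.finite

omit [FiniteDimensional k M] h2 h3 in
theorem isUnipotentOn_conj {L : Subgroup GLk} (h : IsUnipotentOn L) (g : GLk) :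
    IsUnipotentOn (conjBy L g) := by
  obtain ⟨n, hn⟩ := Unipotent.isUnipotentOn_iff.mp h
  refine Unipotent.isUnipotentOn_iff.mpr ⟨n, fun l hl hlen => ?_⟩
  have key : ∀ l : List GLk, (∀ u ∈ l, u ∈ conjBy L g) →
      (l.map fun u : GLk => (u : EndM) - 1).prod =
        cj g ((l.map fun u : GLk => g⁻¹ * u * g).map fun u : GLk => (u : EndM) - 1).prod := by
    intro l
    induction l with
    | nil => intro _; simp [cj_apply]
    | cons u l ih =>
      intro hl
      simp only [List.map_cons, List.prod_cons, ih (fun v hv => hl v (List.mem_cons_of_mem _ hv)), cj_mul]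
      congr 1
      simp [cj_apply, mul_sub, sub_mul, mul_assoc]
  rw [key l hl, hn _ (fun u hu => ?_) (by rwa [List.length_map]), map_zero]
  obtain ⟨v, hv, rfl⟩ := List.mem_map.mp hu
  exact RankOne.mem_conjBy.mp (hl v hv)

omit h2 h3 in
/-- Baer: the normal closure of a unipotent subgroup normalised by a normal subgroup containing it. -/
theorem unipotent_closure {L K T : Subgroup GLk} (hu : IsUnipotentOn L) (hLK : L ≤ K)
    (hKT : K ≤ T) (hLn : ∀ g ∈ K, conjBy L g = L) (hKn : ∀ g ∈ T, conjBy K g = K) :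
    ∃ L' : Subgroup GLk, IsUnipotentOn L' ∧ L ≤ L' ∧ L' ≤ K ∧ ∀ g ∈ T, conjBy L' g = L' := by
  set W : Set (Subgroup GLk) := {A | ∃ g ∈ T, A = conjBy L g}
  have hWK : ∀ A ∈ W, A ≤ K := by
    rintro _ ⟨g, hg, rfl⟩
    exact (RankOne.conjBy_mono hLK g).trans (hKn g hg).le
  have hnorm : ∀ A ∈ W, ∀ u ∈ K, conjBy A u = A := by
    rintro _ ⟨g, hg, rfl⟩ u hu
    have hu' : g⁻¹ * u * g ∈ K := RankOne.mem_conjBy.mp ((hKn g hg).symm ▸ hu)
    rw [← RankOne.conjBy_mul, show u * g = g * (g⁻¹ * u * g) by group, RankOne.conjBy_mul, hLn _ hu']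
  have hpair : ∀ A ∈ W, ∀ B ∈ W, IsUnipotentOn (A ⊔ B) := by
    intro A hA B hB
    have uA : ∀ A ∈ W, IsUnipotentOn A := by
      rintro _ ⟨g, -, rfl⟩; exact isUnipotentOn_conj hu g
    refine Unipotent.isUnipotentOn_sup (uA A hA) (uA B hB) fun b hb => ?_
    exact RankOne.conjBy_eq_iff_mem_normalizer.mp (hnorm A hA b (hWK B hB hb))
  refine ⟨⨆ A ∈ W, A, Unipotent.isUnipotentOn_iSup hpair
    (fun A hA B hB a ha => (hnorm B hB a (hWK A hA ha)).symm ▸ hB),
    le_iSup₂_of_le L ⟨1, one_mem T, (RankOne.conjBy_one L).symm⟩ le_rfl, iSup₂_le hWK, fun g hg => ?_⟩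
  have h1 : ∀ g ∈ T, conjBy (⨆ A ∈ W, A) g ≤ ⨆ A ∈ W, A := by
    intro g hg
    simp only [conjBy, Subgroup.map_iSup]
    refine iSup₂_le fun A hA => ?_
    obtain ⟨g', hg', rfl⟩ := hA
    exact le_iSup₂_of_le (conjBy (conjBy L g') g)
      ⟨g * g', mul_mem hg hg', (RankOne.conjBy_mul L g g').symm⟩ le_rfl
  refine le_antisymm (h1 g hg) ?_
  have := RankOne.conjBy_mono (h1 g⁻¹ (inv_mem hg)) g
  rwa [RankOne.conjBy_conjBy_inv] at this

omit h2 h3 in
theorem iSup_conj {T : Set (Subgroup GLk)} {g : GLk} (h : ∀ A ∈ T, conjBy A g ∈ T)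
    (h' : ∀ A ∈ T, conjBy A g⁻¹ ∈ T) : conjBy (⨆ A ∈ T, A) g = ⨆ A ∈ T, A := by
  have h1 : ∀ g : GLk, (∀ A ∈ T, conjBy A g ∈ T) → conjBy (⨆ A ∈ T, A) g ≤ ⨆ A ∈ T, A := by
    intro g h
    simp only [conjBy, Subgroup.map_iSup]
    exact iSup₂_le fun A hA => le_iSup₂_of_le (conjBy A g) (h A hA) le_rfl
  refine le_antisymm (h1 g h) ?_
  have := RankOne.conjBy_mono (h1 g⁻¹ h') g
  rwa [RankOne.conjBy_conjBy_inv] at this

omit h3 in
theorem G0_conj (h3 : Nat.card k ≠ 3) {g : GLk} (hg : g ∈ G) :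
    conjBy (⨆ A ∈ quadraticRootSubgroups G, A) g = ⨆ A ∈ quadraticRootSubgroups G, A :=
  iSup_conj (fun _ hA => conj_mem h2 h3 hA hg) (fun _ hA => conj_mem h2 h3 hA (inv_mem hg))

theorem perfect_mem {x : EndM} {A : Subgroup GLk} (hG : Clean G) (hx : Qd G x)
    (hA : root G x ∈ comp G A) {u : GLk} (hu : u ∈ root G x) :
    u ∈ ⁅(⨆ C ∈ comp G A, C : Subgroup GLk), (⨆ C ∈ comp G A, C : Subgroup GLk)⁆ := by
  obtain ⟨a, e⟩ : ∃ a, a = (u : EndM) - 1 := ⟨_, rfl⟩
  have ha : a ∈ cls G x := e ▸ hu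
  rcases eq_or_ne a 0 with h0 | h0
  · rw [show u = 1 from Units.ext (sub_eq_zero.mp (e ▸ h0))]; exact one_mem _
  obtain ⟨ξ, hξ, ho⟩ := exists_opp h2 h3 hG hx
  have hqa := (cls_qd ha h0).1
  obtain ⟨b, hb, hb0, hf⟩ := exists_inv h2 h3 hqa hξ ((opp_of_cls ha h0 (self_mem_cls hξ) hξ.ne).mpr ho)
  have hξA : root G ξ ∈ comp G A := ⟨mem_rootSubgroups.mpr ⟨ξ, hξ, rfl⟩, hA.2.trans
    (Relation.ReflTransGen.single ⟨hA.1, mem_rootSubgroups.mpr ⟨ξ, hξ, rfl⟩,
      isRankOnePair h2 h3 hx hξ ho⟩)⟩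
  have hall : (⊤ : Subgroup (SL2.SL k)).map hf.hom ≤ ⨆ C ∈ comp G A, C := by
    rw [← SL2Unipotent.sup_eq_top (k := k), Subgroup.map_sup, sup_le_iff]
    constructor
    · rintro _ ⟨g, hg, rfl⟩
      obtain ⟨c, rfl⟩ := SL2Unipotent.mem_lower.mp hg
      exact (le_iSup₂_of_le _ hξA le_rfl : root G ξ ≤ _)
        (mem_root_of_eq (Submodule.smul_mem _ c hb) (hf.hom_low c))
    · rintro _ ⟨g, hg, rfl⟩
      obtain ⟨c, rfl⟩ := SL2Unipotent.mem_upper.mp hg
      exact (le_iSup₂_of_le _ hA le_rfl : root G x ≤ _)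
        (mem_root_of_eq (Submodule.smul_mem _ c ha) (hf.hom_up c))
  obtain ⟨μ, hμ0, hμ⟩ := PairSplit.exists_tor h2 h3
  have hμ1 : μ ^ 2 - 1 ≠ 0 := sub_ne_zero.mpr hμ
  have hc : SL2.up (1 : k) ∈ ⁅(⊤ : Subgroup (SL2.SL k)), (⊤ : Subgroup (SL2.SL k))⁆ := by
    convert Subgroup.commutator_mem_commutator (Subgroup.mem_top (PairSplit.tor (Units.mk0 μ hμ0)))
      (Subgroup.mem_top (SL2.up (1 / (μ ^ 2 - 1)))) using 1
    rw [commutatorElement_def, PairSplit.tor_inv, SL2.up_inv]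
    apply SL2.ext2 <;> simp [PairSplit.tor_val, SL2.mul_apply2, SL2.up_val] <;> field_simp <;> ring
  have := Subgroup.mem_map_of_mem hf.hom hc
  rw [Subgroup.map_commutator] at this
  have hu' : u = hf.hom (SL2.up 1) := Units.ext (by rw [hf.hom_up, one_smul, e]; abel)
  exact hu' ▸ Subgroup.commutator_mono hall hall this

theorem comp_perfect (hG : Clean G) (A : Subgroup GLk) :
    ⁅(⨆ C ∈ comp G A, C : Subgroup GLk), (⨆ C ∈ comp G A, C : Subgroup GLk)⁆ = ⨆ C ∈ comp G A, C := by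
  refine le_antisymm (Subgroup.commutator_le_self _) (iSup₂_le fun C hC u hu => ?_)
  obtain ⟨x, hx, rfl⟩ := mem_rootSubgroups.mp hC.1
  exact perfect_mem h2 h3 hG hx hC hu

theorem conj_in_comp (hG : Clean G) {A B C : Subgroup GLk} (hB : B ∈ comp G A)
    (hC : C ∈ comp G A) : ∃ g ∈ (⨆ D ∈ comp G A, D : Subgroup GLk), conjBy B g = C := by
  have h : Linked G B C := (Linked.symm hB.2).trans hC.2
  clear hC
  induction h with
  | refl => exact ⟨1, one_mem _, RankOne.conjBy_one B⟩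
  | @tail D E hBD hadj ih =>
    obtain ⟨g, hg, eg⟩ := ih
    obtain ⟨x, hx, rfl⟩ := mem_rootSubgroups.mp hadj.1
    obtain ⟨y, hy, rfl⟩ := mem_rootSubgroups.mp hadj.2.1
    obtain ⟨u, hu, eu⟩ := exists_mem_root (self_mem_cls hx)
    have hu1 : u ≠ 1 := fun e => hx.ne (by rw [e] at eu; simpa using eu)
    obtain ⟨v, hv, -, e⟩ := hadj.2.2.cond_left u hu hu1
    have hD : root G x ∈ comp G A := ⟨hadj.1, hB.2.trans hBD⟩
    have hE : root G y ∈ comp G A := ⟨hadj.2.1, (hB.2.trans hBD).trans (Relation.ReflTransGen.single hadj)⟩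
    refine ⟨u * v⁻¹ * g, mul_mem (mul_mem ((le_iSup₂_of_le _ hD le_rfl : root G x ≤ _) hu)
      (inv_mem ((le_iSup₂_of_le _ hE le_rfl : root G y ≤ _) hv))) hg, ?_⟩
    rw [RankOne.conjBy_mul, eg, RankOne.conjBy_mul, e, RankOne.conjBy_conjBy_inv]

omit h2 h3 in
/-- A homomorphism with abelian image kills the commutator subgroup. -/
theorem commutator_le_of_congr {N X : Subgroup GLk} (hN : X ≤ Subgroup.normalizer (N : Set GLk))
    {S : Set GLk} (hS : X = Subgroup.closure S)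
    (hc : ∀ s ∈ S, ∀ t ∈ S, s * t * s⁻¹ * t⁻¹ ∈ N) : ⁅X, X⁆ ≤ N := by
  have conjN : ∀ g ∈ X, ∀ c ∈ N, g * c * g⁻¹ ∈ N := fun g hg c hc =>
    (Subgroup.mem_normalizer_iff.mp (hN hg) c).mp hc
  have step : ∀ t ∈ X, (∀ s ∈ S, s * t * s⁻¹ * t⁻¹ ∈ N) → ∀ s ∈ X, s * t * s⁻¹ * t⁻¹ ∈ N := by
    intro t ht hgen s hs
    rw [hS] at hs
    induction hs using Subgroup.closure_induction'' with
    | mem s hs => exact hgen s hs
    | inv_mem s hs =>
      have hsX : s ∈ X := hS ▸ Subgroup.subset_closure hs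
      rw [show s⁻¹ * t * s⁻¹⁻¹ * t⁻¹ = s⁻¹ * (s * t * s⁻¹ * t⁻¹)⁻¹ * s⁻¹⁻¹ by group]
      exact conjN _ (inv_mem hsX) _ (inv_mem (hgen s hs))
    | one => simp
    | mul s s' hs _ ih ih' =>
      rw [show s * s' * t * (s * s')⁻¹ * t⁻¹ = s * (s' * t * s'⁻¹ * t⁻¹) * s⁻¹ * (s * t * s⁻¹ * t⁻¹) by group]
      exact N.mul_mem (conjN _ (hS ▸ hs) _ ih') ih
  rw [Subgroup.commutator_le]
  intro s hs t ht
  rw [commutatorElement_def]
  refine step t ht (fun s hs => ?_) s hs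
  have hsX : s ∈ X := hS ▸ Subgroup.subset_closure hs
  rw [show s * t * s⁻¹ * t⁻¹ = (t * s * t⁻¹ * s⁻¹)⁻¹ by group]
  exact inv_mem (step s hsX (fun r hr => hc r hr s hs) t ht)

/-- A normal subgroup of a component group is central or everything. -/
theorem dichotomy (hG : Clean G) (A : Subgroup GLk) {N : Subgroup GLk}
    (hle : N ≤ ⨆ C ∈ comp G A, C)
    (hn : ∀ g ∈ (⨆ C ∈ comp G A, C : Subgroup GLk), conjBy N g = N) :
    (⨆ C ∈ comp G A, C) ≤ N ∨ ∀ n ∈ N, ∀ g ∈ (⨆ C ∈ comp G A, C : Subgroup GLk), n * g = g * n := by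
  obtain ⟨X, hX⟩ : ∃ X, X = (⨆ C ∈ comp G A, C : Subgroup GLk) := ⟨_, rfl⟩
  rw [← hX] at hle hn ⊢
  have hmem : ∀ {C}, C ∈ comp G A → C ≤ X := fun hC => hX ▸ le_iSup₂_of_le _ hC le_rfl
  have hnorm : X ≤ Subgroup.normalizer (N : Set GLk) := fun g hg =>
    RankOne.conjBy_eq_iff_mem_normalizer.mp (hn g hg)
  have conjN : ∀ g ∈ X, ∀ c ∈ N, g * c * g⁻¹ ∈ N := fun g hg c hc =>
    (Subgroup.mem_normalizer_iff.mp (hnorm hg) c).mp hc
  by_cases hcase : ∀ C ∈ comp G A, ∀ n ∈ N, ⁅C, conjBy C n⁆ = ⊥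
  · right
    suffices hC : ∀ C ∈ comp G A, ∀ n ∈ N, ∀ u ∈ C, n * u = u * n by
      intro n hn' g hg
      have : X ≤ Subgroup.centralizer ({n} : Set GLk) := by
        rw [hX]
        exact iSup₂_le fun C hC' u hu => Subgroup.mem_centralizer_iff.mpr fun _ h => h ▸ hC C hC' n hn' u hu
      exact Subgroup.mem_centralizer_iff.mp (this hg) n rfl
    intro C hC n hn' u hu
    set T : Set (Subgroup GLk) := {D | ∃ m ∈ N, D = conjBy C m}
    have hTc : ∀ D ∈ T, D ∈ comp G A := by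
      rintro _ ⟨m, hm, rfl⟩
      exact comp_conj h2 h3 (hX ▸ hle hm) hC
    have hTT : ∀ D ∈ T, ∀ E ∈ T, ⁅D, E⁆ = ⊥ := by
      rintro D hD _ ⟨m, hm, rfl⟩
      obtain ⟨l, hl, rfl⟩ := hD
      have := hcase _ (hTc _ ⟨l, hl, rfl⟩) (m * l⁻¹) (mul_mem hm (inv_mem hl))
      rwa [RankOne.conjBy_mul, RankOne.conjBy_inv_conjBy] at this
    have hpair : ∀ D ∈ T, ∀ E ∈ T, IsUnipotentOn (D ⊔ E) := by
      intro D hD E hE
      obtain ⟨x, hx, rfl⟩ := mem_rootSubgroups.mp (hTc D hD).1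
      obtain ⟨y, hy, rfl⟩ := mem_rootSubgroups.mp (hTc E hE).1
      refine cls_unipotent h2 h3 fun ho => ?_
      have hp := isRankOnePair h2 h3 hx hy ho
      obtain ⟨v, hv, hv1⟩ : ∃ v ∈ root G x, v ≠ 1 := by
        obtain ⟨v, hv, ev⟩ := exists_mem_root (self_mem_cls hx)
        exact ⟨v, hv, fun e => hx.ne (by rw [e] at ev; simpa using ev)⟩
      exact hv1 (RankOne.eq_one_of_normalizes hp hv (RankOne.conjBy_of_comm fun w hw =>
        commutatorElement_eq_one_iff_mul_comm.mp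
          (Subgroup.mem_bot.mp (hTT _ hD _ hE ▸ Subgroup.commutator_mem_commutator hv hw))))
    have hU := Unipotent.isUnipotentOn_iSup hpair (fun D hD E hE a ha => by
      have : conjBy E a = E := RankOne.conjBy_of_comm fun w hw =>
        commutatorElement_eq_one_iff_mul_comm.mp
          (Subgroup.mem_bot.mp (hTT _ hD _ hE ▸ Subgroup.commutator_mem_commutator ha hw))
      rwa [this])
    obtain ⟨L, hL⟩ : ∃ L, L = (⨆ D ∈ T, D : Subgroup GLk) ⊓ N := ⟨_, rfl⟩
    have hLn : ∀ g ∈ N, conjBy L g = L := by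
      intro g hg
      rw [hL, conjBy, Subgroup.map_inf _ _ _ (MulAut.conj g).injective]
      congr 1
      · refine iSup_conj ?_ ?_
        · rintro _ ⟨m, hm, rfl⟩
          exact ⟨g * m, mul_mem hg hm, (RankOne.conjBy_mul C g m).symm⟩
        · rintro _ ⟨m, hm, rfl⟩
          exact ⟨g⁻¹ * m, mul_mem (inv_mem hg) hm, (RankOne.conjBy_mul C g⁻¹ m).symm⟩
      · exact RankOne.conjBy_of_mem hg
    obtain ⟨L', hu', hLL', hL'N, hL'n⟩ := unipotent_closure
      (Unipotent.isUnipotentOn_mono (hL ▸ inf_le_left) hU) (hL ▸ inf_le_right) hle hLn hn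
    -- the whole group generated by the classes normalises it
    obtain ⟨G0, hG0⟩ : ∃ G0, G0 = (⨆ D ∈ quadraticRootSubgroups G, D : Subgroup GLk) := ⟨_, rfl⟩
    have hL'G0 : ∀ g ∈ G0, conjBy L' g = L' := by
      have : G0 ≤ Subgroup.normalizer (L' : Set GLk) := by
        rw [hG0]
        refine iSup₂_le fun D hD g hg => RankOne.conjBy_eq_iff_mem_normalizer.mp ?_
        by_cases hDA : D ∈ comp G A
        · exact hL'n g (hmem hDA hg)
        · refine RankOne.conjBy_of_comm fun c hc => ?_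
          have hne : comp G D ≠ comp G A := fun e =>
            hDA (e ▸ ⟨hD, Relation.ReflTransGen.refl⟩)
          refine commutatorElement_eq_one_iff_mul_comm.mp (Subgroup.mem_bot.mp ?_)
          rw [← comp_commute h2 h3 hG hne]
          exact Subgroup.commutator_mem_commutator
            ((le_iSup₂_of_le D ⟨hD, Relation.ReflTransGen.refl⟩ le_rfl : D ≤ _) hg) (hX ▸ hle (hL'N hc))
      exact fun g hg => RankOne.conjBy_eq_iff_mem_normalizer.mpr (this hg)
    obtain ⟨L'', hu'', hLL'', hL''le, hL''n⟩ := unipotent_closure hu'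
      (hL'N.trans (hle.trans (hX ▸ hG0 ▸ biSup_mono fun D hD => hD.1))) (hG0 ▸ iSup_le_group) hL'G0
      (fun g hg => hG0 ▸ G0_conj h2 h3 hg)
    have hbot := hG _ (hL''le.trans (hG0 ▸ iSup_le_group)) hu'' hL''n
    have hin : n * u * n⁻¹ * u⁻¹ ∈ L := by
      rw [hL]
      refine ⟨Subgroup.mul_mem _ ((le_iSup₂_of_le (conjBy C n) ⟨n, hn', rfl⟩ le_rfl : conjBy C n ≤ _)
        (RankOne.conjBy_conj_mem hu)) (Subgroup.inv_mem _ ((le_iSup₂_of_le C ⟨1, one_mem N, (RankOne.conjBy_one C).symm⟩ le_rfl : C ≤ _) hu)), ?_⟩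
      rw [show n * u * n⁻¹ * u⁻¹ = n * (u * n⁻¹ * u⁻¹) by group]
      exact N.mul_mem hn' (conjN u (hmem hC hu) _ (inv_mem hn'))
    have := hLL'' (hLL' hin)
    rw [hbot, Subgroup.mem_bot, ← commutatorElement_def, commutatorElement_eq_one_iff_mul_comm] at this
    exact this
  · left
    push Not at hcase
    obtain ⟨C, hC, n, hn', hne⟩ := hcase
    have hD := comp_conj h2 h3 (hX ▸ hle hn') hC
    obtain ⟨x, hx, rfl⟩ := mem_rootSubgroups.mp hC.1
    obtain ⟨y, hy, ey⟩ := mem_rootSubgroups.mp hD.1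
    -- the pair generates a group with abelian image modulo `N`
    have hYX : root G x ⊔ conjBy (root G x) n ≤ X := sup_le (hmem hC) (hmem hD)
    have habel : ⁅root G x ⊔ conjBy (root G x) n, root G x ⊔ conjBy (root G x) n⁆ ≤ N := by
      refine commutator_le_of_congr (hYX.trans hnorm)
        (S := (root G x : Set GLk) ∪ (conjBy (root G x) n : Set GLk))
        (by rw [Subgroup.closure_union, Subgroup.closure_eq, Subgroup.closure_eq]) ?_
      have red : ∀ s, s ∈ (root G x : Set GLk) ∪ (conjBy (root G x) n : Set GLk) →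
          s ∈ X ∧ ∃ a ∈ root G x, ∃ c ∈ N, s = c * a := by
        rintro s (hs | hs)
        · exact ⟨hmem hC hs, s, hs, 1, one_mem _, by simp⟩
        · have ha : n⁻¹ * s * n ∈ root G x := RankOne.mem_conjBy.mp hs
          refine ⟨hmem hD hs, n⁻¹ * s * n, ha, n * ((n⁻¹ * s * n) * n⁻¹ * (n⁻¹ * s * n)⁻¹),
            N.mul_mem hn' (conjN _ (hmem hC ha) _ (inv_mem hn')), by group⟩
      intro s hs t ht
      obtain ⟨hsX, a, ha, c, hc, rfl⟩ := red s hs
      obtain ⟨htX, b, hb, d, hd, rfl⟩ := red t ht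
      have hab : a * b = b * a := comm_root x ha hb
      have : c * a * (d * b) * (c * a)⁻¹ * (d * b)⁻¹ =
          c * (a * d * a⁻¹) * ((a * b * a⁻¹) * c⁻¹ * b⁻¹) * d⁻¹ := by group
      rw [this, hab, mul_inv_cancel_right]
      exact N.mul_mem (N.mul_mem (N.mul_mem hc (conjN a (hmem hC ha) d hd))
        (conjN b (hmem hC hb) _ (inv_mem hc))) (inv_mem hd)
    -- hence some class lies in `N`
    obtain ⟨D, hDc, hDN⟩ : ∃ D ∈ comp G A, D ≤ N := by
      rw [ey] at hne habel hD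
      by_cases ho : Opp x y
      · refine ⟨root G x, hC, fun u hu => habel ?_⟩
        obtain ⟨a, e⟩ : ∃ a, a = (u : EndM) - 1 := ⟨_, rfl⟩
        have ha : a ∈ cls G x := e ▸ hu
        rcases eq_or_ne a 0 with h0 | h0
        · rw [show u = 1 from Units.ext (sub_eq_zero.mp (e ▸ h0))]; exact one_mem _
        obtain ⟨b, hb, hb0, hf⟩ := exists_inv h2 h3 (cls_qd ha h0).1 hy
          ((opp_of_cls ha h0 (self_mem_cls hy) hy.ne).mpr ho)
        have hall : (⊤ : Subgroup (SL2.SL k)).map hf.hom ≤ root G x ⊔ root G y := by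
          rw [← SL2Unipotent.sup_eq_top (k := k), Subgroup.map_sup, sup_comm (root G x)]
          refine sup_le_sup ?_ ?_
          · rintro _ ⟨g, hg, rfl⟩
            obtain ⟨c, rfl⟩ := SL2Unipotent.mem_lower.mp hg
            exact mem_root_of_eq (Submodule.smul_mem _ c hb) (hf.hom_low c)
          · rintro _ ⟨g, hg, rfl⟩
            obtain ⟨c, rfl⟩ := SL2Unipotent.mem_upper.mp hg
            exact mem_root_of_eq (Submodule.smul_mem _ c ha) (hf.hom_up c)
        obtain ⟨μ, hμ0, hμ⟩ := PairSplit.exists_tor h2 h3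
        have hμ1 : μ ^ 2 - 1 ≠ 0 := sub_ne_zero.mpr hμ
        have hc : SL2.up (1 : k) ∈ ⁅(⊤ : Subgroup (SL2.SL k)), (⊤ : Subgroup (SL2.SL k))⁆ := by
          convert Subgroup.commutator_mem_commutator (Subgroup.mem_top (PairSplit.tor (Units.mk0 μ hμ0)))
            (Subgroup.mem_top (SL2.up (1 / (μ ^ 2 - 1)))) using 1
          rw [commutatorElement_def, PairSplit.tor_inv, SL2.up_inv]
          apply SL2.ext2 <;> simp [PairSplit.tor_val, SL2.mul_apply2, SL2.up_val] <;> field_simp <;> ring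
        have := Subgroup.mem_map_of_mem hf.hom hc
        rw [Subgroup.map_commutator] at this
        have hu' : u = hf.hom (SL2.up 1) := Units.ext (by rw [hf.hom_up, one_smul, e]; abel)
        exact hu' ▸ Subgroup.commutator_mono hall hall this
      · have hw : x * y - y * x ≠ 0 := fun hw => hne (comm_bot h2 h3 hx hy ho hw)
        obtain ⟨hq, e, -⟩ := commutator_eq h2 h3 hG hx hy ho hw
        refine ⟨root G (x * y - y * x), ⟨mem_rootSubgroups.mpr ⟨_, hq, rfl⟩,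
          hC.2.trans (linked_bracket h2 h3 hG hx hy ho hw)⟩, ?_⟩
        rw [← e]
        exact (Subgroup.commutator_mono le_sup_left le_sup_right).trans habel
    rw [hX]
    refine iSup₂_le fun E hE => ?_
    obtain ⟨g, hg, rfl⟩ := conj_in_comp h2 h3 hG hDc hE
    exact (RankOne.conjBy_mono hDN g).trans (hn g (hX ▸ hg)).le

theorem quasisimple (hG : Clean G) {A : Subgroup GLk} (hA : A ∈ quadraticRootSubgroups G) :
    IsQuasisimple ↥(⨆ C ∈ comp G A, C : Subgroup GLk) := by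
  have hperf := comp_perfect h2 h3 hG A
  have hdich : ∀ N : Subgroup GLk, N ≤ (⨆ C ∈ comp G A, C : Subgroup GLk) →
      (∀ g ∈ (⨆ C ∈ comp G A, C : Subgroup GLk), conjBy N g = N) →
      (⨆ C ∈ comp G A, C) ≤ N ∨ ∀ n ∈ N, ∀ g ∈ (⨆ C ∈ comp G A, C : Subgroup GLk), n * g = g * n :=
    fun N => dichotomy h2 h3 hG A
  have hne : (⨆ C ∈ comp G A, C : Subgroup GLk) ≠ ⊥ := fun e => by
    obtain ⟨x, hx, rfl⟩ := mem_rootSubgroups.mp hA
    exact root_ne_bot hx (eq_bot_iff.mpr (e ▸ le_iSup₂_of_le _ ⟨hA, Relation.ReflTransGen.refl⟩ le_rfl))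
  generalize (⨆ C ∈ comp G A, C : Subgroup GLk) = X at hperf hdich hne
  have hp : Group.IsPerfect X := by
    rw [Group.isPerfect_def]
    apply Subgroup.map_injective X.subtype_injective
    rw [← MonoidHom.range_eq_map, Subgroup.range_subtype, commutator_def, Subgroup.map_commutator,
      ← MonoidHom.range_eq_map, Subgroup.range_subtype, hperf]
  refine ⟨hp, ?_⟩
  have hc : Subgroup.center X ≠ ⊤ := by
    intro hc
    apply hne
    rw [← hperf, Subgroup.commutator_eq_bot_iff_le_centralizer]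
    intro g hg
    rw [Subgroup.mem_centralizer_iff]
    intro t ht
    exact congrArg Subtype.val (Subgroup.mem_center_iff.mp (hc ▸ Subgroup.mem_top (⟨g, hg⟩ : X)) ⟨t, ht⟩)
  haveI : Nontrivial (X ⧸ Subgroup.center X) := QuotientGroup.nontrivial_iff.mpr hc
  refine ⟨fun K hK => ?_⟩
  have hKn : ∀ g ∈ X, conjBy ((K.comap (QuotientGroup.mk' _)).map X.subtype) g =
      (K.comap (QuotientGroup.mk' _)).map X.subtype := by
    intro g hg
    rw [RankOne.conjBy_eq_iff_mem_normalizer]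
    have := Subgroup.le_normalizer_map X.subtype (H := K.comap (QuotientGroup.mk' _))
    refine this ⟨⟨g, hg⟩, ?_, rfl⟩
    rw [Subgroup.normalizer_eq_top]
    exact Subgroup.mem_top _
  rcases hdich _ (Subgroup.map_subtype_le _) hKn with h | h
  · right
    rw [eq_top_iff]
    intro q _
    obtain ⟨x, rfl⟩ := QuotientGroup.mk'_surjective _ q
    obtain ⟨x', hx', e⟩ := h x.2
    rw [show x = x' from Subtype.ext e.symm]
    exact hx'
  · left
    rw [eq_bot_iff]
    intro q hq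
    obtain ⟨x, rfl⟩ := QuotientGroup.mk'_surjective _ q
    refine Subgroup.mem_bot.mpr ((QuotientGroup.eq_one_iff x).mpr (Subgroup.mem_center_iff.mpr fun g => ?_))
    exact Subtype.ext (h x.1 ⟨x, hq, rfl⟩ g.1 g.2).symm

theorem isRootClass (hG : Clean G) {A : Subgroup GLk} (hA : A ∈ quadraticRootSubgroups G) :
    IsRootSubgroupClass ((fun C : Subgroup GLk => C.subgroupOf (⨆ B ∈ comp G A, B)) '' comp G A) := by
  refine ⟨Transfer.isRootSubgroupSet_image ?_ ?_ ?_ ?_, ⟨_, A, ⟨hA, Relation.ReflTransGen.refl⟩, rfl⟩, ?_⟩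
  · intro C hC
    obtain ⟨x, -, rfl⟩ := mem_rootSubgroups.mp hC.1
    exact ⟨⟨fun a b => Subtype.ext (comm_root x a.2 b.2)⟩⟩
  · intro C hC
    obtain ⟨x, hx, rfl⟩ := mem_rootSubgroups.mp hC.1
    exact root_ne_bot hx
  · exact fun C hC g hg => comp_conj h2 h3 hg hC
  · intro C hC D hD
    obtain ⟨x, hx, rfl⟩ := mem_rootSubgroups.mp hC.1
    obtain ⟨y, hy, rfl⟩ := mem_rootSubgroups.mp hD.1
    by_cases ho : Opp x y
    · exact Or.inr (Or.inl (isRankOnePair h2 h3 hx hy ho))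
    by_cases hw : x * y - y * x = 0
    · exact Or.inl (comm_bot h2 h3 hx hy ho hw)
    obtain ⟨hq, e, -⟩ := commutator_eq h2 h3 hG hx hy ho hw
    have h := rootCommutatorCase h2 h3 hG hx hy ho hw
    refine Or.inr (Or.inr ⟨⟨h.1, ?_⟩, h.2⟩)
    rw [e]
    exact hC.2.trans (linked_bracket h2 h3 hG hx hy ho hw)
  · rintro _ ⟨B, hB, rfl⟩ _ ⟨C, hC, rfl⟩
    obtain ⟨g, hg, rfl⟩ := conj_in_comp h2 h3 hG hB hC
    refine ⟨⟨g, hg⟩, ?_⟩
    exact (Transfer.conjBy_subgroupOf (le_iSup₂_of_le B hB le_rfl) ⟨g, hg⟩).symm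

end CfsgLib.Perm.Quad.Components
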