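import Mathlib
import Cfsg.Agent.Lib.Perm.Quad.Components

/-! Every quadratic element splits along the components. -/

namespace CfsgLib.Perm.Quad.Decompose

open Cfsg CfsgLib.Perm.Quad.Ends CfsgLib.Perm.Quad.Opposite CfsgLib.Perm.Quad.PairNil
  CfsgLib.Perm.Quad.Bracket CfsgLib.Perm.Quad.RootSystem CfsgLib.Perm.Quad.Components

variable {k : Type*} [Field k] {M : Type*} [AddCommGroup M] [Module k M] [FiniteDimensional k M]
  {G : Subgroup (LinearMap.GeneralLinearGroup k M)}

local notation "GLk" => LinearMap.GeneralLinearGroup k M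
local notation "EndM" => Module.End k M

/-- `x = σ - 1` for some member of `𝒬(G)`, or zero. -/
structure Quad (G : Subgroup (LinearMap.GeneralLinearGroup k M)) (x : Module.End k M) : Prop where
  sq : x * x = 0
  fam : ∀ c : k, Mem1 G (c • x)

theorem Quad.mem_quadratic {x : EndM} (hx : Quad G x) (h0 : x ≠ 0) :
    unit1 x hx.sq ∈ quadraticElements G := by
  rw [mem_quadratic_iff, unit1_val, add_sub_cancel_left]
  exact ⟨hx.sq, h0, hx.fam⟩

theorem Quad.cj {g : GLk} (hg : g ∈ G) {x : EndM} (hx : Quad G x) : Quad G (Ends.cj g x) :=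
  ⟨by rw [← cj_mul, hx.sq, map_zero], fun c => by rw [← map_smul]; exact (hx.fam c).cj hg⟩

theorem smul_mem1_add {X : Subgroup GLk} {p q : EndM} (hp : ∀ c : k, Mem1 X (c • p))
    (hq : ∀ c : k, Mem1 X (c • q)) (hpq : p * q = 0) (c : k) : Mem1 X (c • (p + q)) := by
  have := (hp c).mul (hq c)
  rwa [smul_mul_smul_comm, hpq, smul_zero, add_zero, ← smul_add] at this

theorem mem_centralizer_iff_comm {g : GLk} {H : Subgroup GLk} :
    g ∈ Subgroup.centralizer (H : Set GLk) ↔ ∀ h ∈ H, g * h = h * g :=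
  Subgroup.mem_centralizer_iff.trans ⟨fun h u hu => (h u hu).symm, fun h u hu => (h u hu).symm⟩

variable (h2 : (2 : k) ≠ 0) (h3 : Nat.card k ≠ 3)
include h2 h3

/-- A quadratic element not unipotent with a minimal one splits off a minimal one. -/
theorem split {x y : EndM} (hx : Quad G x) (hy : Qd G y) (hz : ¬ IsNilpotent (x * y + y * x)) :
    ∃ x1, Qd G x1 ∧ LinearMap.range x1 ≤ LinearMap.range x ∧ LinearMap.ker x ≤ LinearMap.ker x1 ∧
      Quad G (x - x1) ∧ LinearMap.range (x - x1) ≤ LinearMap.range x ∧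
      LinearMap.ker x ≤ LinearMap.ker (x - x1) ∧ rk (x - x1) < rk x := by
  obtain ⟨D, rfl, rfl, hP0, hlift, hHG, hall⟩ :=
    PairSplit.exists_lift h2 h3 hx.sq hy.sq hx.fam hy.fam hz
  obtain ⟨t1, t2, t3, t4, -, -, -, -, t9, -, -, -, t13, -, -, -⟩ := D.units_table
  have hfam : ∀ c : k, Mem1 G (c • D.u) := fun c =>
    ⟨D.Ψ (SL2.up (algebraMap k D.R c)), hHG (hlift _ (hall _).1), by
      rw [D.Ψ_up, D.ι_algebraMap, smul_mul_assoc]; rfl⟩
  have hu0 : D.u ≠ 0 := fun e => hP0 (by
    rw [← D.e_add_f, ← t3, ← t4, e, zero_mul, mul_zero, add_zero])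
  have hr1 : LinearMap.range D.u ≤ LinearMap.range D.x := by
    show LinearMap.range (D.P * D.x) ≤ _
    rw [D.hxP.eq]
    exact LinearMap.range_comp_le_range _ _
  have hk1 : LinearMap.ker D.x ≤ LinearMap.ker D.u := fun m hm => by
    show D.P (D.x m) = 0
    rw [show D.x m = 0 from hm, map_zero]
  have hrl : rk D.l ≤ rk D.y := by
    refine Submodule.finrank_mono ?_
    show LinearMap.range (D.q * D.y) ≤ _
    rw [D.hqy.eq]
    exact LinearMap.range_comp_le_range _ _
  have hrank : rk D.u ≤ rk D.l := by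
    have hle : LinearMap.range D.u ≤ (LinearMap.range D.l).map D.u := by
      rintro _ ⟨m, rfl⟩
      refine ⟨D.l (D.u m), ⟨D.u m, rfl⟩, ?_⟩
      rw [← Module.End.mul_apply, ← Module.End.mul_apply, t3, t9]
    exact (Submodule.finrank_mono hle).trans (Submodule.finrank_map_le _ _)
  have hq1 : Qd G D.u := ⟨t1, hu0, hfam, fun b p q r => by have := hy.min b p q r; omega⟩
  have hxu : D.x * D.u = 0 := by
    show D.x * (D.P * D.x) = 0
    rw [← mul_assoc, ← D.hxP.eq, mul_assoc, hx.sq, mul_zero]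
  have hux : D.u * D.x = 0 := by
    show D.P * D.x * D.x = 0
    rw [mul_assoc, hx.sq, mul_zero]
  have hr0 : LinearMap.range (D.x - D.u) ≤ LinearMap.range D.x := by
    rintro _ ⟨m, rfl⟩
    exact Submodule.sub_mem _ ⟨m, rfl⟩ (hr1 ⟨m, rfl⟩)
  have hk0 : LinearMap.ker D.x ≤ LinearMap.ker (D.x - D.u) := fun m hm => by
    show D.x m - D.u m = 0
    rw [show D.x m = 0 from hm, show D.u m = 0 from hk1 hm, sub_zero]
  have hP : D.P * (D.x - D.u) = 0 := by
    show D.P * (D.x - D.P * D.x) = 0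
    rw [mul_sub, ← mul_assoc, D.hP, sub_self]
  refine ⟨D.u, hq1, hr1, hk1, ⟨?_, fun c => ?_⟩, hr0, hk0, ?_⟩
  · simp [sub_mul, mul_sub, hx.sq, hxu, hux, t1]
  · have := smul_mem1_add hx.fam (fun c => by rw [smul_neg, ← neg_smul]; exact hfam (-c))
      (by rw [mul_neg, hxu, neg_zero]) c (p := D.x) (q := -D.u)
    rwa [← sub_eq_add_neg] at this
  · refine Submodule.finrank_lt_finrank_of_lt (lt_of_le_of_ne hr0 fun e => hu0 ?_)
    ext m
    obtain ⟨n, hn⟩ : D.u m ∈ LinearMap.range (D.x - D.u) := e ▸ hr1 ⟨m, rfl⟩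
    have : D.P (D.u m) = D.u m := by
      show D.P (D.P (D.x m)) = D.P (D.x m)
      rw [← Module.End.mul_apply D.P D.P, D.hP]
    rw [← this, ← hn, ← Module.End.mul_apply, hP]
    rfl

/-- A quadratic element unipotent with all minimal ones commutes with them. -/
theorem commute_of_nilpotent (hG : Clean G) {x : EndM} (hx : Quad G x)
    (hall : ∀ y : EndM, Qd G y → IsNilpotent (x * y + y * x)) {y : EndM} (hy : Qd G y) :
    x * y = y * x := by
  have hzero : ∀ η : EndM, Qd G η → η * x * η = 0 := fun η hη =>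
    xvx_eq_zero h2 hη hx.sq hx.fam (by rw [add_comm]; exact hall η hη)
  have hzero' : ∀ g ∈ G, ∀ η : EndM, Qd G η → η * cj g x * η = 0 := fun g hg η hη => by
    have e := congrArg (cj g) (hzero _ (hη.cj (inv_mem hg)))
    rw [map_zero, cj_mul, cj_mul] at e
    rwa [show cj g (cj g⁻¹ η) = η by simp [cj_apply, mul_assoc]] at e
  have hyxy := hzero y hy
  have xx : ∀ r, x * (x * r) = 0 := fun r => by rw [← mul_assoc, hx.sq, zero_mul]
  have yy : ∀ r, y * (y * r) = 0 := fun r => by rw [← mul_assoc, hy.sq, zero_mul]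
  have yxy : ∀ r, y * (x * (y * r)) = 0 := fun r => by
    rw [← mul_assoc, ← mul_assoc, hyxy, zero_mul]
  have yxy1 : y * (x * y) = 0 := by rw [← mul_assoc, hyxy]
  -- the two conjugates
  obtain ⟨v, hv, ev⟩ := hy.mem
  obtain ⟨u, hu, eu⟩ : Mem1 G x := by simpa using hx.fam 1
  have e1 : cj v x = x + (y * x - x * y) := by
    rw [cj_apply, inv_val hy.sq ev, ev]
    simp only [add_mul, mul_sub, one_mul, mul_one, hyxy]
    abel
  have e2 : cj (u * v) x = x + (y * x - x * y) + (2 : k) • (x * y * x) := by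
    rw [show cj (u * v) x = cj u (cj v x) by simp [cj_apply, mul_assoc], e1, cj_apply, inv_val hx.sq eu, eu,
      two_smul]
    simp only [add_mul, mul_sub, sub_mul, mul_add, one_mul, mul_one, mul_assoc, hx.sq, xx, mul_zero,
      sub_zero, zero_sub]
    abel
  have hη1 : ∀ η : EndM, Qd G η → η * (y * x - x * y) * η = 0 := fun η hη => by
    have := hzero' v hv η hη
    rwa [e1, mul_add, add_mul, hzero η hη, zero_add] at this
  have hη2 : ∀ η : EndM, Qd G η → η * (x * y * x) * η = 0 := fun η hη => by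
    have := hzero' (u * v) (mul_mem hu hv) η hη
    rw [e2, mul_add, add_mul, mul_add, add_mul, hzero η hη, hη1 η hη, zero_add, zero_add, mul_smul_comm,
      smul_mul_assoc, smul_eq_zero] at this
    exact this.resolve_left h2
  have hC : ∀ s t : k, ∃ g ∈ G, (g : EndM) = 1 + (s * t) • (x * y - y * x) - (s * s * t) • (x * y * x) := by
    intro s t
    obtain ⟨g, hg, e⟩ := comm_mem hx.sq hx.fam hy.sq hy.fam s t
    refine ⟨g, hg, e.trans ?_⟩
    rw [hyxy, show x * y * x * y = 0 by rw [mul_assoc, mul_assoc, yxy1, mul_zero]]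
    simp
  -- the product `x y x` vanishes
  have hxyx : x * y * x = 0 := by
    by_contra h0
    have hfam : ∀ c : k, Mem1 G (c • (x * y * x)) := by
      intro c
      obtain ⟨g, hg, eg⟩ := hC 1 (-c / 2)
      obtain ⟨g', hg', eg'⟩ := hC (-1) (-c / 2)
      refine ⟨g * g', mul_mem hg hg', ?_⟩
      rw [Units.val_mul, eg, eg']
      simp only [mul_add, add_mul, mul_sub, sub_mul, mul_one, one_mul, smul_mul_assoc, mul_smul_comm,
        smul_smul, mul_assoc, hx.sq, hy.sq, xx, yy, yxy, yxy1, mul_zero, zero_mul, smul_zero, smul_sub,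
        sub_zero]
      match_scalars <;> field_simp <;> ring
    have hle : rk (x * y * x) ≤ rk y := by
      have : LinearMap.range (x * y * x) ≤ (LinearMap.range y).map x := by
        rintro _ ⟨m, rfl⟩
        exact ⟨y (x m), ⟨x m, rfl⟩, rfl⟩
      exact (Submodule.finrank_mono this).trans (Submodule.finrank_map_le _ _)
    have hq : Qd G (x * y * x) := ⟨by simp only [mul_assoc, xx, mul_zero], h0, hfam,
      fun b p q r => hle.trans (hy.min b p q r)⟩
    obtain ⟨η, hη, ho⟩ := exists_opp h2 h3 hG hq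
    exact triple_ne_zero hη ho (hη2 η hη)
  by_contra hne
  have hw : x * y - y * x ≠ 0 := sub_ne_zero.mpr hne
  have hfam : ∀ c : k, Mem1 G (c • (x * y - y * x)) := fun c => by
    obtain ⟨g, hg, e⟩ := hC 1 c
    exact ⟨g, hg, e.trans (by rw [hxyx, one_mul, smul_zero, sub_zero])⟩
  have hle : rk (x * y - y * x) ≤ rk y := by
    have hA : LinearMap.range (y * x) ≤ LinearMap.range y ⊓ LinearMap.ker x :=
      le_inf (LinearMap.range_comp_le_range x y) (mul_eq_zero_iff.mp (by rw [← mul_assoc, hxyx]))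
    have hW : LinearMap.range (x * y - y * x) ≤ LinearMap.range (x * y) ⊔ LinearMap.range (y * x) := by
      rintro _ ⟨m, rfl⟩
      rw [LinearMap.sub_apply, sub_eq_add_neg]
      exact Submodule.add_mem_sup ⟨m, rfl⟩ (Submodule.neg_mem _ ⟨m, rfl⟩)
    have f1 := Submodule.finrank_mono hA
    have f2 := Submodule.finrank_mono hW
    have f3 := Submodule.finrank_add_le_finrank_add_finrank (LinearMap.range (x * y)) (LinearMap.range (y * x))
    have r1 := rk_mul x y
    unfold rk at r1 ⊢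
    omega
  have hq : Qd G (x * y - y * x) := ⟨by
      have xyx1 : x * (y * x) = 0 := by rw [← mul_assoc, hxyx]
      simp only [mul_sub, sub_mul, mul_assoc, hx.sq, hy.sq, xx, yy, xyx1, yxy1, mul_zero, sub_zero],
    hw, hfam, fun b p q r => hle.trans (hy.min b p q r)⟩
  obtain ⟨η, hη, ho⟩ := exists_opp h2 h3 hG hq
  apply triple_ne_zero hη ho
  rw [← neg_sub, mul_neg, neg_mul, hη1 η hη, neg_zero]

omit h2 h3 in
/-- Pieces of `x` lying in members of `𝒢`. -/
def pieces (𝒢 : Set (Subgroup (LinearMap.GeneralLinearGroup k M))) (x : Module.End k M) :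
    Set (Module.End k M) :=
  {p | LinearMap.range p ≤ LinearMap.range x ∧ LinearMap.ker x ≤ LinearMap.ker p ∧
    ∃ X ∈ 𝒢, ∀ c : k, Mem1 X (c • p)}

omit h2 h3 in
theorem pieces_mul {𝒢 : Set (Subgroup GLk)} {x p q : EndM} (hx : x * x = 0) (hp : p ∈ pieces 𝒢 x)
    (hq : q ∈ pieces 𝒢 x) : p * q = 0 :=
  mul_eq_zero_iff.mpr (hq.1.trans ((range_le_ker hx).trans hp.2.1))

omit h2 h3 in
/-- The centraliser part: quadratic elements commuting with all classes. -/
def rest (G : Subgroup (LinearMap.GeneralLinearGroup k M)) : Subgroup (LinearMap.GeneralLinearGroup k M) :=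
  Subgroup.closure (quadraticElements G ∩
    Subgroup.centralizer ((⨆ A ∈ quadraticRootSubgroups G, A : Subgroup (LinearMap.GeneralLinearGroup k M)) :
      Set (LinearMap.GeneralLinearGroup k M)))

omit h2 h3 in
theorem rest_le : rest G ≤ G := (Subgroup.closure_le _).mpr fun _ h => h.1.1

omit h2 h3 in
theorem rest_centralizes : rest G ≤
    Subgroup.centralizer ((⨆ A ∈ quadraticRootSubgroups G, A : Subgroup GLk) : Set GLk) :=
  (Subgroup.closure_le _).mpr fun _ h => h.2

theorem mem1_rest {x : EndM} (hx : Quad G x) (hc : ∀ y : EndM, Qd G y → x * y = y * x) (c : k) :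
    Mem1 (rest G) (c • x) := by
  rcases eq_or_ne (c • x) 0 with e | e
  · rw [e]; exact mem1_zero _
  have hq : Quad G (c • x) :=
    ⟨by rw [smul_mul_smul_comm, hx.sq, smul_zero], fun d => by rw [smul_smul]; exact hx.fam _⟩
  refine ⟨unit1 _ hq.sq, Subgroup.subset_closure ⟨hq.mem_quadratic e, ?_⟩, rfl⟩
  have key : (⨆ A ∈ quadraticRootSubgroups G, A : Subgroup GLk) ≤
      Subgroup.centralizer ({unit1 _ hq.sq} : Set GLk) := by
    refine iSup₂_le fun A hA => ?_
    obtain ⟨z, hz, rfl⟩ := mem_rootSubgroups.mp hA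
    intro g hg
    rw [Subgroup.mem_centralizer_iff]
    rintro _ rfl
    refine Units.ext ?_
    rcases eq_or_ne ((g : EndM) - 1) 0 with h0 | h0
    · rw [show g = 1 from Units.ext (sub_eq_zero.mp h0)]; simp
    have := hc _ (cls_qd (mem_root.mp hg) h0).1
    simp only [mul_sub, sub_mul, mul_one, one_mul] at this
    rw [Units.val_mul, Units.val_mul, unit1_val, add_mul, mul_add, one_mul, mul_one, smul_mul_assoc,
      mul_smul_comm]
    have e' : x * (g : EndM) = (g : EndM) * x := by linear_combination (norm := abel) this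
    rw [e']
  rw [SetLike.mem_coe, mem_centralizer_iff_comm]
  exact fun g hg => Subgroup.mem_centralizer_iff.mp (key hg) _ rfl

/-- Each quadratic element splits into minimal ones and one commuting with all classes. -/
theorem decompose (hG : Clean G) {x : EndM} (hx : Quad G x) :
    ∃ x0, Quad G x0 ∧ LinearMap.range x0 ≤ LinearMap.range x ∧ LinearMap.ker x ≤ LinearMap.ker x0 ∧
      (∀ y : EndM, Qd G y → x0 * y = y * x0) ∧
      x - x0 ∈ AddSubmonoid.closure {p : EndM | Qd G p ∧
        LinearMap.range p ≤ LinearMap.range x ∧ LinearMap.ker x ≤ LinearMap.ker p} := by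
  induction hn : rk x using Nat.strong_induction_on generalizing x with
  | _ n IH =>
  by_cases hall : ∀ y : EndM, Qd G y → IsNilpotent (x * y + y * x)
  · exact ⟨x, hx, le_rfl, le_rfl, fun y hy => commute_of_nilpotent h2 h3 hG hx hall hy,
      by rw [sub_self]; exact zero_mem _⟩
  push Not at hall
  obtain ⟨y, hy, hz⟩ := hall
  obtain ⟨x1, hq, hr1, hk1, hx', hr0, hk0, hlt⟩ := split h2 h3 hx hy hz
  obtain ⟨x0, hx0, hr, hk, hc, hmem⟩ := IH _ (hn ▸ hlt) hx' rfl
  refine ⟨x0, hx0, hr.trans hr0, hk0.trans hk, hc, ?_⟩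
  rw [show x - x0 = x1 + (x - x1 - x0) by abel]
  refine add_mem (AddSubmonoid.subset_closure ⟨hq, hr1, hk1⟩) ?_
  refine AddSubmonoid.closure_mono ?_ hmem
  rintro p ⟨h1, h1', h1''⟩
  exact ⟨h1, h1'.trans hr0, hk0.trans h1''⟩

theorem rest_conj {g : GLk} (hg : g ∈ G) : conjBy (rest G) g = rest G := by
  have h1 : ∀ g ∈ G, conjBy (rest G) g ≤ rest G := by
    intro g hg
    rw [rest, conjBy, MonoidHom.map_closure]
    refine Subgroup.closure_mono ?_
    rintro _ ⟨t, ⟨ht, htc⟩, rfl⟩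
    obtain ⟨p1, p2, p3⟩ := mem_quadratic_iff.mp ht
    have e : (((MulAut.conj g).toMonoidHom t : GLk) : EndM) - 1 = cj g ((t : EndM) - 1) := by
      simp [cj_apply, mul_sub, sub_mul]
    refine ⟨mem_quadratic_iff.mpr ?_, ?_⟩
    · rw [e]
      exact ⟨by rw [← cj_mul, p1, map_zero], fun h => p2 ((cj g).injective (h.trans (map_zero _).symm)),
        fun c => by rw [← map_smul]; exact (p3 c).cj hg⟩
    · show g * t * g⁻¹ ∈ _
      rw [SetLike.mem_coe, mem_centralizer_iff_comm]
      intro h hh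
      have hh' : g⁻¹ * h * g ∈ (⨆ A ∈ quadraticRootSubgroups G, A : Subgroup GLk) :=
        RankOne.mem_conjBy.mp ((G0_conj h2 h3 hg).symm ▸ hh)
      calc g * t * g⁻¹ * h = g * (t * (g⁻¹ * h * g)) * g⁻¹ := by group
        _ = g * ((g⁻¹ * h * g) * t) * g⁻¹ := by rw [mem_centralizer_iff_comm.mp htc _ hh']
        _ = h * (g * t * g⁻¹) := by group
  refine le_antisymm (h1 g hg) ?_
  have := RankOne.conjBy_mono (h1 g⁻¹ (inv_mem hg)) g
  rwa [RankOne.conjBy_conjBy_inv] at this

theorem rest_clean (hG : Clean G) : Clean (rest G) := by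
  intro L hL hu hn
  obtain ⟨L', hu', hLL', hL'N, hL'n⟩ :=
    unipotent_closure hu hL rest_le hn (fun g hg => rest_conj h2 h3 hg)
  exact eq_bot_iff.mpr (hLL'.trans (hG L' (hL'N.trans rest_le) hu' hL'n).le)

omit h3 in
theorem rest_rank (h3 : Nat.card k ≠ 3) (hG : Clean G) {a y : EndM} (ha : Qd G a) (hy : Qd (rest G) y) :
    rk a < rk y := by
  have hy' : ∀ c : k, Mem1 G (c • y) := fun c =>
    let ⟨g, hg, e⟩ := hy.fam c; ⟨g, rest_le hg, e⟩
  refine lt_of_le_of_ne (ha.min y hy.sq hy.ne hy') fun e => ?_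
  have hq : Qd G y := ⟨hy.sq, hy.ne, hy', fun b p q r => e ▸ ha.min b p q r⟩
  obtain ⟨g, hg, eg⟩ := hy.mem
  obtain ⟨η, hη, ho⟩ := exists_opp h2 h3 hG hq
  obtain ⟨v, hv, ev⟩ := exists_mem_root (self_mem_cls hη)
  have hc := congrArg (fun t : GLk => (t : EndM)) (mem_centralizer_iff_comm.mp (rest_centralizes hg) v
    ((le_iSup₂_of_le _ (mem_rootSubgroups.mpr ⟨η, hη, rfl⟩) le_rfl : root G η ≤ _) hv))
  simp only [Units.val_mul, eg, ev, add_mul, mul_add, one_mul, mul_one] at hc
  have hc' : y * η = η * y := by linear_combination (norm := abel) hc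
  apply triple_ne_zero hη ho
  rw [← hc', mul_assoc, hη.sq, mul_zero]

omit h2 h3 in
/-- What is claimed of a family of factors. -/
structure Factors (G : Subgroup (LinearMap.GeneralLinearGroup k M))
    (𝒢 : Set (Subgroup (LinearMap.GeneralLinearGroup k M))) : Prop where
  finite : 𝒢.Finite
  le : ∀ X ∈ 𝒢, X ≤ G
  quasisimple : ∀ X ∈ 𝒢, IsQuasisimple ↥X
  gen : ∀ X ∈ 𝒢, Subgroup.closure (quadraticElements G ∩ (X : Set (LinearMap.GeneralLinearGroup k M))) = X
  commute : ∀ X ∈ 𝒢, ∀ Y ∈ 𝒢, X ≠ Y → ⁅X, Y⁆ = ⊥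
  split : ∀ x : Module.End k M, Quad G x → x ∈ AddSubmonoid.closure (pieces 𝒢 x)

theorem exists_factors (hG : Clean G) : ∃ 𝒢, Factors G 𝒢 := by
  suffices H : ∀ m (G : Subgroup GLk), Clean G →
      (∀ x, Qd G x → Module.finrank k M + 1 - rk x ≤ m) → ∃ 𝒢, Factors G 𝒢 from
    H (Module.finrank k M + 1) G hG fun x _ => by omega
  intro m
  induction m with
  | zero =>
    intro G hG hm
    refine ⟨∅, Set.finite_empty, by simp, by simp, by simp, by simp, fun x hx => ?_⟩
    by_cases h0 : x = 0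
    · rw [h0]; exact zero_mem _
    · exfalso
      obtain ⟨a, ha⟩ := exists_qd ⟨_, hx.mem_quadratic h0⟩
      have := hm a ha
      have := Submodule.finrank_le (LinearMap.range a)
      unfold rk at *
      omega
  | succ m IH =>
    intro G hG hm
    by_cases hne : ∃ a, Qd G a
    swap
    · refine ⟨∅, Set.finite_empty, by simp, by simp, by simp, by simp, fun x hx => ?_⟩
      by_cases h0 : x = 0
      · rw [h0]; exact zero_mem _
      · exact absurd (exists_qd ⟨_, hx.mem_quadratic h0⟩) hne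
    obtain ⟨a, ha⟩ := hne
    obtain ⟨ℋ, hℋ⟩ := IH (rest G) (rest_clean h2 h3 hG) fun y hy => by
      have h1 := rest_rank h2 h3 hG ha hy
      have h2' := hm a ha
      have := Submodule.finrank_le (LinearMap.range y)
      unfold rk at *
      omega
    obtain ⟨𝒞, h𝒞⟩ : ∃ 𝒞, 𝒞 = {X : Subgroup GLk |
        ∃ A ∈ quadraticRootSubgroups G, X = ⨆ C ∈ comp G A, C} := ⟨_, rfl⟩
    have hfin : 𝒞.Finite := by
      refine ((finite_components h2 h3 hG).image fun S => ⨆ C ∈ S, C).subset ?_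
      rw [h𝒞]
      rintro _ ⟨A, hA, rfl⟩
      exact ⟨_, ⟨A, hA, rfl⟩, rfl⟩
    have hle0 : ∀ X ∈ 𝒞, X ≤ ⨆ A ∈ quadraticRootSubgroups G, A := by
      rw [h𝒞]
      rintro _ ⟨A, -, rfl⟩
      exact biSup_mono fun C hC => hC.1
    refine ⟨𝒞 ∪ ℋ, hfin.union hℋ.finite, ?_, ?_, ?_, ?_, ?_⟩
    · rintro X (hX | hX)
      · exact (hle0 X hX).trans iSup_le_group
      · exact (hℋ.le X hX).trans rest_le
    · rintro X (hX | hX)
      · rw [h𝒞] at hX
        obtain ⟨A, hA, rfl⟩ := hX
        exact quasisimple h2 h3 hG hA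
      · exact hℋ.quasisimple X hX
    · rintro X (hX | hX)
      · rw [h𝒞] at hX
        obtain ⟨A, hA, rfl⟩ := hX
        refine le_antisymm ((Subgroup.closure_le _).mpr fun t ht => ht.2) (iSup₂_le fun C hC g hg => ?_)
        obtain ⟨z, hz, rfl⟩ := mem_rootSubgroups.mp hC.1
        rcases eq_or_ne ((g : EndM) - 1) 0 with h0 | h0
        · rw [show g = 1 from Units.ext (sub_eq_zero.mp h0)]; exact one_mem _
        refine Subgroup.subset_closure ⟨?_, (le_iSup₂_of_le _ hC le_rfl : root G z ≤ _) hg⟩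
        obtain ⟨h, -, -⟩ := cls_qd (mem_root.mp hg) h0
        exact mem_quadratic_iff.mpr ⟨h.sq, h.ne, h.fam⟩
      · refine le_antisymm ((Subgroup.closure_le _).mpr fun t ht => ht.2) ?_
        nth_rewrite 1 [← hℋ.gen X hX]
        refine Subgroup.closure_mono fun t ht => ⟨?_, ht.2⟩
        obtain ⟨p1, p2, p3⟩ := mem_quadratic_iff.mp ht.1
        exact mem_quadratic_iff.mpr ⟨p1, p2, fun c => let ⟨g, hg, e⟩ := p3 c; ⟨g, rest_le hg, e⟩⟩
    · have mixed : ∀ X ∈ 𝒞, ∀ Y ∈ ℋ, ⁅Y, X⁆ = ⊥ := fun X hX Y hY =>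
        Subgroup.commutator_eq_bot_iff_le_centralizer.mpr (((hℋ.le Y hY).trans rest_centralizes).trans
          (Subgroup.centralizer_le (hle0 X hX)))
      rintro X (hX | hX) Y (hY | hY) hXY
      · rw [h𝒞] at hX hY
        obtain ⟨A, hA, rfl⟩ := hX
        obtain ⟨B, hB, rfl⟩ := hY
        exact comp_commute h2 h3 hG fun e => hXY (by rw [e])
      · rw [Subgroup.commutator_comm]; exact mixed X hX Y hY
      · exact mixed Y hY X hX
      · exact hℋ.commute X hX Y hY hXY
    · intro x hx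
      obtain ⟨x0, hx0, hr, hk, hc, hmem⟩ := decompose h2 h3 hG hx
      suffices hh : (x - x0) + x0 ∈ AddSubmonoid.closure (pieces (𝒞 ∪ ℋ) x) by
        rwa [sub_add_cancel] at hh
      refine add_mem ?_ ?_
      · refine AddSubmonoid.closure_mono ?_ hmem
        rintro p ⟨hp, hpr, hpk⟩
        refine ⟨hpr, hpk, ⨆ C ∈ comp G (root G p), C,
          Or.inl (h𝒞 ▸ ⟨_, mem_rootSubgroups.mpr ⟨p, hp, rfl⟩, rfl⟩), fun c => ?_⟩
        obtain ⟨g, hg, e⟩ := exists_mem_root (Submodule.smul_mem (cls G p) c (self_mem_cls hp))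
        exact ⟨g, (le_iSup₂_of_le _ ⟨mem_rootSubgroups.mpr ⟨p, hp, rfl⟩, Relation.ReflTransGen.refl⟩
          le_rfl : root G p ≤ _) hg, e⟩
      · refine AddSubmonoid.closure_mono ?_ (hℋ.split x0 ⟨hx0.sq, mem1_rest h2 h3 hx0 hc⟩)
        rintro p ⟨hpr, hpk, X, hX, hX'⟩
        exact ⟨hpr.trans hr, hk.trans hpk, X, Or.inr hX, hX'⟩

omit h2 h3 in
/-- An element of a span of pieces is in the group generated by the factors. -/
theorem mem1_sum {𝒢 : Set (Subgroup GLk)} {x : EndM} (hx : x * x = 0) {T : Subgroup GLk}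
    {P : Set EndM} (hP : P ⊆ pieces 𝒢 x) (hT : ∀ p ∈ P, ∀ c : k, Mem1 T (c • p))
    {r : EndM} (hr : r ∈ AddSubmonoid.closure P) :
    (∀ c : k, Mem1 T (c • r)) ∧ LinearMap.range r ≤ LinearMap.range x ∧
      LinearMap.ker x ≤ LinearMap.ker r := by
  induction hr using AddSubmonoid.closure_induction with
  | mem p hp => exact ⟨hT p hp, (hP hp).1, (hP hp).2.1⟩
  | zero => exact ⟨fun c => by rw [smul_zero]; exact mem1_zero _, by simp, by simp⟩
  | add p q _ _ ihp ihq =>
    refine ⟨smul_mem1_add ihp.1 ihq.1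
      (mul_eq_zero_iff.mpr (ihq.2.1.trans ((range_le_ker hx).trans ihp.2.2))), ?_, fun m hm => ?_⟩
    · rintro _ ⟨m, rfl⟩
      exact add_mem (ihp.2.1 ⟨m, rfl⟩) (ihq.2.1 ⟨m, rfl⟩)
    · show p m + q m = 0
      rw [show p m = 0 from ihp.2.2 hm, show q m = 0 from ihq.2.2 hm, add_zero]

theorem generated {𝒢 : Set (Subgroup GLk)} (hgen : Subgroup.closure (quadraticElements G) = G)
    (hf : Factors G 𝒢) : (⨆ X ∈ 𝒢, X) = G := by
  refine le_antisymm (iSup₂_le hf.le) ?_
  nth_rewrite 1 [← hgen]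
  rw [Subgroup.closure_le]
  intro t ht
  obtain ⟨p1, p2, p3⟩ := mem_quadratic_iff.mp ht
  obtain ⟨g, hg, e⟩ := (mem1_sum (T := ⨆ X ∈ 𝒢, X) p1 subset_rfl (fun p ⟨_, _, X, hX, hX'⟩ c =>
    let ⟨g, hg, e⟩ := hX' c; ⟨g, (le_iSup₂_of_le X hX le_rfl : X ≤ _) hg, e⟩)
    (hf.split _ ⟨p1, p3⟩)).1 1
  rwa [show t = g from Units.ext (by rw [e, one_smul]; abel)]

/-- In the irreducible case every quadratic element lies in one factor. -/
theorem quadratic_mem {𝒢 : Set (Subgroup GLk)} (hG : IsQuadraticPair G) (hf : Factors G 𝒢)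
    {t : GLk} (ht : t ∈ quadraticElements G) : ∃ X ∈ 𝒢, t ∈ X := by
  obtain ⟨p1, p2, p3⟩ := mem_quadratic_iff.mp ht
  have hsplit := hf.split _ ⟨p1, p3⟩
  have hGsup := generated h2 h3 hG.2 hf
  by_cases hex : ∃ p ∈ pieces 𝒢 ((t : EndM) - 1), p ≠ 0
  swap
  · push Not at hex
    refine absurd ?_ p2
    have h0 : AddSubmonoid.closure (pieces 𝒢 ((t : EndM) - 1)) ≤ ⊥ :=
      AddSubmonoid.closure_le.mpr (fun p hp => by simpa using hex p hp)
    have := h0 hsplit
    simpa using this
  obtain ⟨p, hp, hp0⟩ := hex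
  obtain ⟨hpr, hpk, X, hX, hpX⟩ := hp
  refine ⟨X, hX, ?_⟩
  have hinv : ∀ g ∈ G, conjBy X g = X := by
    have : G ≤ Subgroup.normalizer (X : Set GLk) := by
      rw [← hGsup]
      refine iSup₂_le fun Y hY g hg => RankOne.conjBy_eq_iff_mem_normalizer.mp ?_
      rcases eq_or_ne Y X with rfl | hne
      · exact RankOne.conjBy_of_mem hg
      · exact RankOne.conjBy_of_comm fun u hu => commutatorElement_eq_one_iff_mul_comm.mp
          (Subgroup.mem_bot.mp (hf.commute Y hY X hX hne ▸ Subgroup.commutator_mem_commutator hg hu))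
    exact fun g hg => RankOne.conjBy_eq_iff_mem_normalizer.mpr (this hg)
  obtain ⟨u, hu, eu⟩ := hpX 1
  rw [one_smul] at eu
  have hpp : p * p = 0 := pieces_mul p1 ⟨hpr, hpk, X, hX, hpX⟩ ⟨hpr, hpk, X, hX, hpX⟩
  -- `1 + p` is not central
  have hnc : ¬ ∀ h ∈ X, u * h = h * u := by
    intro hc
    have hall : ∀ g ∈ G, u * g = g * u := by
      have : G ≤ Subgroup.centralizer ({u} : Set GLk) := by
        rw [← hGsup]
        refine iSup₂_le fun Y hY g hg => Subgroup.mem_centralizer_iff.mpr fun _ h => h ▸ ?_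
        rcases eq_or_ne X Y with rfl | hne
        · exact hc g hg
        · exact commutatorElement_eq_one_iff_mul_comm.mp
            (Subgroup.mem_bot.mp (hf.commute X hX Y hY hne ▸ Subgroup.commutator_mem_commutator hu hg))
      exact fun g hg => Subgroup.mem_centralizer_iff.mp (this hg) u rfl
    have hinvk : ∀ g ∈ G, ∀ v ∈ LinearMap.ker p, (g : EndM) v ∈ LinearMap.ker p := by
      intro g hg v hv
      have := congrArg (fun s : GLk => (s : EndM) v) (hall g hg)
      simp only [Units.val_mul, eu, Module.End.mul_apply, LinearMap.add_apply, Module.End.one_apply,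
        show p v = 0 from hv, add_zero, add_eq_left] at this
      exact this
    rcases hG.1.2 _ hinvk with h | h
    · exact hp0 (LinearMap.range_eq_bot.mp (le_bot_iff.mp ((range_le_ker hpp).trans h.le)))
    · exact hp0 (LinearMap.ker_eq_top.mp h)
  -- pieces outside `X` vanish
  have hout : ∀ q ∈ pieces 𝒢 ((t : EndM) - 1), ∀ c : k, Mem1 X (c • q) := by
    rintro q ⟨hqr, hqk, Y, hY, hqY⟩
    rcases eq_or_ne Y X with rfl | hne
    · exact hqY
    intro c
    suffices hq0 : q = 0 by rw [hq0, smul_zero]; exact mem1_zero _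
    obtain ⟨v, hv, ev⟩ := hqY 1
    rw [one_smul] at ev
    have hcomm : ∀ g ∈ X, (g : EndM) * q = q * (g : EndM) := by
      intro g hg
      have := congrArg (fun s : GLk => (s : EndM)) (commutatorElement_eq_one_iff_mul_comm.mp
        (Subgroup.mem_bot.mp (hf.commute Y hY X hX hne ▸ Subgroup.commutator_mem_commutator hv hg)))
      simp only [Units.val_mul, ev, add_mul, mul_add, one_mul, mul_one] at this
      linear_combination (norm := abel) -this
    have hpq : p * q = 0 := pieces_mul p1 ⟨hpr, hpk, X, hX, hpX⟩ ⟨hqr, hqk, Y, hY, hqY⟩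
    let Z : Subgroup X :=
      { carrier := {g | ((g : GLk) : EndM) * q = q}
        one_mem' := by simp
        mul_mem' := fun {a b} (ha : _ = q) (hb : _ = q) => by
          show ((a.1 * b.1 : GLk) : EndM) * q = q
          rw [Units.val_mul, mul_assoc, hb, ha]
        inv_mem' := fun {a} (ha : _ = q) => by
          show ((a.1⁻¹ : GLk) : EndM) * q = q
          nth_rewrite 1 [← ha]
          rw [← mul_assoc, Units.inv_mul, one_mul] }
    have hZn : Z.Normal := ⟨fun g (hg : ((g : GLk) : EndM) * q = q) h => by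
      show ((h.1 * g.1 * h.1⁻¹ : GLk) : EndM) * q = q
      rw [Units.val_mul, Units.val_mul, mul_assoc, hcomm _ (inv_mem h.2), ← mul_assoc,
        mul_assoc (h.1 : EndM), hg, hcomm _ h.2, mul_assoc, Units.mul_inv, mul_one]⟩
    have huZ : (⟨u, hu⟩ : X) ∈ Z := by
      show (u : EndM) * q = q
      rw [eu, add_mul, one_mul, hpq, add_zero]
    obtain ⟨hperf, hsimp⟩ := hf.quasisimple X hX
    have htop : Z = ⊤ := by
      have hmap : Z.map (QuotientGroup.mk' (Subgroup.center X)) = ⊤ := by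
        refine ((hsimp.eq_bot_or_eq_top_of_normal _
          (hZn.map _ (QuotientGroup.mk'_surjective _)))).resolve_left fun hb => hnc ?_
        have h1 := Subgroup.mem_map_of_mem (QuotientGroup.mk' (Subgroup.center X)) huZ
        rw [hb, Subgroup.mem_bot] at h1
        have h' := Subgroup.mem_center_iff.mp ((QuotientGroup.eq_one_iff _).mp h1)
        exact fun h hh => (congrArg Subtype.val (h' ⟨h, hh⟩)).symm
      rw [eq_top_iff, ← hperf.commutator_eq_top, commutator_def, Subgroup.commutator_le]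
      intro a _ b _
      have hdec : ∀ a : X, ∃ z ∈ Z, ∃ d ∈ Subgroup.center X, a = z * d := fun a => by
        obtain ⟨z, hz, e⟩ : QuotientGroup.mk' (Subgroup.center X) a ∈
            Z.map (QuotientGroup.mk' (Subgroup.center X)) := hmap ▸ Subgroup.mem_top _
        obtain ⟨d, hd, rfl⟩ := (QuotientGroup.mk'_eq_mk' _).mp e
        exact ⟨z, hz, d, hd, rfl⟩
      obtain ⟨z, hz, d, hd, rfl⟩ := hdec a
      obtain ⟨z', hz', d', hd', rfl⟩ := hdec b
      have hd1 := Subgroup.mem_center_iff.mp hd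
      have hd2 := Subgroup.mem_center_iff.mp hd'
      rw [commutatorElement_def]
      have : z * d * (z' * d') * (z * d)⁻¹ * (z' * d')⁻¹ = z * z' * z⁻¹ * z'⁻¹ :=
        calc z * d * (z' * d') * (z * d)⁻¹ * (z' * d')⁻¹
            = z * (d * (z' * d' * d⁻¹)) * z⁻¹ * d'⁻¹ * z'⁻¹ := by group
          _ = z * z' * (d' * z⁻¹) * d'⁻¹ * z'⁻¹ := by rw [← hd1, inv_mul_cancel_right]; group
          _ = z * z' * z⁻¹ * z'⁻¹ := by rw [← hd2]; group
      rw [this]
      exact mul_mem (mul_mem (mul_mem hz hz') (inv_mem hz)) (inv_mem hz')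
    let F : Submodule k M := fixedSubmodule X
    have memF : ∀ {v}, v ∈ F ↔ ∀ g ∈ X, (g : EndM) v - v = 0 := by
      intro v; simp [F, fixedSubmodule, sub_eq_zero]
    have hFinv : ∀ g ∈ G, ∀ v ∈ F, (g : EndM) v ∈ F := by
      intro g hg v hv
      rw [memF] at hv ⊢
      intro s hs
      have hs' : g⁻¹ * s * g ∈ X := RankOne.mem_conjBy.mp ((hinv g hg).symm ▸ hs)
      have := congrArg (g : EndM) (hv _ hs')
      rw [map_sub, map_zero, ← Module.End.mul_apply, ← Units.val_mul, ← mul_assoc, ← mul_assoc,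
        mul_inv_cancel, one_mul, Units.val_mul, Module.End.mul_apply] at this
      exact this
    rcases hG.1.2 F hFinv with hb | hb
    · refine LinearMap.ext fun v => ?_
      have : q v ∈ F := memF.mpr fun g hg => by
        have hgZ : (⟨g, hg⟩ : X) ∈ Z := htop ▸ Subgroup.mem_top _
        exact sub_eq_zero.mpr (LinearMap.congr_fun (hgZ : (g : EndM) * q = q) v)
      rw [hb, Submodule.mem_bot] at this
      exact this
    · exfalso
      refine hnc fun h hh => ?_
      have h1 : ∀ g ∈ X, g = 1 := fun g hg => Units.ext (LinearMap.ext fun v =>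
        sub_eq_zero.mp (memF.mp (hb ▸ Submodule.mem_top : v ∈ F) g hg))
      rw [h1 u hu, h1 h hh]
  obtain ⟨g, hg, e⟩ := (mem1_sum p1 subset_rfl hout hsplit).1 1
  rwa [show t = g from Units.ext (by rw [e, one_smul]; abel)]

end CfsgLib.Perm.Quad.Decompose
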